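import Mathlib.Data.Nat.GCD.Basic
import Mathlib.Tactic.Ring
import Mathlib.Tactic.Linarith

/-!
# Divisors of `2 ^ n - 1` of the form `(2 ^ n - 1) / (2 ^ d - 1)`
-/

set_option autoImplicit false

namespace Cfsg.Agent.RealGraph

theorem two_mul_gcd_le {n j : ℕ} (hj : 0 < j) (hjn : j < n) : 2 * Nat.gcd j n ≤ n := by
  obtain ⟨k, hk⟩ := Nat.gcd_dvd_right j n
  have hg : Nat.gcd j n ≤ j := Nat.gcd_le_left n hj
  rcases k with _ | _ | k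
  · omega
  · omega
  · calc 2 * Nat.gcd j n = Nat.gcd j n * 2 := Nat.mul_comm _ _
      _ ≤ Nat.gcd j n * (k + 1 + 1) := Nat.mul_le_mul_left _ (by omega)
      _ = n := hk.symm

/-- A cofactor of `2 ^ d - 1` in `2 ^ n - 1` divides no smaller `2 ^ j - 1`. -/
theorem not_dvd_sub_one {M d n j : ℕ} (h : M * (2 ^ d - 1) = 2 ^ n - 1) (hM : 1 < M) (hj : 0 < j)
    (hjn : j < n) : ¬ M ∣ 2 ^ j - 1 := by
  intro hMj
  have hn1 : 2 ≤ 2 ^ n := Nat.le_self_pow (by omega) 2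
  have hd0 : 0 < d := by
    rcases Nat.eq_zero_or_pos d with rfl | h0
    · simp at h
      omega
    · exact h0
  have hd1 : 2 ≤ 2 ^ d := Nat.le_self_pow hd0.ne' 2
  have hdn : d < n := by
    by_contra hle
    have h1 : 2 ^ n ≤ 2 ^ d := Nat.pow_le_pow_right two_pos (by omega)
    have h2 : 2 * (2 ^ d - 1) ≤ M * (2 ^ d - 1) := Nat.mul_le_mul_right _ hM
    omega
  have hMg : M ∣ 2 ^ Nat.gcd j n - 1 := by
    rw [← Nat.pow_sub_one_gcd_pow_sub_one]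
    exact Nat.dvd_gcd hMj (h ▸ dvd_mul_right _ _)
  have hdg : 2 ^ d - 1 ∣ 2 ^ Nat.gcd d n - 1 := by
    rw [← Nat.pow_sub_one_gcd_pow_sub_one]
    exact Nat.dvd_gcd dvd_rfl (h ▸ dvd_mul_left _ _)
  have hg0 := Nat.gcd_pos_of_pos_left n hj
  have hg0' := Nat.gcd_pos_of_pos_left n hd0
  have hsum : Nat.gcd j n + Nat.gcd d n ≤ n := by
    have := two_mul_gcd_le hj hjn
    have := two_mul_gcd_le hd0 hdn
    omega
  have hx : 2 ≤ 2 ^ Nat.gcd j n := Nat.le_self_pow hg0.ne' 2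
  have hy : 2 ≤ 2 ^ Nat.gcd d n := Nat.le_self_pow hg0'.ne' 2
  have h3 : 2 ^ n - 1 ≤ (2 ^ Nat.gcd j n - 1) * (2 ^ Nat.gcd d n - 1) :=
    h ▸ Nat.mul_le_mul (Nat.le_of_dvd (by omega) hMg) (Nat.le_of_dvd (by omega) hdg)
  have h4 : 2 ^ Nat.gcd j n * 2 ^ Nat.gcd d n ≤ 2 ^ n :=
    (pow_add 2 _ _).symm.trans_le (Nat.pow_le_pow_right two_pos hsum)
  obtain ⟨a, ha⟩ : ∃ a, 2 ^ Nat.gcd j n = a + 2 := ⟨_, (Nat.sub_add_cancel hx).symm⟩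
  obtain ⟨b, hb⟩ : ∃ b, 2 ^ Nat.gcd d n = b + 2 := ⟨_, (Nat.sub_add_cancel hy).symm⟩
  rw [ha, hb] at h3 h4
  have e1 : (a + 2 - 1) * (b + 2 - 1) = a * b + a + b + 1 := by
    rw [show a + 2 - 1 = a + 1 by omega, show b + 2 - 1 = b + 1 by omega]
    ring
  rw [e1] at h3
  nlinarith [Nat.sub_add_cancel (show 1 ≤ 2 ^ n by omega)]

end Cfsg.Agent.RealGraph
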