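import Cfsg.Agent.Lib.RealGraph.Six

/-!
# The linear group: the subgroup generated by the 2-elements and solubility
-/

set_option autoImplicit false
set_option linter.style.haveILetI false
set_option linter.unusedSectionVars false

namespace Cfsg.Agent.RealGraph

open Cfsg.Agent

universe u

variable {D E : Type u} [Group D] [Finite D] [AddCommGroup E] [Finite E] [Nontrivial E]
  [DistribMulAction D E] [FaithfulSMul D E]

namespace Setting

variable {P1 : ℕ → Prop}

theorem linear (S : Setting E P1 (D := D)) :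
    (∀ r : ℕ, r.Prime → r ≠ 2 → P1 r →
      ∀ g ∈ Subgroup.closure {g : D | ∃ k : ℕ, g ^ 2 ^ k = 1}, orderOf g ≠ r) ∧
      Group.IsSolvable D := by
  classical
  obtain ⟨n, hn, hE, hhalf⟩ := S.exists_half
  have hor : (∃ C : Subgroup D, Hyp E C) ∨
      ((∀ r : ℕ, r.Prime → r ≠ 2 → P1 r → ¬ r ∣ Nat.card D) ∧ Group.IsSolvable D) := by
    by_cases h3 : n = 3
    · subst h3
      exact S.six hE hhalf
    · exact Or.inl (S.exists_hyp_generic hn hE h3)
  rcases hor with ⟨C, hC⟩ | ⟨hno, hsol⟩
  swap
  · exact ⟨fun r hr hr2 hP g _ hg => hno r hr hr2 hP (hg ▸ orderOf_dvd_natCard g), hsol⟩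
  haveI := core S.base hC
  haveI := hC.cyc
  have hker : (MulAut.conjNormal (H := C)).ker = C := by
    ext g
    constructor
    · intro hg
      refine hC.cent fun u hu => ?_
      have h1 := congrArg Subtype.val (DFunLike.congr_fun hg ⟨u, hu⟩)
      rw [MulAut.conjNormal_apply] at h1
      exact (mul_inv_eq_iff_eq_mul.1 h1).symm
    · intro hg
      rw [MonoidHom.mem_ker]
      refine MulEquiv.ext fun u => Subtype.ext ?_
      rw [MulAut.conjNormal_apply]
      exact mul_inv_eq_iff_eq_mul.2 (hC.comm hg u.2)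
  have hcomm : ∀ a b : MulAut C, a * b = b * a := fun a b => by
    let e := IsCyclic.mulAutMulEquiv C
    exact e.injective (by rw [map_mul, map_mul, mul_comm])
  refine ⟨fun r hr hr2 hP g hg hgo => ?_, ?_⟩
  · have hp : ∀ y ∈ Subgroup.closure {g : D | ∃ k : ℕ, g ^ 2 ^ k = 1},
        ∃ k : ℕ, (MulAut.conjNormal (H := C) y) ^ 2 ^ k = 1 := by
      intro y hy
      induction hy using Subgroup.closure_induction with
      | mem y hy =>
        obtain ⟨k, hk⟩ := hy
        exact ⟨k, by rw [← map_pow, hk, map_one]⟩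
      | one => exact ⟨0, by simp⟩
      | mul a b _ _ iha ihb =>
        obtain ⟨i, hi⟩ := iha
        obtain ⟨j, hj⟩ := ihb
        refine ⟨i + j, ?_⟩
        rw [map_mul, Commute.mul_pow (hcomm _ _), pow_add, pow_mul, hi, one_pow, one_mul, mul_comm,
          pow_mul, hj, one_pow]
      | inv a _ iha =>
        obtain ⟨i, hi⟩ := iha
        exact ⟨i, by rw [map_inv, inv_pow, hi, inv_one]⟩
    obtain ⟨k, hk⟩ := hp g hg
    have h1 : MulAut.conjNormal (H := C) g = 1 := orderOf_eq_one_iff.1
      (Nat.eq_one_of_dvd_coprimes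
        (Nat.Coprime.pow_left k ((Nat.coprime_primes Nat.prime_two hr).2 hr2.symm))
        (orderOf_dvd_of_pow_eq_one hk) (hgo ▸ orderOf_map_dvd _ g))
    have hgC : g ∈ C := hker.le (MonoidHom.mem_ker.2 h1)
    obtain ⟨e, he⟩ := exists_ne (0 : E)
    refine S.orbit e he r hr ?_ hP
    rw [hC.card_orbit he, ← hgo]
    exact Subgroup.orderOf_dvd_natCard _ hgC
  · haveI : Group.IsSolvable C := Group.isSolvable_of_comm fun a b => Subtype.ext (hC.comm a.2 b.2)
    haveI : Group.IsSolvable (MulAut C) := Group.isSolvable_of_comm hcomm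
    exact Group.isSolvable_of_ker_le_range C.subtype (MulAut.conjNormal (H := C))
      (by rw [Subgroup.range_subtype, hker])

end Setting

end Cfsg.Agent.RealGraph
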