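import Cfsg.Agent.Lib.RealGraph.Classes
import Cfsg.Agent.Lib.RealGraph.Linear
import Cfsg.Agent.Lib.OddDown.ClassSizeSol

/-!
# The two branches: a class of involutions of the odd side commuting or not
-/

set_option autoImplicit false
set_option linter.style.haveILetI false
set_option linter.unusedSectionVars false

namespace Cfsg.Agent.RealGraph

open Cfsg.Agent
open Cfsg.Agent.ClassGraph (sz InSide mem_cent card_class sz_conj sz_one_iff exists_mul_of_coprime)

universe u

variable {G : Type u} [Group G] [Finite G]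

variable (G) in
/-- The subgroup generated by the 2-elements. -/
def twoGen : Subgroup G := Subgroup.closure {g : G | ∃ k : ℕ, orderOf g = 2 ^ k}

theorem twoGen_normal : (twoGen G).Normal := ⟨fun y hy c => by
  unfold twoGen at hy ⊢
  induction hy using Subgroup.closure_induction with
  | mem y hy =>
    obtain ⟨k, hk⟩ := hy
    exact Subgroup.subset_closure ⟨k, by rw [ClassGraph.orderOf_conj', hk]⟩
  | one => simp [one_mem]
  | mul p q _ _ hp hq => rw [← conj_mul]; exact mul_mem hp hq
  | inv p _ hp => rw [← conj_inv]; exact inv_mem hp⟩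

theorem twoGen_odd : Odd (twoGen G).index := by
  haveI : Fact (Nat.Prime 2) := ⟨Nat.prime_two⟩
  obtain ⟨P⟩ : Nonempty (Sylow 2 G) := inferInstance
  have hle : (P : Subgroup G) ≤ twoGen G := fun y hy => by
    obtain ⟨k, hk⟩ := IsPGroup.iff_orderOf.1 P.isPGroup' ⟨y, hy⟩
    exact Subgroup.subset_closure ⟨k, by rw [← hk, Subgroup.orderOf_mk]⟩
  rw [Nat.odd_iff, ← Nat.two_dvd_ne_zero]
  exact fun h => P.not_dvd_index (h.trans (Subgroup.index_dvd_of_le hle))

theorem twoGen_le {N : Subgroup G} (h : ∀ g : G, (∃ k : ℕ, orderOf g = 2 ^ k) → g ∈ N) :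
    twoGen G ≤ N := (Subgroup.closure_le N).2 h

theorem mem_twoGen_of_real {x : G} (hx : IsConj x x⁻¹) : x ∈ twoGen G := by
  haveI := twoGen_normal (G := G)
  obtain ⟨h, -⟩ := (Cfsg.Agent.S3863.result x hx).2.2 (twoGen G) twoGen_odd
  exact h

variable (G) in
/-- What both branches prove. -/
structure Outcome (P1 : ℕ → Prop) : Prop where
  free : ∀ r : ℕ, r.Prime → r ≠ 2 → P1 r → ¬ r ∣ Nat.card (twoGen G)
  solvable : Group.IsSolvable G
  witness : ∃ b x : G, IsConj b b⁻¹ ∧ InSide (fun q => ¬ P1 q) b ∧ x ∈ twoGen G ∧ b * x ≠ x * b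

variable {P1 : ℕ → Prop}

theorem branch_noncomm (S : Split G P1) (h2 : P1 2)
    (hx₀ : ∃ x : G, x ≠ 1 ∧ Odd (orderOf x) ∧ IsConj x x⁻¹) {t : G} (ht : IsConj t t⁻¹)
    (htS : InSide (fun q => ¬ P1 q) t)
    (hnc : ¬ ∀ b₁ b₂, IsConj t b₁ → IsConj t b₂ → b₁ * b₂ = b₂ * b₁) : Outcome G P1 := by
  have htt : ∀ {b}, IsConj t b → b * b = 1 := fun {b} hb =>
    sq_right h2 (real_conj hb ht) (inSide_conj hb htS)
  have hsq : ∀ y : G, Odd (orderOf y) → y * y = 1 → y = 1 := fun y hy h =>
    orderOf_eq_one_iff.1 (Nat.eq_one_of_dvd_coprimes (Nat.coprime_two_right.2 hy) dvd_rfl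
      (orderOf_dvd_of_pow_eq_one (by rw [pow_two, h])))
  -- every real element of odd order is inverted by the class of `t`
  have hinv : ∀ y : G, Odd (orderOf y) → IsConj y y⁻¹ → ∀ b, IsConj t b → b * y * b⁻¹ = y⁻¹ := by
    intro y hy hyr b hb
    by_cases hy1 : y = 1
    · subst hy1; simp
    have hyS : InSide P1 y := left_of_sq_ne S h2 hyr fun h => hy1 (hsq y hy h)
    rcases S.split _ (real_mul h2 hyr hyS ht htS) with h | h
    · exact absurd (moves_of_left h2 hyS ht htS h).2 hnc
    · exact inverts_of_right h2 hyr hyS ht htS h (IsConj.refl y) hb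
  have hsq' : ∀ y y' : G, Odd (orderOf y) → IsConj y y⁻¹ → Odd (orderOf y') → IsConj y' y'⁻¹ →
      y * y' = y' * y := by
    intro y y' hy hyr hy' hyr'
    have ht1 : IsConj t (y * t * y⁻¹) := isConj_iff.2 ⟨y, rfl⟩
    have e : t * (y * t * y⁻¹) = (y * y)⁻¹ := by
      have h1 := hinv y hy hyr t (IsConj.refl t)
      have hti : t⁻¹ = t := inv_eq_of_mul_eq_one_right (htt (IsConj.refl t))
      calc t * (y * t * y⁻¹) = t * y * t⁻¹ * y⁻¹ := by rw [hti]; group
        _ = (y * y)⁻¹ := by rw [h1]; group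
    have h2' : (y * y)⁻¹ * y' * ((y * y)⁻¹)⁻¹ = y' := by
      rw [← e]
      calc t * (y * t * y⁻¹) * y' * (t * (y * t * y⁻¹))⁻¹
          = t * ((y * t * y⁻¹) * y' * (y * t * y⁻¹)⁻¹) * t⁻¹ := by group
        _ = y' := by rw [hinv y' hy' hyr' _ ht1, ← conj_inv, hinv y' hy' hyr' t (IsConj.refl t), inv_inv]
    have h3 : Commute (y * y) y' := Commute.inv_left_iff.1 (mul_inv_eq_iff_eq_mul.1 h2')
    obtain ⟨m, hm⟩ := hy
    have h4 : (y * y) ^ (m + 1) = y := by
      rw [← pow_two, ← pow_mul, show 2 * (m + 1) = orderOf y + 1 by omega, pow_succ,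
        pow_orderOf_eq_one, one_mul]
    rw [← h4]
    exact (h3.pow_left _).eq
  let Y : Subgroup G :=
    { carrier := {y | Odd (orderOf y) ∧ IsConj y y⁻¹}
      one_mem' := ⟨by simp, by simp⟩
      mul_mem' := fun {a b} ha hb => by
        have hc := hsq' a b ha.1 ha.2 hb.1 hb.2
        refine ⟨(ha.1.mul hb.1).of_dvd_nat (Commute.orderOf_mul_dvd_mul_orderOf hc), real_of_inv (g := t) ?_⟩
        rw [← conj_mul, hinv a ha.1 ha.2 t (IsConj.refl t), hinv b hb.1 hb.2 t (IsConj.refl t), hc,
          mul_inv_rev]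
      inv_mem' := fun {a} ha => ⟨by rw [orderOf_inv]; exact ha.1, by rw [inv_inv]; exact ha.2.symm⟩ }
  have hYmem : ∀ {y}, y ∈ Y ↔ Odd (orderOf y) ∧ IsConj y y⁻¹ := fun {y} => Iff.rfl
  haveI hYn : Y.Normal := ⟨fun y hy c => ⟨by rw [ClassGraph.orderOf_conj']; exact hy.1,
    real_conj (isConj_iff.2 ⟨c, rfl⟩) hy.2⟩⟩
  -- the order of `Y` divides the class size of `t`
  have hYt : Nat.card Y ∣ sz t := by
    have h := relIndex_dvd_index Y (Subgroup.centralizer ({t} : Set G))
    have hbot : (Subgroup.centralizer ({t} : Set G)).subgroupOf Y = ⊥ := by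
      refine (Subgroup.eq_bot_iff_forall _).2 fun y hy => Subtype.ext ?_
      have hc : t * (y : G) = y * t := mem_cent.1 hy
      have h1 := hinv y y.2.1 y.2.2 t (IsConj.refl t)
      rw [hc, mul_inv_cancel_right] at h1
      exact hsq _ y.2.1 (mul_eq_one_iff_eq_inv.2 h1)
    have h1 : (Subgroup.centralizer ({t} : Set G)).relIndex Y = Nat.card Y := by
      show ((Subgroup.centralizer ({t} : Set G)).subgroupOf Y).index = _
      rw [hbot, Subgroup.index_bot]
    rwa [h1] at h
  -- the quotient has a normal Sylow 2-subgroup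
  set f := QuotientGroup.mk' Y with hf
  have hno : ∀ x g : G ⧸ Y, Odd (orderOf x) → g * x * g⁻¹ = x⁻¹ → x = 1 := by
    intro x g hx hg
    by_contra hx1
    obtain ⟨r, hr, hrx⟩ := Nat.exists_prime_and_dvd (mt orderOf_eq_one_iff.1 hx1)
    have ho := orderOf_pow_orderOf_div (orderOf_pos x).ne' hrx
    obtain ⟨y, hyo, hyr, hyx⟩ := exists_real_lift f (QuotientGroup.mk'_surjective Y)
      (x := x ^ (orderOf x / r)) (t := g) (k := 1) hr (fun h => hx.not_two_dvd_nat (h ▸ hrx))
      (by rw [ho, pow_one]) (by rw [← conj_pow, hg, inv_pow])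
    have : f y = 1 := (QuotientGroup.eq_one_iff y).2 ⟨hyo, hyr⟩
    rw [← hyx, this, orderOf_one] at ho
    exact hr.one_lt.ne ho
  obtain ⟨P⟩ : Nonempty (Sylow 2 (G ⧸ Y)) := inferInstance
  have hPn := two_closed_of_no_real hno P
  haveI : Fact (Nat.Prime 2) := ⟨Nat.prime_two⟩
  refine ⟨?_, ?_, ?_⟩
  · intro r hr hr2 hP hrK
    haveI := Fact.mk hr
    obtain ⟨⟨g, hgK⟩, hg⟩ := exists_prime_orderOf_dvd_card' r hrK
    rw [Subgroup.orderOf_mk] at hg
    have hle : twoGen G ≤ (P : Subgroup (G ⧸ Y)).comap f := twoGen_le fun s ⟨k, hk⟩ => by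
      obtain ⟨T, hT⟩ := (isPGroup_zpowers (g := f s) (k := k)
        (by rw [← map_pow, ← hk, pow_orderOf_eq_one, map_one])).exists_le_sylow
      haveI := P.unique_of_normal hPn
      rw [Subsingleton.elim T P] at hT
      exact hT (Subgroup.mem_zpowers _)
    obtain ⟨i, hi⟩ := P.isPGroup' ⟨f g, hle hgK⟩
    have h1 : f g = 1 := orderOf_eq_one_iff.1 (Nat.eq_one_of_dvd_coprimes
      (Nat.Coprime.pow_left i ((Nat.coprime_primes Nat.prime_two hr).2 hr2.symm))
      (orderOf_dvd_of_pow_eq_one (congrArg Subtype.val hi)) (hg ▸ orderOf_map_dvd f g))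
    exact htS r hr ((hg ▸ Subgroup.orderOf_dvd_natCard _ ((QuotientGroup.eq_one_iff g).1 h1)).trans hYt) hP
  · haveI : Group.IsSolvable (G ⧸ Y) := solvable_of_two_closed P hPn
    haveI : Group.IsSolvable Y := Group.isSolvable_of_comm fun a b =>
      Subtype.ext (hsq' a b a.2.1 a.2.2 b.2.1 b.2.2)
    exact Group.isSolvable_of_ker_le_range Y.subtype f (by rw [QuotientGroup.ker_mk', Subgroup.range_subtype])
  · obtain ⟨x, hx1, hx, hxr⟩ := hx₀
    refine ⟨t, x, ht, htS, mem_twoGen_of_real hxr, fun hc => hx1 (hsq x hx ?_)⟩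
    have h1 := hinv x hx hxr t (IsConj.refl t)
    rw [hc, mul_inv_cancel_right] at h1
    exact mul_eq_one_iff_eq_inv.2 h1

theorem branch_comm (S : Split G P1) (h2 : P1 2)
    (hx₀ : ∃ x : G, x ≠ 1 ∧ Odd (orderOf x) ∧ IsConj x x⁻¹) {t : G} (ht : IsConj t t⁻¹)
    (htS : InSide (fun q => ¬ P1 q) t) (ht1 : sz t ≠ 1)
    (hcomm : ∀ b₁ b₂, IsConj t b₁ → IsConj t b₂ → b₁ * b₂ = b₂ * b₁) : Outcome G P1 := by
  classical
  have htt : ∀ {b}, IsConj t b → b * b = 1 := fun {b} hb =>
    sq_right h2 (real_conj hb ht) (inSide_conj hb htS)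
  have hsq : ∀ y : G, Odd (orderOf y) → y * y = 1 → y = 1 := fun y hy h =>
    orderOf_eq_one_iff.1 (Nat.eq_one_of_dvd_coprimes (Nat.coprime_two_right.2 hy) dvd_rfl
      (orderOf_dvd_of_pow_eq_one (by rw [pow_two, h])))
  -- the elementary abelian group generated by the class of `t`
  set E₀ : Subgroup G := Subgroup.closure {b | IsConj t b} with hE₀
  have hE0comm : ∀ a ∈ E₀, ∀ b ∈ E₀, a * b = b * a := by
    intro a ha b hb
    exact Subgroup.closure_induction₂ (p := fun x y _ _ => x * y = y * x)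
      (fun x y hx hy => hcomm x y hx hy) (fun x _ => by simp) (fun x _ => by simp)
      (fun x y z _ _ _ h1 h2 => (Commute.mul_left h1 h2).eq)
      (fun x y z _ _ _ h1 h2 => (Commute.mul_right h1 h2).eq)
      (fun x y _ _ h => (Commute.inv_left h).eq) (fun x y _ _ h => (Commute.inv_right h).eq) ha hb
  have hE0sq : ∀ a ∈ E₀, a * a = 1 := by
    intro a ha
    induction ha using Subgroup.closure_induction with
    | mem x hx => exact htt hx
    | one => simp
    | mul x y hx hy h1 h2 =>
      rw [show x * y * (x * y) = x * (y * x) * y by group, hE0comm y hy x hx, ← mul_assoc x x y,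
        h1, one_mul, h2]
    | inv x _ h => rw [← mul_inv_rev, h, inv_one]
  have hE0n : ∀ a ∈ E₀, ∀ c : G, c * a * c⁻¹ ∈ E₀ := by
    intro a ha c
    induction ha using Subgroup.closure_induction with
    | mem x hx => exact Subgroup.subset_closure (hx.trans (isConj_iff.2 ⟨c, rfl⟩))
    | one => simp [one_mem]
    | mul x y _ _ h1 h2 => rw [← conj_mul]; exact mul_mem h1 h2
    | inv x _ h => rw [← conj_inv]; exact inv_mem h
  set L := pairSub t with hLdef
  haveI hLn : L.Normal := pairSub_normal t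
  have hLE : L ≤ E₀ := (Subgroup.closure_le _).2 fun y ⟨b₁, b₂, h₁, h₂, hy⟩ => by
    rw [hy]
    exact mul_mem (Subgroup.subset_closure h₁) (Subgroup.subset_closure h₂)
  -- real elements of odd order translate into their class and have no fixed points on `L`
  have hfpf : ∀ x : G, x ≠ 1 → Odd (orderOf x) → IsConj x x⁻¹ → ∀ l ∈ L, x * l = l * x → l = 1 := by
    intro x hx1 hx hxr l hl hxl
    have hxS : InSide P1 x := left_of_sq_ne S h2 hxr fun h => hx1 (hsq x hx h)
    have hmv : ∀ a', IsConj x a' → ∀ l ∈ L, IsConj x (a' * l) := by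
      rcases S.split _ (real_mul h2 hxr hxS ht htS) with h | h
      · exact (moves_of_left h2 hxS ht htS h).1
      · exfalso
        have h1 := inverts_of_right h2 hxr hxS ht htS h (IsConj.refl x) (IsConj.refl t)
        have htE : t ∈ E₀ := Subgroup.subset_closure (IsConj.refl t)
        have h3 : t * (x * t⁻¹ * x⁻¹) ∈ E₀ := mul_mem htE (hE0n _ (inv_mem htE) x)
        rw [show t * (x * t⁻¹ * x⁻¹) = t * x * t⁻¹ * x⁻¹ by group, h1, ← mul_inv_rev,
          inv_mem_iff] at h3
        have h4 := hE0sq _ h3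
        have h5 : Odd (orderOf (x * x)) := by
          rw [← pow_two]
          exact hx.of_dvd_nat (orderOf_pow_dvd 2)
        exact hx1 (hsq x hx (hsq _ h5 h4))
    obtain ⟨c, hc⟩ := isConj_iff.1 (hmv x (IsConj.refl x) l hl)
    have h1 : orderOf (x * l) = orderOf x := by rw [← hc, ClassGraph.orderOf_conj']
    have h3 := pow_orderOf_eq_one (x * l)
    rw [h1, Commute.mul_pow hxl, pow_orderOf_eq_one, one_mul] at h3
    exact orderOf_eq_one_iff.1 (Nat.eq_one_of_dvd_coprimes (Nat.coprime_two_right.2 hx)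
      (orderOf_dvd_of_pow_eq_one h3) (orderOf_dvd_of_pow_eq_one (by rw [pow_two, hE0sq l (hLE hl)])))
  obtain ⟨b', hb', hbne⟩ : ∃ b', IsConj t b' ∧ b' ≠ t := by
    by_contra hall
    push Not at hall
    exact ht1 (sz_eq_one_of_class hall)
  have htb : t * b' ∈ L := Subgroup.subset_closure ⟨t, b', IsConj.refl t, hb', rfl⟩
  have htb1 : t * b' ≠ 1 := fun h => hbne (by
    rw [← inv_eq_of_mul_eq_one_right h, inv_eq_of_mul_eq_one_right (htt (IsConj.refl t))])
  obtain ⟨x₀, hx₀1, hx₀o, hx₀r⟩ := hx₀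
  -- the class sizes of the elements of `L`
  have hlS : ∀ l ∈ L, l ≠ 1 → InSide (fun q => ¬ P1 q) l := by
    intro l hl hl1
    have hll : l * l = 1 := hE0sq l (hLE hl)
    have hlr : IsConj l l⁻¹ := by rw [inv_eq_of_mul_eq_one_right hll]
    have hcl : ∀ {l'}, IsConj l l' → l' ∈ L := fun {l'} h => by
      obtain ⟨c, rfl⟩ := isConj_iff.1 h
      exact hLn.conj_mem l hl c
    refine (S.split l hlr).resolve_left fun hlS => ?_
    rcases S.split _ (real_mul h2 hlr hlS ht htS) with h | h
    · have h1 := (moves_of_left h2 hlS ht htS h).1 l (IsConj.refl l) l hl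
      rw [hll] at h1
      exact hl1 (isConj_one_left.1 h1)
    · have hmv : ∀ b, IsConj t b → ∀ y ∈ pairSub l, IsConj t (b * y) :=
        closure_moves fun b hb s ⟨l₁, l₂, h₁, h₂, hs⟩ => by
          have hco : (sz l).Coprime (sz (l * t)) := coprime_of_sides hlS h
          have h3 := prod_conj hco h₁ (prod_conj (coprime_of_sides hlS htS) h₂ hb)
          rw [← mul_assoc l l t, hll, one_mul] at h3
          rw [hs, hE0comm b (Subgroup.subset_closure hb) _
            (mul_mem (hLE (hcl h₁)) (hLE (hcl h₂))), mul_assoc]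
          exact h3
      have hone : ∀ l', IsConj l l' → l' = l := fun l' hl' => by
        have h4 : l * l' ∈ pairSub l := Subgroup.subset_closure ⟨l, l', IsConj.refl l, hl', rfl⟩
        have h5 : l * l' = 1 := orderOf_eq_one_iff.1 (Nat.eq_one_of_dvd_coprimes (b := 2)
          (Nat.coprime_two_right.2 (Nat.odd_iff.2 (Nat.two_dvd_ne_zero.1 fun h6 =>
            htS 2 Nat.prime_two h6 h2)))
          ((Subgroup.orderOf_dvd_natCard _ h4).trans (card_dvd_sz hmv))
          (orderOf_dvd_of_pow_eq_one (by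
            rw [pow_two]; exact hE0sq _ (mul_mem (hLE hl) (hLE (hcl hl'))))))
        rw [← inv_eq_of_mul_eq_one_right h5, inv_eq_of_mul_eq_one_right hll]
      exact hl1 (hfpf x₀ hx₀1 hx₀o hx₀r l hl
        (Subgroup.mem_center_iff.1 (sz_one_iff.1 (sz_eq_one_of_class hone)) x₀))
  -- the action on `L`
  letI : CommGroup L := { (inferInstance : Group L) with
    mul_comm := fun a b => Subtype.ext (hE0comm a (hLE a.2) b (hLE b.2)) }
  letI : DistribMulAction G (Additive L) :=
    { smul := fun g a => Additive.ofMul (MulAut.conjNormal g (Additive.toMul a))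
      one_smul := fun a => congrArg Additive.ofMul
        (show MulAut.conjNormal (1 : G) (Additive.toMul a) = Additive.toMul a by rw [map_one]; rfl)
      mul_smul := fun g h a => congrArg Additive.ofMul
        (show MulAut.conjNormal (g * h) (Additive.toMul a) =
          MulAut.conjNormal g (MulAut.conjNormal h (Additive.toMul a)) by rw [map_mul]; rfl)
      smul_zero := fun g => congrArg Additive.ofMul (map_one (MulAut.conjNormal g : MulAut L))
      smul_add := fun g a b => congrArg Additive.ofMul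
        (map_mul (MulAut.conjNormal g : MulAut L) (Additive.toMul a) (Additive.toMul b)) }
  have hsmul : ∀ (g : G) (a : L), g • Additive.ofMul a = Additive.ofMul a ↔ g * (a : G) = a * g := by
    intro g a
    show Additive.ofMul (MulAut.conjNormal g a) = Additive.ofMul a ↔ _
    rw [Equiv.apply_eq_iff_eq, Subtype.ext_iff, MulAut.conjNormal_apply, mul_inv_eq_iff_eq_mul]
  let ψ : G →* (AddMonoid.End (Additive L))ˣ :=
    (DistribMulAction.toAddMonoidEnd G (Additive L)).toHomUnits
  let D : Subgroup (AddMonoid.End (Additive L))ˣ := ψ.range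
  letI : DistribMulAction D (Additive L) :=
    DistribMulAction.compHom _ ((Units.coeHom _).comp D.subtype)
  haveI : Finite (AddMonoid.End (Additive L)) :=
    Finite.of_injective (fun f => (f : Additive L → Additive L)) DFunLike.coe_injective
  haveI : FaithfulSMul D (Additive L) :=
    ⟨fun {a b} hab => Subtype.ext (Units.ext (AddMonoidHom.ext hab))⟩
  haveI : Nontrivial (Additive L) :=
    ⟨⟨Additive.ofMul ⟨t * b', htb⟩, Additive.ofMul 1,
      fun h => htb1 (congrArg (fun a : L => (a : G)) (Additive.ofMul.injective h))⟩⟩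
  let f : G →* D := ψ.rangeRestrict
  have hfs : Function.Surjective f := ψ.rangeRestrict_surjective
  have hf : ∀ (g : G) (e : Additive L), f g • e = g • e := fun g e => rfl
  set N := f.ker with hN
  have hNcent : ∀ g ∈ N, ∀ l ∈ L, g * l = l * g := fun g hg l hl => by
    refine (hsmul g ⟨l, hl⟩).1 ((hf g _).symm.trans ?_)
    rw [show f g = 1 from hg]
    exact one_smul D _
  -- centralisers of elements of `L`
  have hclosed : ∀ l ∈ L, l ≠ 1 → ∀ M : Subgroup G, (∀ g ∈ M, Odd (orderOf g) → g * l = l * g) →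
      ∀ P : Sylow 2 M, (P : Subgroup M).Normal := by
    intro l hl hl1 M hM P
    refine two_closed_of_no_real (fun x g hx hg => ?_) P
    by_contra hx1
    have hxo : Odd (orderOf (x : G)) := by rwa [Subgroup.orderOf_coe]
    exact hl1 (hfpf x (fun h => hx1 (Subtype.ext h)) hxo (real_of_inv (g := (g : G))
      (congrArg Subtype.val hg)) l hl (hM x x.2 hxo))
  haveI : Fact (Nat.Prime 2) := ⟨Nat.prime_two⟩
  have hcentstab : ∀ l : L, MulAction.stabilizer D (Additive.ofMul l) =
      (Subgroup.centralizer ({(l : G)} : Set G)).map f := by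
    intro l
    ext y
    constructor
    · intro hy
      obtain ⟨g, rfl⟩ := hfs y
      exact ⟨g, mem_cent.2
        ((hsmul g l).1 ((hf g _).symm.trans (MulAction.mem_stabilizer_iff.1 hy))).symm, rfl⟩
    · rintro ⟨g, hg, rfl⟩
      exact MulAction.mem_stabilizer_iff.2 ((hf g _).trans ((hsmul g l).2 (mem_cent.1 hg).symm))
  have hidx : ∀ l : L, (MulAction.stabilizer D (Additive.ofMul l)).index ∣ sz (l : G) := fun l => by
    rw [hcentstab]
    exact Subgroup.index_map_dvd _ hfs
  have hne : ∀ l : L, Additive.ofMul l ≠ 0 → (l : G) ≠ 1 := fun l h h1 =>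
    h (congrArg Additive.ofMul (Subtype.ext h1 : l = 1))
  have hset : Setting (D := D) (Additive L) P1 :=
    { base :=
        { exp := fun e => congrArg Additive.ofMul
            (Subtype.ext (hE0sq _ (hLE (Additive.toMul e).2)) :
              Additive.toMul e * Additive.toMul e = 1)
          sp := spread_of fun e he => by
            obtain ⟨l, rfl⟩ := Additive.ofMul.surjective e
            have hl1 := hne l he
            set C := Subgroup.centralizer ({(l : G)} : Set G) with hC
            obtain ⟨P⟩ : Nonempty (Sylow 2 C) := inferInstance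
            have hPn := hclosed l l.2 hl1 C (fun g hg _ => (mem_cent.1 hg).symm) P
            set R := (P : Subgroup C).map C.subtype with hR
            refine ⟨R.map f, (P.isPGroup'.map _).map f, fun h => ?_, ?_, ?_⟩
            · have h1 := h.trans (Subgroup.index_map_dvd _ hfs)
              rw [hR, Subgroup.index_map_subtype] at h1
              rcases (Nat.Prime.dvd_mul Nat.prime_two).1 h1 with h3 | h3
              · exact P.not_dvd_index h3
              · exact hlS l l.2 hl1 2 Nat.prime_two h3 h2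
            · exact (Subgroup.map_mono (Subgroup.map_subtype_le _)).trans (hcentstab l).ge
            · refine (hcentstab l).le.trans
                ((Subgroup.map_mono ?_).trans (Subgroup.le_normalizer_map f))
              intro g hg
              refine Subgroup.mem_normalizer_fintype fun y hy => ?_
              obtain ⟨y, hy', rfl⟩ := hy
              exact ⟨(⟨g, hg⟩ : C) * y * (⟨g, hg⟩ : C)⁻¹, hPn.conj_mem y hy' _, rfl⟩ }
      orbit := fun e he q hq hd => by
        obtain ⟨l, rfl⟩ := Additive.ofMul.surjective e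
        exact hlS l l.2 (hne l he) q hq (hd.trans (hidx l))
      real := fun x s r k hr hr2 hx hx1 hs q hq hd => by
        obtain ⟨y, hyo, hyr, hyx⟩ := exists_real_lift f hfs hr hr2 hx hs
        have hy1 : y ≠ 1 := fun h => hx1 (by rw [← hyx, h, map_one])
        refine left_of_sq_ne S h2 hyr (fun h => hy1 (hsq y hyo h)) q hq (hd.trans ?_)
        refine (Subgroup.index_dvd_of_le ?_).trans (Subgroup.index_map_dvd _ hfs)
        rintro _ ⟨g, hg, rfl⟩
        rw [Subgroup.mem_centralizer_singleton_iff, ← hyx, ← map_mul, ← map_mul]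
        exact congrArg f (mem_cent.1 hg).symm
      ex := by
        obtain ⟨g, hg⟩ := isConj_iff.1 hx₀r
        refine ⟨f x₀, f g, fun h => ?_, hx₀o.of_dvd_nat (orderOf_map_dvd f x₀),
          by rw [← map_inv, ← map_inv, ← map_mul, ← map_mul, hg]⟩
        exact htb1 (hfpf x₀ hx₀1 hx₀o hx₀r _ htb (hNcent x₀ h _ htb)) }
  obtain ⟨hlin, hsolD⟩ := hset.linear
  -- the kernel
  obtain ⟨PN⟩ : Nonempty (Sylow 2 N) := inferInstance
  have hPNn := hclosed _ htb htb1 N (fun g hg _ => hNcent g hg _ htb) PN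
  refine ⟨?_, ?_, ?_⟩
  · intro r hr hr2 hP hrK
    haveI := Fact.mk hr
    haveI := hPNn
    set R := (PN : Subgroup N).map N.subtype with hR
    haveI : (PN : Subgroup N).Characteristic :=
      PN.characteristic_of_normal hPNn
    haveI : R.Normal := ConjAct.normal_of_characteristic_of_normal
    obtain ⟨⟨g, hgK⟩, hg⟩ := exists_prime_orderOf_dvd_card' r hrK
    rw [Subgroup.orderOf_mk] at hg
    have himg : ∀ y ∈ twoGen G,
        f y ∈ Subgroup.closure {z : D | ∃ k : ℕ, z ^ 2 ^ k = 1} := by
      intro y hy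
      refine twoGen_le (N := (Subgroup.closure {z : D | ∃ k : ℕ, z ^ 2 ^ k = 1}).comap f) ?_ hy
      rintro s ⟨k, hk⟩
      exact Subgroup.subset_closure ⟨k, by rw [← map_pow, ← hk, pow_orderOf_eq_one, map_one]⟩
    -- no element of order `r` outside the kernel
    have hnor : ∀ y ∈ twoGen G, orderOf (f y) ≠ r := fun y hy => hlin r hr hr2 hP _ (himg y hy)
    have hgN : g ∈ N := by
      rcases hr.eq_one_or_self_of_dvd _ (hg ▸ orderOf_map_dvd f g) with h | h
      · exact orderOf_eq_one_iff.1 h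
      · exact absurd h (hnor g hgK)
    set q := QuotientGroup.mk' R with hq
    have hmem2 : ∀ y ∈ N, (∃ j : ℕ, y ^ 2 ^ j = 1) → y ∈ R := by
      rintro y hy ⟨j, hj⟩
      obtain ⟨T, hT⟩ := (isPGroup_zpowers (g := (⟨y, hy⟩ : N)) (k := j)
        (Subtype.ext (by simpa using hj))).exists_le_sylow
      haveI := PN.unique_of_normal hPNn
      rw [Subsingleton.elim T PN] at hT
      exact ⟨_, hT (Subgroup.mem_zpowers _), rfl⟩
    -- the kernel is central modulo `R` in the subgroup generated by the 2-elements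
    have hcen : ∀ s ∈ twoGen G, ∀ y ∈ N, q s * q y = q y * q s := by
      intro s hs y hy
      induction hs using Subgroup.closure_induction with
      | mem s hs =>
        obtain ⟨k, hk⟩ := hs
        set M := N ⊔ Subgroup.zpowers s with hM
        have hMle : M ≤ (Subgroup.zpowers (f s)).comap f :=
          sup_le (fun z hz => by rw [Subgroup.mem_comap, show f z = 1 from hz]; exact one_mem _)
            (Subgroup.zpowers_le.2 (Subgroup.mem_zpowers _))
        have hcentM : ∀ z ∈ M, Odd (orderOf z) → z * (t * b') = t * b' * z := by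
          intro z hz hzo
          refine hNcent z ?_ _ htb
          have h1 : orderOf (f z) ∣ 2 ^ k := by
            refine (Subgroup.orderOf_dvd_natCard (Subgroup.zpowers (f s)) (hMle hz : f z ∈ _)).trans ?_
            rw [Nat.card_zpowers, ← hk]
            exact orderOf_map_dvd f s
          exact orderOf_eq_one_iff.1 (Nat.eq_one_of_dvd_coprimes
            ((Nat.coprime_two_left.2 (hzo.of_dvd_nat (orderOf_map_dvd f z))).pow_left k) h1 dvd_rfl)
        obtain ⟨PM⟩ : Nonempty (Sylow 2 M) := inferInstance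
        have hPMn := hclosed _ htb htb1 M hcentM PM
        have hsM : s ∈ M := Subgroup.mem_sup_right (Subgroup.mem_zpowers s)
        have hyM : y ∈ M := Subgroup.mem_sup_left hy
        obtain ⟨T, hT⟩ := (isPGroup_zpowers (g := (⟨s, hsM⟩ : M)) (k := k)
          (Subtype.ext (by simp [← hk, pow_orderOf_eq_one]))).exists_le_sylow
        haveI := PM.unique_of_normal hPMn
        rw [Subsingleton.elim T PM] at hT
        have hsP := hT (Subgroup.mem_zpowers _)
        have h1 : (⟨s, hsM⟩ : M) * ((⟨y, hyM⟩ : M) * (⟨s, hsM⟩ : M)⁻¹ * (⟨y, hyM⟩ : M)⁻¹) ∈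
            (PM : Subgroup M) := mul_mem hsP (hPMn.conj_mem _ (inv_mem hsP) _)
        obtain ⟨j, hj⟩ := PM.isPGroup' ⟨_, h1⟩
        have h2' : (s * (y * s⁻¹ * y⁻¹)) ^ 2 ^ j = 1 :=
          congrArg (fun z : (PM : Subgroup M) => ((z : M) : G)) hj
        have h3 : s * (y * s⁻¹ * y⁻¹) ∈ N := by
          rw [show s * (y * s⁻¹ * y⁻¹) = s * y * s⁻¹ * y⁻¹ by group]
          exact mul_mem ((f.normal_ker).conj_mem y hy s) (inv_mem hy)
        have h4 : q (s * (y * s⁻¹ * y⁻¹)) = 1 := (QuotientGroup.eq_one_iff _).2 (hmem2 _ h3 ⟨j, h2'⟩)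
        rw [map_mul, map_mul, map_mul, map_inv, map_inv] at h4
        have h5 : q s * q y * (q s)⁻¹ * (q y)⁻¹ = 1 := by rw [← h4]; group
        exact mul_inv_eq_iff_eq_mul.1 (mul_inv_eq_one.1 h5)
      | one => simp
      | mul a b _ _ ha hb => rw [map_mul]; exact (Commute.mul_left ha hb).eq
      | inv a _ ha => rw [map_inv]; exact (Commute.inv_left ha).eq
    set Kq := (twoGen G).map q with hKq
    have hgq : q g ∈ Kq := ⟨g, hgK, rfl⟩
    have hgqc : (⟨q g, hgq⟩ : Kq) ∈ Subgroup.center Kq := by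
      refine Subgroup.mem_center_iff.2 ?_
      rintro ⟨_, s, hs, rfl⟩
      exact Subtype.ext (hcen s hs g hgN)
    have hgR : q g ≠ 1 := fun h => by
      obtain ⟨y, hy, hyg⟩ := (QuotientGroup.eq_one_iff g).1 h
      obtain ⟨i, hi⟩ := PN.isPGroup' ⟨y, hy⟩
      have h1 : g ^ 2 ^ i = 1 := by
        rw [← hyg]
        exact congrArg (fun z : (PN : Subgroup N) => ((z : N) : G)) hi
      have h3 := orderOf_dvd_of_pow_eq_one h1
      rw [hg] at h3
      exact hr2 ((Nat.prime_dvd_prime_iff_eq hr Nat.prime_two).1 (hr.dvd_of_dvd_pow h3))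
    have hgo : orderOf (⟨q g, hgq⟩ : Kq) = r := by
      rw [Subgroup.orderOf_mk]
      exact (hr.eq_one_or_self_of_dvd _ (hg ▸ orderOf_map_dvd q g)).resolve_left
        fun h => hgR (orderOf_eq_one_iff.1 h)
    set χ := MonoidHom.transferCenterPow Kq with hχ
    have h2el : ∀ s ∈ twoGen G, ∀ z : Kq, (z : G ⧸ R) = q s → ∃ i : ℕ, χ z ^ 2 ^ i = 1 := by
      intro s hs
      induction hs using Subgroup.closure_induction with
      | mem s hs =>
        intro z hz
        obtain ⟨k, hk⟩ := hs
        refine ⟨k, ?_⟩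
        rw [← map_pow, show z ^ 2 ^ k = 1 from Subtype.ext (by
          rw [SubmonoidClass.coe_pow, hz, ← map_pow, ← hk, pow_orderOf_eq_one, map_one]; rfl),
          map_one]
      | one =>
        intro z hz
        refine ⟨0, ?_⟩
        rw [show z = 1 from Subtype.ext (hz.trans (map_one q)), map_one, one_pow]
      | mul a b ha hb iha ihb =>
        intro z hz
        obtain ⟨i, hi⟩ := iha ⟨q a, a, ha, rfl⟩ rfl
        obtain ⟨j, hj⟩ := ihb ⟨q b, b, hb, rfl⟩ rfl
        refine ⟨i + j, ?_⟩
        rw [show z = ⟨q a, a, ha, rfl⟩ * ⟨q b, b, hb, rfl⟩ from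
          Subtype.ext (hz.trans (map_mul q a b)), map_mul,
          (show Commute (χ ⟨q a, a, ha, rfl⟩) (χ ⟨q b, b, hb, rfl⟩) from
            Subtype.ext (Subgroup.mem_center_iff.1 (χ ⟨q b, b, hb, rfl⟩).2 _)).mul_pow, pow_add, pow_mul, hi, one_pow,
          one_mul, mul_comm, pow_mul, hj, one_pow]
      | inv a ha iha =>
        intro z hz
        obtain ⟨i, hi⟩ := iha ⟨q a, a, ha, rfl⟩ rfl
        refine ⟨i, ?_⟩
        rw [show z = (⟨q a, a, ha, rfl⟩)⁻¹ from Subtype.ext (hz.trans (map_inv q a)), map_inv,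
          inv_pow, hi, inv_one]
    obtain ⟨i, hi⟩ := h2el g hgK ⟨q g, hgq⟩ rfl
    have hrc : ¬ r ∣ (Subgroup.center Kq).index := by
      intro hd
      have hle : (N.map q).subgroupOf Kq ≤ Subgroup.center Kq := by
        rintro ⟨_, hz⟩ ⟨y, hy, hyz⟩
        refine Subgroup.mem_center_iff.2 ?_
        rintro ⟨_, s, hs, rfl⟩
        refine Subtype.ext ?_
        rw [Subgroup.coe_mul, Subgroup.coe_mul, Subgroup.subtype_apply] at *
        rw [← hyz]
        exact hcen s hs y hy
      have h1 : r ∣ Nat.card ((twoGen G).map f) := by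
        refine (hd.trans (Subgroup.index_dvd_of_le hle)).trans ?_
        let φ : twoGen G →* Kq := q.subgroupMap (twoGen G)
        have hφ : Function.Surjective φ := q.subgroupMap_surjective _
        let ψ' : twoGen G →* (twoGen G).map f := f.subgroupMap (twoGen G)
        have hker : ψ'.ker ≤ ((N.map q).subgroupOf Kq).comap φ := fun y hy =>
          ⟨(y : G), congrArg Subtype.val hy, rfl⟩
        rw [← Subgroup.index_comap_of_surjective _ hφ]
        refine (Subgroup.index_dvd_of_le hker).trans ?_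
        rw [Subgroup.index_ker, MonoidHom.range_eq_top.2 (f.subgroupMap_surjective _),
          Subgroup.card_top]
      obtain ⟨⟨_, y, hy, rfl⟩, hyo⟩ := exists_prime_orderOf_dvd_card' r h1
      rw [← Subgroup.orderOf_coe] at hyo
      exact hnor y hy hyo
    have h3 : ((⟨q g, hgq⟩ : Kq) ^ (Subgroup.center Kq).index) ^ 2 ^ i = 1 := by
      rw [← MonoidHom.transferCenterPow_apply]
      exact congrArg Subtype.val hi
    rw [← pow_mul, ← orderOf_dvd_iff_pow_eq_one, hgo] at h3
    exact (hr.dvd_mul.1 h3).elim hrc fun h4 =>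
      hr2 ((Nat.prime_dvd_prime_iff_eq hr Nat.prime_two).1 (hr.dvd_of_dvd_pow h4))
  · haveI : Group.IsSolvable N := solvable_of_two_closed PN hPNn
    haveI := hsolD
    exact Group.isSolvable_of_ker_le_range N.subtype f (by rw [Subgroup.range_subtype])
  · by_contra hno
    push Not at hno
    have hc : ∀ b, IsConj t b → x₀ * b = b * x₀ := fun b hb =>
      (hno b x₀ (real_conj hb ht) (inSide_conj hb htS) (mem_twoGen_of_real hx₀r)).symm
    refine htb1 (hfpf x₀ hx₀1 hx₀o hx₀r _ htb ?_)
    exact (Commute.mul_right (hc t (IsConj.refl t)) (hc b' hb')).eq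

end Cfsg.Agent.RealGraph
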