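import Cfsg.Agent.Lib.RealGraph.Torus
import Cfsg.Agent.Lib.TwoClosedZJ.Real
import Cfsg.Agent.S3863
import Cfsg.Agent.S0205

/-!
# Real classes with sizes split between two sets of primes
-/

set_option autoImplicit false
set_option linter.style.haveILetI false
set_option linter.unusedSectionVars false

namespace Cfsg.Agent.RealGraph

open Cfsg.Agent
open Cfsg.Agent.ClassGraph (sz InSide mem_cent card_class sz_conj sz_one_iff exists_mul_of_coprime)

universe u

variable {G : Type u} [Group G] [Finite G]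

/-- Every real class size involves primes on one side only, and both sides occur. -/
structure Split (G : Type u) [Group G] [Finite G] (P1 : ℕ → Prop) : Prop where
  split : ∀ x : G, IsConj x x⁻¹ → InSide P1 x ∨ InSide (fun q => ¬ P1 q) x
  left : ∃ x : G, IsConj x x⁻¹ ∧ InSide P1 x ∧ sz x ≠ 1
  right : ∃ x : G, IsConj x x⁻¹ ∧ InSide (fun q => ¬ P1 q) x ∧ sz x ≠ 1

theorem sq_of_odd {x : G} (hx : IsConj x x⁻¹) (h : Odd (sz x)) : x * x = 1 := by
  have h1 := ((Cfsg.Agent.S3863.result x hx).2.1 h)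
  rwa [pow_two] at h1

theorem real_of_inv {x g : G} (h : g * x * g⁻¹ = x⁻¹) : IsConj x x⁻¹ := isConj_iff.2 ⟨g, h⟩

theorem real_conj {x y : G} (h : IsConj x y) (hx : IsConj x x⁻¹) : IsConj y y⁻¹ := by
  obtain ⟨c, rfl⟩ := isConj_iff.1 h
  refine h.symm.trans (hx.trans (isConj_iff.2 ⟨c, ?_⟩))
  group

theorem sz_eq_of_isConj {x y : G} (h : IsConj x y) : sz y = sz x := by
  obtain ⟨c, rfl⟩ := isConj_iff.1 h
  exact sz_conj c x

theorem inSide_conj {σ : ℕ → Prop} {x y : G} (h : IsConj x y) (hx : InSide σ x) : InSide σ y :=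
  fun l hl hd => hx l hl (by rwa [sz_eq_of_isConj h] at hd)

theorem coprime_of_sides {P1 : ℕ → Prop} {a b : G} (ha : InSide P1 a)
    (hb : InSide (fun q => ¬ P1 q) b) : (sz a).Coprime (sz b) :=
  Nat.coprime_of_dvd fun q hq h1 h2 => hb q hq h2 (ha q hq h1)

/-- Coprime class sizes: all products are conjugate. -/
theorem prod_conj {a b a' b' : G} (h : (sz a).Coprime (sz b)) (ha : IsConj a a') (hb : IsConj b b') :
    IsConj (a * b) (a' * b') := by
  obtain ⟨s, rfl⟩ := isConj_iff.1 ha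
  obtain ⟨w, rfl⟩ := isConj_iff.1 hb
  obtain ⟨u, hu, v, hv, huv⟩ := exists_mul_of_coprime (C := Subgroup.centralizer ({a} : Set G))
    (D := Subgroup.centralizer ({b} : Set G)) h (s⁻¹ * w)
  refine isConj_iff.2 ⟨s * u, ?_⟩
  have e1 : u * a * u⁻¹ = a := by rw [← mem_cent.1 hu, mul_inv_cancel_right]
  have e2 : v * b * v⁻¹ = b := by rw [← mem_cent.1 hv, mul_inv_cancel_right]
  calc s * u * (a * b) * (s * u)⁻¹ = s * (u * a * u⁻¹) * s⁻¹ * (s * (u * b * u⁻¹) * s⁻¹) := by group
    _ = s * a * s⁻¹ * (s * (u * (v * b * v⁻¹) * u⁻¹) * s⁻¹) := by rw [e1, e2]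
    _ = s * a * s⁻¹ * (s * ((u * v) * b * (u * v)⁻¹) * s⁻¹) := by group
    _ = s * a * s⁻¹ * (w * b * w⁻¹) := by rw [← huv]; group

/-- The products of two conjugates of `b`. -/
def pairSet (b : G) : Set G := {y | ∃ b₁ b₂, IsConj b b₁ ∧ IsConj b b₂ ∧ y = b₁ * b₂}

/-- The subgroup generated by the products of two conjugates. -/
def pairSub (b : G) : Subgroup G := Subgroup.closure (pairSet b)

theorem pairSub_normal (b : G) : (pairSub b).Normal := ⟨fun y hy c => by
  induction hy using Subgroup.closure_induction with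
  | mem y hy =>
    obtain ⟨b₁, b₂, h₁, h₂, rfl⟩ := hy
    refine Subgroup.subset_closure ⟨c * b₁ * c⁻¹, c * b₂ * c⁻¹,
      h₁.trans (isConj_iff.2 ⟨c, rfl⟩), h₂.trans (isConj_iff.2 ⟨c, rfl⟩), by group⟩
  | one => simp [one_mem]
  | mul p q _ _ hp hq => rw [← conj_mul]; exact mul_mem hp hq
  | inv p _ hp => rw [← conj_inv]; exact inv_mem hp⟩

/-- A subgroup moving a class into itself by right multiplication. -/
theorem card_dvd_sz {a : G} {L : Subgroup G} (h : ∀ a', IsConj a a' → ∀ l ∈ L, IsConj a (a' * l)) :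
    Nat.card L ∣ sz a := by
  rw [← card_class]
  letI : MulAction L {z : G // IsConj a z} :=
    { smul := fun l z => ⟨z * (l : G)⁻¹, h z z.2 _ (inv_mem l.2)⟩
      one_smul := fun z => Subtype.ext (by show (z : G) * (1 : G)⁻¹ = z; simp)
      mul_smul := fun l l' z => Subtype.ext (by
        show (z : G) * ((l : G) * l')⁻¹ = z * (l' : G)⁻¹ * (l : G)⁻¹
        group) }
  have h1 := index_dvd_card_of_stab (α := {z : G // IsConj a z}) (⊥ : Subgroup L) fun z =>
    (Subgroup.eq_bot_iff_forall _).2 fun l hl => Subtype.ext (by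
      have h2 : (z : G) * (l : G)⁻¹ = z := congrArg Subtype.val hl
      simpa using mul_eq_left.1 h2)
  rwa [Subgroup.index_bot] at h1

theorem closure_moves {a : G} {S : Set G}
    (h : ∀ a', IsConj a a' → ∀ s ∈ S, IsConj a (a' * s)) :
    ∀ a', IsConj a a' → ∀ l ∈ Subgroup.closure S, IsConj a (a' * l) := by
  intro a' ha' l hl
  haveI : Finite G := inferInstance
  rw [← Subgroup.mem_toSubmonoid, Subgroup.closure_toSubmonoid_of_finite] at hl
  induction hl using Submonoid.closure_induction generalizing a' with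
  | mem s hs => exact h a' ha' s hs
  | one => rwa [mul_one]
  | mul p q _ _ hp hq => rw [← mul_assoc]; exact hq _ (hp _ ha')

/-- Two involutions from one class give a real product. -/
theorem pair_real {b b₁ b₂ : G} (hb : b * b = 1) (h₁ : IsConj b b₁) (h₂ : IsConj b b₂) :
    IsConj (b₁ * b₂) (b₁ * b₂)⁻¹ := by
  have hi : ∀ {y}, IsConj b y → y * y = 1 := fun {y} hy => by
    obtain ⟨c, rfl⟩ := isConj_iff.1 hy
    rw [show c * b * c⁻¹ * (c * b * c⁻¹) = c * (b * b) * c⁻¹ by group, hb, mul_one, mul_inv_cancel]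
  refine real_of_inv (g := b₁) ?_
  rw [mul_inv_rev, inv_eq_of_mul_eq_one_right (hi h₁), inv_eq_of_mul_eq_one_right (hi h₂),
    ← mul_assoc b₁ b₁ b₂, hi h₁, one_mul]

theorem sz_eq_one_of_class {b : G} (h : ∀ b', IsConj b b' → b' = b) : sz b = 1 := by
  rw [← card_class]
  exact Nat.card_eq_one_iff_unique.2
    ⟨⟨fun x y => Subtype.ext ((h x x.2).trans (h y y.2).symm)⟩, ⟨⟨b, IsConj.refl b⟩⟩⟩

/-- The normal subgroup bound on orbits. -/
theorem relIndex_dvd_index (L : Subgroup G) [L.Normal] (C : Subgroup G) :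
    C.relIndex L ∣ C.index := by
  have h := SolvBasic.card_sup_mul_card_inf (N := L) (H := C) Subgroup.le_normalizer_of_normal
  obtain ⟨k, hk⟩ := Subgroup.card_dvd_of_le (le_sup_right : C ≤ L ⊔ C)
  have h1 : Nat.card (C.subgroupOf L) = Nat.card (L ⊓ C : Subgroup G) := by
    rw [inf_comm, ← Subgroup.inf_subgroupOf_right,
      Nat.card_congr (Subgroup.subgroupOfEquivOfLe inf_le_right).toEquiv]
  have h2 : C.relIndex L * Nat.card (L ⊓ C : Subgroup G) = Nat.card L := by
    rw [← h1]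
    exact (C.subgroupOf L).index_mul_card
  have h3 : k = C.relIndex L := by
    rw [hk, ← h2, mul_assoc] at h
    have h4 : Nat.card C * (k * Nat.card (L ⊓ C : Subgroup G)) =
        Nat.card C * (C.relIndex L * Nat.card (L ⊓ C : Subgroup G)) := by rw [h]; ring
    exact Nat.eq_of_mul_eq_mul_right Nat.card_pos (Nat.eq_of_mul_eq_mul_left Nat.card_pos h4)
  refine ⟨(L ⊔ C).index, ?_⟩
  rw [← h3]
  have h5 := (L ⊔ C).card_mul_index
  rw [hk, mul_assoc, ← C.card_mul_index] at h5
  exact (Nat.eq_of_mul_eq_mul_left Nat.card_pos h5).symm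

variable {P1 : ℕ → Prop}

/-- If all real class sizes are odd there is no split. -/
theorem Split.exists_even (S : Split G P1) :
    ∃ x : G, IsConj x x⁻¹ ∧ 2 ∣ sz x := by
  by_contra hno
  push Not at hno
  have hodd : ∀ x : G, IsConj x x⁻¹ → Odd (sz x) := fun x hx =>
    Nat.odd_iff.2 (Nat.two_dvd_ne_zero.1 (hno x hx))
  have hinv : ∀ x : G, IsConj x x⁻¹ → x * x = 1 := fun x hx => sq_of_odd hx (hodd x hx)
  have key : ∀ a b : G, IsConj a a⁻¹ → IsConj b b⁻¹ → sz b ≠ 1 → (sz a).Coprime (sz b) →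
      (sz (a * b)).Coprime (sz b) → False := by
    intro a b ha hb hb1 hab hcb
    have hmv : ∀ a', IsConj a a' → ∀ l ∈ pairSub b, IsConj a (a' * l) :=
      closure_moves fun a' ha' s ⟨b₁, b₂, h₁, h₂, hs⟩ => by
        rw [hs, ← mul_assoc]
        have h := prod_conj hcb (prod_conj hab ha' h₁) h₂
        rwa [mul_assoc a b b, hinv b hb, mul_one] at h
    refine hb1 (sz_eq_one_of_class fun b' hb' => ?_)
    have hmem : b * b' ∈ pairSub b :=
      Subgroup.subset_closure ⟨b, b', IsConj.refl b, hb', rfl⟩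
    have h2 : orderOf (b * b') ∣ sz a :=
      (Subgroup.orderOf_dvd_natCard _ hmem).trans (card_dvd_sz hmv)
    have h3 : orderOf (b * b') ∣ 2 := orderOf_dvd_of_pow_eq_one (by
      rw [pow_two]; exact hinv _ (pair_real (hinv b hb) (IsConj.refl b) hb'))
    have h4 : b * b' = 1 := orderOf_eq_one_iff.1
      (Nat.eq_one_of_dvd_coprimes (Nat.coprime_two_right.2 (hodd a ha)) h2 h3)
    rw [← inv_eq_of_mul_eq_one_right h4, inv_eq_of_mul_eq_one_right (hinv b hb)]
  obtain ⟨a, ha, haS, ha1⟩ := S.left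
  obtain ⟨b, hb, hbS, hb1⟩ := S.right
  have hco := coprime_of_sides haS hbS
  have hr : IsConj (a * b) (a * b)⁻¹ := by
    refine real_of_inv (g := b) ?_
    rw [mul_inv_rev, inv_eq_of_mul_eq_one_right (hinv a ha), inv_eq_of_mul_eq_one_right (hinv b hb),
      mul_assoc b (a * b) b, mul_assoc a b b, hinv b hb, mul_one]
  rcases S.split _ hr with h | h
  · exact key a b ha hb hb1 hco (coprime_of_sides h hbS)
  · refine key b a hb ha ha1 hco.symm ?_
    rw [sz_eq_of_isConj (isConj_iff.2 ⟨b, by rw [← mul_assoc, mul_inv_cancel_right]⟩ :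
      IsConj (a * b) (b * a))]
    exact (coprime_of_sides haS h).symm

/-- The second side consists of involutions. -/
theorem sq_right (h2 : P1 2) {b : G} (hb : IsConj b b⁻¹) (hbS : InSide (fun q => ¬ P1 q) b) :
    b * b = 1 :=
  sq_of_odd hb (Nat.odd_iff.2 (Nat.two_dvd_ne_zero.1 fun h => hbS 2 Nat.prime_two h h2))

theorem left_of_sq_ne (S : Split G P1) (h2 : P1 2) {x : G} (hx : IsConj x x⁻¹) (h : x * x ≠ 1) :
    InSide P1 x :=
  (S.split x hx).resolve_right fun hS => h (sq_right h2 hx hS)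

/-- The product of real elements of the two sides is real. -/
theorem real_mul (h2 : P1 2) {a b : G} (ha : IsConj a a⁻¹) (haS : InSide P1 a)
    (hb : IsConj b b⁻¹) (hbS : InSide (fun q => ¬ P1 q) b) : IsConj (a * b) (a * b)⁻¹ := by
  refine (prod_conj (coprime_of_sides haS hbS) ha (IsConj.refl b)).trans (isConj_iff.2 ⟨b, ?_⟩)
  rw [mul_inv_rev, mul_assoc b (a⁻¹ * b) b⁻¹, mul_inv_cancel_right,
    inv_eq_of_mul_eq_one_right (sq_right h2 hb hbS)]

/-- The product on the second side: inversion. -/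
theorem inverts_of_right (h2 : P1 2) {a b : G} (ha : IsConj a a⁻¹) (haS : InSide P1 a)
    (hb : IsConj b b⁻¹) (hbS : InSide (fun q => ¬ P1 q) b) (hab : InSide (fun q => ¬ P1 q) (a * b))
    {a' b' : G} (ha' : IsConj a a') (hb' : IsConj b b') : b' * a' * b'⁻¹ = a'⁻¹ := by
  have hc := prod_conj (coprime_of_sides haS hbS) ha' hb'
  have h1 := sq_right h2 (real_conj hc (real_mul h2 ha haS hb hbS)) (inSide_conj hc hab)
  have h3 := sq_right h2 (real_conj hb' hb) (inSide_conj hb' hbS)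
  rw [inv_eq_of_mul_eq_one_right h3]
  refine eq_inv_of_mul_eq_one_left ?_
  have h4 : a' * (b' * a' * b') = 1 := by rw [← h1]; simp only [mul_assoc]
  rw [← inv_eq_of_mul_eq_one_right h4, inv_mul_cancel]

/-- The product on the first side: translation. -/
theorem moves_of_left (h2 : P1 2) {a b : G} (haS : InSide P1 a) (hb : IsConj b b⁻¹)
    (hbS : InSide (fun q => ¬ P1 q) b) (hab : InSide P1 (a * b)) :
    (∀ a', IsConj a a' → ∀ l ∈ pairSub b, IsConj a (a' * l)) ∧
      ∀ b₁ b₂, IsConj b b₁ → IsConj b b₂ → b₁ * b₂ = b₂ * b₁ := by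
  have hco := coprime_of_sides haS hbS
  have hmv : ∀ a', IsConj a a' → ∀ l ∈ pairSub b, IsConj a (a' * l) :=
    closure_moves fun a' ha' s ⟨b₁, b₂, h₁, h₂, hs⟩ => by
      rw [hs, ← mul_assoc]
      have h := prod_conj (coprime_of_sides hab hbS) (prod_conj hco ha' h₁) h₂
      rwa [mul_assoc a b b, sq_right h2 hb hbS, mul_one] at h
  refine ⟨hmv, fun b₁ b₂ h₁ h₂ => ?_⟩
  haveI := pairSub_normal b
  have hle : pairSub b ≤ Subgroup.centralizer ({b₁} : Set G) := by
    rw [← Subgroup.relIndex_eq_one]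
    refine Nat.eq_one_of_dvd_coprimes hco
      ((Subgroup.relIndex_dvd_card _ _).trans (card_dvd_sz hmv)) ?_
    rw [← sz_eq_of_isConj h₁]
    exact relIndex_dvd_index _ _
  have h3 := mem_cent.1 (hle (Subgroup.subset_closure ⟨b₁, b₂, h₁, h₂, rfl⟩))
  rw [mul_assoc] at h3
  exact mul_left_cancel h3

/-- A real element of odd prime power order in a quotient lifts. -/
theorem exists_real_lift {H : Type u} [Group H] (f : G →* H) (hf : Function.Surjective f)
    {x t : H} {r k : ℕ} (hr : r.Prime) (hr2 : r ≠ 2) (hx : orderOf x = r ^ k)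
    (ht : t * x * t⁻¹ = x⁻¹) :
    ∃ y : G, Odd (orderOf y) ∧ IsConj y y⁻¹ ∧ f y = x := by
  haveI : Finite H := Finite.of_surjective f hf
  haveI := Fact.mk hr
  haveI : Fact (Nat.Prime 2) := ⟨Nat.prime_two⟩
  obtain ⟨n, hn, ht2⟩ := TwoClosedZJ.exists_two_part t
  have ht' := TwoClosedZJ.conj_odd_pow ht hn
  obtain ⟨g, P, ⟨m, hm⟩, hfg, hP, hPR, hgP⟩ := TwoClosedZJ.exists_lift f hf
    (R := Subgroup.zpowers x) (IsPGroup.of_card (n := k) (by rw [Nat.card_zpowers, hx]))
    (t := t ^ n) ht2 (by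
      rw [Subgroup.mem_normalizer_iff_map_conj_eq, MonoidHom.map_zpowers]
      show Subgroup.zpowers (t ^ n * x * (t ^ n)⁻¹) = _
      rw [ht', Subgroup.zpowers_inv])
  let F := {y : P // f (y : G) = x}
  let ψ : F → F := fun y => ⟨⟨g * (y.1 : G)⁻¹ * g⁻¹, hgP _ (inv_mem y.1.2)⟩, by
    show f (g * (y.1 : G)⁻¹ * g⁻¹) = x
    rw [map_mul, map_mul, map_inv, map_inv, y.2, hfg, ← conj_inv, ht', inv_inv]⟩
  have hψv : ∀ y : F, ((ψ y).1 : G) = g * (y.1 : G)⁻¹ * g⁻¹ := fun y => rfl
  have hit : ∀ (i : ℕ) (y : F), ((ψ^[2 * i] y).1 : G) = g ^ (2 * i) * y.1 * (g ^ (2 * i))⁻¹ := by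
    intro i
    induction i with
    | zero => intro y; simp
    | succ i ih =>
      intro y
      rw [show 2 * (i + 1) = 2 * i + 1 + 1 by ring, Function.iterate_succ_apply',
        Function.iterate_succ_apply', hψv, hψv, ih, pow_succ', pow_succ']
      group
  have hbij : Function.Bijective ψ := Finite.injective_iff_bijective.1 fun a b hab => by
    have h := congrArg (fun y : F => (y.1 : G)) hab
    simp only [hψv] at h
    exact Subtype.ext (Subtype.ext (inv_injective (mul_left_cancel (mul_right_cancel h))))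
  have hσ : (Equiv.ofBijective ψ hbij) ^ 2 ^ (m + 1) = 1 := by
    refine Equiv.Perm.ext fun y => ?_
    rw [← Equiv.Perm.iterate_eq_pow]
    refine Subtype.ext (Subtype.ext ?_)
    show ((ψ^[2 ^ (m + 1)] y).1 : G) = _
    rw [pow_succ', hit, mul_comm, pow_mul, hm]
    simp
  obtain ⟨p₀, hp₀, hfp₀⟩ : x ∈ P.map f := hPR.symm ▸ Subgroup.mem_zpowers x
  have hodd : ¬ 2 ∣ Nat.card F := by
    have hFc : Nat.card F = Nat.card (f.comp P.subtype).ker := Nat.card_congr
      { toFun := fun y => ⟨(⟨p₀, hp₀⟩ : P)⁻¹ * y.1, by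
          show f (p₀⁻¹ * (y.1 : G)) = 1
          rw [map_mul, map_inv, hfp₀, y.2, inv_mul_cancel]⟩
        invFun := fun z => ⟨(⟨p₀, hp₀⟩ : P) * z.1, by
          show f (p₀ * (z.1 : G)) = x
          rw [map_mul, hfp₀, show f (z.1 : G) = 1 from z.2, mul_one]⟩
        left_inv := fun y => Subtype.ext (mul_inv_cancel_left _ _)
        right_inv := fun z => Subtype.ext (inv_mul_cancel_left _ _) }
    obtain ⟨i, hi⟩ := IsPGroup.iff_card.1 (hP.to_subgroup (f.comp P.subtype).ker)
    rw [hFc, hi]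
    exact fun h => hr2 ((Nat.prime_dvd_prime_iff_eq Nat.prime_two hr).1
      (Nat.prime_two.dvd_of_dvd_pow h)).symm
  haveI : Fintype F := Fintype.ofFinite _
  obtain ⟨y, hy⟩ := Equiv.Perm.exists_fixed_point_of_prime (p := 2)
    (by rwa [← Nat.card_eq_fintype_card]) hσ
  have hy' : g * (y.1 : G)⁻¹ * g⁻¹ = (y.1 : G) := congrArg (fun z : F => (z.1 : G)) hy
  obtain ⟨i, hi⟩ := IsPGroup.iff_orderOf.1 hP y.1
  refine ⟨y.1, ?_, real_of_inv (g := g) ?_, y.2⟩
  · rw [Subgroup.orderOf_coe, hi]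
    exact (hr.odd_of_ne_two hr2).pow
  · rw [← inv_inj, inv_inv, conj_inv, hy']

/-- Without real elements of odd order there is a normal Sylow 2-subgroup. -/
theorem two_closed_of_no_real (h : ∀ x g : G, Odd (orderOf x) → g * x * g⁻¹ = x⁻¹ → x = 1)
    (P : Sylow 2 G) : (P : Subgroup G).Normal := by
  by_contra hP
  obtain ⟨r, hr, hr2, x, -, g, -, hx1, ⟨k, hk⟩, hg⟩ := TwoClosedZJ.exists_realIn ⟨P, hP⟩
  exact hx1 (h x g ((hr.odd_of_ne_two hr2).pow.of_dvd_nat (orderOf_dvd_of_pow_eq_one hk)) hg)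

theorem solvable_of_two_closed (P : Sylow 2 G) (hP : (P : Subgroup G).Normal) :
    Group.IsSolvable G := by
  haveI : Fact (Nat.Prime 2) := ⟨Nat.prime_two⟩
  haveI := hP
  haveI : Group.IsSolvable (G ⧸ (P : Subgroup G)) := Cfsg.Agent.S0205.result (by
    rw [← Subgroup.index_eq_card, Nat.odd_iff, ← Nat.two_dvd_ne_zero]
    exact P.not_dvd_index)
  haveI := P.isPGroup'.isNilpotent
  exact Group.isSolvable_of_ker_le_range (P : Subgroup G).subtype
    (QuotientGroup.mk' (P : Subgroup G)) (by rw [QuotientGroup.ker_mk', Subgroup.range_subtype])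

end Cfsg.Agent.RealGraph
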