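import Cfsg.Agent.Lib.RealGraph.Many
import Cfsg.Agent.S0205

/-!
# The cyclic subgroup is normal
-/

set_option autoImplicit false
set_option linter.style.haveILetI false
set_option linter.unusedSectionVars false

namespace Cfsg.Agent.RealGraph

open Cfsg.Agent

universe u

variable {D E : Type u} [Group D] [Finite D] [AddCommGroup E] [Finite E] [Nontrivial E]
  [DistribMulAction D E] [FaithfulSMul D E]

theorem normal_p_le {p : ℕ} [Fact p.Prime] {R : Subgroup D} (hn : R.Normal) (hR : IsPGroup p R)
    {H : Subgroup D} (hH : ¬ p ∣ H.index) : R ≤ H := by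
  intro g hg
  obtain ⟨k, hk⟩ := IsPGroup.iff_orderOf.1 hR ⟨g, hg⟩
  rw [Subgroup.orderOf_mk] at hk
  obtain ⟨c, hc⟩ := ClassGraph.exists_conj_mem Fact.out hH hk
  haveI := hn
  obtain ⟨T⟩ : Nonempty (Sylow p H) := inferInstance
  obtain ⟨T', hT'⟩ := (T.isPGroup'.map H.subtype).exists_le_sylow
  have heq : (T : Subgroup H).map H.subtype = T' := by
    refine Subgroup.eq_of_le_of_card_ge hT' ?_
    obtain ⟨i, hi⟩ := IsPGroup.iff_card.1 T'.isPGroup'
    have h3 : ((T : Subgroup H).map H.subtype).relIndex T' = 1 := by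
      refine Nat.eq_one_of_dvd_coprimes (Nat.Coprime.pow_left i
        ((Fact.out : p.Prime).coprime_iff_not_dvd.2 ?_)) (hi ▸ Subgroup.relIndex_dvd_card _ _)
        (Subgroup.relIndex_dvd_index_of_le hT')
      rw [Subgroup.index_map_subtype]
      exact (Fact.out : p.Prime).not_dvd_mul T.not_dvd_index hH
    exact Nat.le_of_dvd Nat.card_pos (Subgroup.card_dvd_of_le (Subgroup.relIndex_eq_one.1 h3))
  exact Subgroup.map_subtype_le _ (heq ▸ hR.le_sylow_of_normal T' hg)

/-- A soluble group: the cyclic subgroup is the Fitting subgroup. -/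
theorem normal_of_solvable {C : Subgroup D} (hC : Hyp E C) [Group.IsSolvable D] : C.Normal := by
  haveI := FittingCores.fitting_normal (G := D)
  have hFC : Cfsg.fittingSubgroup D ≤ C := by
    rw [FittingCores.fitting_eq_iSup_pCore]
    refine iSup_le fun q => ?_
    obtain ⟨p, hp⟩ := q
    haveI := Fact.mk hp
    haveI hn : (Cfsg.pCore p D).Normal := FittingCores.pCore_normal p
    have hR : IsPGroup p (Cfsg.pCore p D) := FittingCores.pCore_isPGroup p
    by_cases hpc : p ∣ C.index
    · intro g hg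
      suffices hg1 : g = 1 by exact hg1 ▸ one_mem C
      refine eq_one_of_fix (E := E) fun e => ?_
      by_cases he : e = 0
      · rw [he, smul_zero]
      refine normal_p_le hn hR (H := MulAction.stabilizer D e) ?_ hg
      rw [hC.card_orbit he]
      exact fun h => hp.one_lt.ne' (Nat.eq_one_of_dvd_coprimes hC.cop h hpc)
    · exact normal_p_le hn hR hpc
  have hCF : C ≤ Cfsg.fittingSubgroup D := fun g hg => FittingCores.centralizer_fitting_le
    (Subgroup.mem_centralizer_iff.2 fun f hf => hC.comm (hFC hf) hg)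
  rw [← le_antisymm hFC hCF]
  infer_instance

/-- The cyclic subgroup is normal. -/
theorem core_lt : ∀ n : ℕ, CoreLT.{u} n := by
  intro n
  induction n using Nat.strong_induction_on with
  | _ n ih =>
    intro D E _ _ _ _ _ _ _ hlt hb C hC
    have ih' : CoreLT.{u} (Nat.card D) := ih _ hlt
    have hsub := subNormal_of hb ih'
    by_cases h2 : 2 ∣ Nat.card D
    swap
    · haveI : Group.IsSolvable D :=
        Cfsg.Agent.S0205.result (Nat.odd_iff.2 (Nat.two_dvd_ne_zero.1 h2))
      exact normal_of_solvable hC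
    haveI : Fact (Nat.Prime 2) := ⟨Nat.prime_two⟩
    obtain ⟨g, hg⟩ := exists_prime_orderOf_dvd_card' (G := D) 2 h2
    have hg2 : g * g = 1 := by rw [← pow_two, ← hg, pow_orderOf_eq_one]
    have hg1 : g ≠ 1 := fun h => by rw [h, orderOf_one] at hg; omega
    obtain ⟨S, h, hS, hh, hh1, hcen⟩ := exists_central hg2 hg1
    obtain ⟨r, x, hr, hr2, hx, hhx⟩ := hb.exists_inverted hh hh1
    obtain ⟨a, -, hhN⟩ := hC.norm_inverted hb hsub hr hr2 hx hhx
    have hC' : Hyp E (cj a C) := hC.conj a
    have hn : (cj a C).Normal := by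
      refine hC'.normal_of_one hb hsub hhN hh hh1 (S := S) ?_
      by_cases hM : ∀ T : Sylow 2 D, h ∈ (T : Subgroup D) → T = S
      · exact hC'.one_of_unique hb hsub hhN hh hh1 hS hcen hM
      · push Not at hM
        obtain ⟨T, hT, hne⟩ := hM
        exact hC'.one_of_many hb ih' hhN hh hh1 hS hcen hT hne
    have heq : cj a⁻¹ (cj a C) = C := by rw [cj_cj, inv_mul_cancel, cj_one]
    rw [← heq]
    exact (mem_normalizer_cj.1 ((Subgroup.normalizer_eq_top_iff.2 hn).ge
      (Subgroup.mem_top a⁻¹))).symm ▸ hn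

theorem core (hb : Base D E) {C : Subgroup D} (hC : Hyp E C) : C.Normal :=
  core_lt _ D E (Nat.lt_succ_self _) hb C hC

end Cfsg.Agent.RealGraph
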