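import Cfsg.Agent.Lib.RealGraph.Branches

/-!
# A disconnected graph on the real class sizes
-/

set_option autoImplicit false
set_option linter.style.haveILetI false
set_option linter.unusedSectionVars false

namespace Cfsg.Agent.RealGraph

open Cfsg.Agent
open Cfsg.Agent.ClassGraph (sz InSide mem_cent sz_one_iff)

universe u

variable {G : Type u} [Group G] [Finite G]

/-- The real class sizes. -/
def realSizes (G : Type u) [Group G] : Set ℕ :=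
  {n : ℕ | ∃ x : G, IsConj x x⁻¹ ∧ (Subgroup.centralizer ({x} : Set G)).index = n}

/-- Either the Sylow 2-subgroups are normal or the outcome of the branches holds. -/
theorem split_cases {P1 : ℕ → Prop} (S : Split G P1) (h2 : P1 2) :
    (∀ P : Sylow 2 G, (P : Subgroup G).Normal) ∨
      (Outcome G P1 ∧ ∃ x : G, x ≠ 1 ∧ Odd (orderOf x) ∧ IsConj x x⁻¹) := by
  by_cases hx₀ : ∃ x : G, x ≠ 1 ∧ Odd (orderOf x) ∧ IsConj x x⁻¹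
  swap
  · refine Or.inl (two_closed_of_no_real fun x g hx hg => ?_)
    by_contra h1
    exact hx₀ ⟨x, h1, hx, real_of_inv hg⟩
  obtain ⟨t, ht, htS, ht1⟩ := S.right
  refine Or.inr ⟨?_, hx₀⟩
  by_cases hcomm : ∀ b₁ b₂, IsConj t b₁ → IsConj t b₂ → b₁ * b₂ = b₂ * b₁
  · exact branch_comm S h2 hx₀ ht htS ht1 hcomm
  · exact branch_noncomm S h2 hx₀ ht htS hcomm

theorem split_of_graph (π₁ π₂ : Set ℕ) (h₁ : π₁.Nonempty) (h₂ : π₂.Nonempty)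
    (hdisj : Disjoint π₁ π₂)
    (hsub : ∀ q ∈ π₁ ∪ π₂, q.Prime ∧ ∃ n ∈ realSizes G, q ∣ n)
    (hcover : ∀ q : ℕ, q.Prime → (∃ n ∈ realSizes G, q ∣ n) → q ∈ π₁ ∨ q ∈ π₂)
    (hnoedge : ∀ a ∈ π₁, ∀ b ∈ π₂, ∀ n ∈ realSizes G, ¬ (a ∣ n ∧ b ∣ n)) :
    Split G (· ∈ π₁) := by
  refine ⟨fun x hx => ?_, ?_, ?_⟩
  · by_contra hno
    push Not at hno
    obtain ⟨hA, hB⟩ := hno
    obtain ⟨q, hq, hqd, hq1⟩ : ∃ q, q.Prime ∧ q ∣ sz x ∧ q ∉ π₁ := by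
      by_contra h
      push Not at h
      exact hA fun q hq hd => h q hq hd
    obtain ⟨p, hp, hpd, hp1⟩ : ∃ p, p.Prime ∧ p ∣ sz x ∧ p ∈ π₁ := by
      by_contra h
      push Not at h
      exact hB fun q hq hd => h q hq hd
    exact hnoedge p hp1 q ((hcover q hq ⟨_, ⟨x, hx, rfl⟩, hqd⟩).resolve_left hq1) _ ⟨x, hx, rfl⟩
      ⟨hpd, hqd⟩
  · obtain ⟨p, hp⟩ := h₁
    obtain ⟨hpp, n, ⟨x, hx, rfl⟩, hd⟩ := hsub p (Or.inl hp)
    refine ⟨x, hx, fun q hq hqd => ?_, fun h => hpp.one_lt.ne' (Nat.dvd_one.1 (h ▸ hd))⟩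
    exact (hcover q hq ⟨_, ⟨x, hx, rfl⟩, hqd⟩).resolve_right fun h =>
      hnoedge p hp q h _ ⟨x, hx, rfl⟩ ⟨hd, hqd⟩
  · obtain ⟨p, hp⟩ := h₂
    obtain ⟨hpp, n, ⟨x, hx, rfl⟩, hd⟩ := hsub p (Or.inr hp)
    refine ⟨x, hx, fun q hq hqd hq1 => ?_, fun h => hpp.one_lt.ne' (Nat.dvd_one.1 (h ▸ hd))⟩
    exact hnoedge q hq1 p hp _ ⟨x, hx, rfl⟩ ⟨hqd, hd⟩

/-- The real class sizes in the subgroup generated by the 2-elements. -/
theorem outcome_sizes {P1 : ℕ → Prop} (S : Split G P1) (h2 : P1 2) (O : Outcome G P1) :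
    ∀ n ∈ realSizes (twoGen G), Odd n ∨ ∃ j : ℕ, n = 2 ^ j := by
  rintro _ ⟨x, hx, rfl⟩
  haveI := twoGen_normal (G := G)
  have hxr : IsConj (x : G) (x : G)⁻¹ := MonoidHom.map_isConj (twoGen G).subtype hx
  have hdvd : (Subgroup.centralizer ({x} : Set (twoGen G))).index ∣ sz (x : G) :=
    OddDown.index_cent_dvd_normal (twoGen G) x
  rcases S.split _ hxr with hS | hS
  · refine Or.inr ⟨_, Nat.eq_prime_pow_of_unique_prime_dvd Subgroup.index_ne_zero_of_finite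
      fun {d} hd hdd => ?_⟩
    by_contra hd2
    exact O.free d hd hd2 (hS d hd (hdd.trans hdvd)) (hdd.trans (Subgroup.index_dvd_card _))
  · left
    rw [Nat.odd_iff, ← Nat.two_dvd_ne_zero]
    exact fun h => hS 2 Nat.prime_two (h.trans hdvd) h2

theorem main_aux {P1 : ℕ → Prop} (S : Split G P1) (h2 : P1 2) (O : Outcome G P1)
    (hx₀ : ∃ x : G, x ≠ 1 ∧ Odd (orderOf x) ∧ IsConj x x⁻¹) :
    ∃ π₁ π₂ : Set ℕ, π₁.Nonempty ∧ π₂.Nonempty ∧ Disjoint π₁ π₂ ∧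
      (∀ q ∈ π₁ ∪ π₂, q.Prime ∧ ∃ n ∈ realSizes (twoGen G), q ∣ n) ∧
      (∀ q : ℕ, q.Prime → (∃ n ∈ realSizes (twoGen G), q ∣ n) → q ∈ π₁ ∨ q ∈ π₂) ∧
      ∀ a ∈ π₁, ∀ b ∈ π₂, ∀ n ∈ realSizes (twoGen G), ¬ (a ∣ n ∧ b ∣ n) := by
  haveI := twoGen_normal (G := G)
  have hsz := outcome_sizes S h2 O
  have hreal : ∀ y : G, IsConj y y⁻¹ → ∃ h : y ∈ twoGen G,
      IsConj (⟨y, h⟩ : twoGen G) (⟨y, h⟩ : twoGen G)⁻¹ :=
    fun y hy => (Cfsg.Agent.S3863.result y hy).2.2 (twoGen G) twoGen_odd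
  obtain ⟨x, hx1, hxo, hxr⟩ := hx₀
  obtain ⟨hxK, hxrK⟩ := hreal x hxr
  have heven : 2 ∣ (Subgroup.centralizer ({(⟨x, hxK⟩ : twoGen G)} : Set (twoGen G))).index := by
    by_contra h
    have h1 := congrArg Subtype.val
      (sq_of_odd hxrK (Nat.odd_iff.2 (Nat.two_dvd_ne_zero.1 h)))
    refine hx1 (orderOf_eq_one_iff.1 (Nat.eq_one_of_dvd_coprimes
      (Nat.coprime_two_right.2 hxo) dvd_rfl (orderOf_dvd_of_pow_eq_one ?_)))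
    rw [pow_two]
    exact h1
  obtain ⟨b, y, hb, hbS, hyK, hby⟩ := O.witness
  obtain ⟨hbK, hbrK⟩ := hreal b hb
  have hb1 : (Subgroup.centralizer ({(⟨b, hbK⟩ : twoGen G)} : Set (twoGen G))).index ≠ 1 := by
    intro h
    exact hby (congrArg Subtype.val
      (mem_cent.1 ((Subgroup.index_eq_one.1 h).ge (Subgroup.mem_top (⟨y, hyK⟩ : twoGen G)))))
  obtain ⟨q, hq, hqd⟩ := Nat.exists_prime_and_dvd hb1
  have hq2 : q ≠ 2 := fun h => hbS 2 Nat.prime_two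
    ((h ▸ hqd).trans (OddDown.index_cent_dvd_normal (twoGen G) ⟨b, hbK⟩)) h2
  refine ⟨{2}, {p | p.Prime ∧ p ≠ 2 ∧ ∃ n ∈ realSizes (twoGen G), p ∣ n}, ⟨2, rfl⟩,
    ⟨q, hq, hq2, _, ⟨_, hbrK, rfl⟩, hqd⟩, Set.disjoint_singleton_left.2 fun h => h.2.1 rfl,
    ?_, fun p hp hn => ?_, ?_⟩
  · rintro p (rfl | ⟨hp, -, hn⟩)
    · exact ⟨Nat.prime_two, _, ⟨_, hxrK, rfl⟩, heven⟩
    · exact ⟨hp, hn⟩
  · by_cases h : p = 2
    · exact Or.inl h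
    · exact Or.inr ⟨hp, h, hn⟩
  · rintro a rfl c ⟨hc, hc2, -⟩ n hn ⟨han, hcn⟩
    rcases hsz n hn with h | ⟨j, rfl⟩
    · exact h.not_two_dvd_nat han
    · exact hc2 ((Nat.prime_dvd_prime_iff_eq hc Nat.prime_two).1 (hc.dvd_of_dvd_pow hcn))

theorem solvable {P1 : ℕ → Prop} (S : Split G P1) (h2 : P1 2) : Group.IsSolvable G := by
  rcases split_cases S h2 with h | ⟨O, -⟩
  · obtain ⟨P⟩ : Nonempty (Sylow 2 G) := inferInstance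
    exact solvable_of_two_closed P (h P)
  · exact O.solvable

/-- The two sides can be named so that `2` is on the first. -/
theorem exists_split (π₁ π₂ : Set ℕ) (h₁ : π₁.Nonempty) (h₂ : π₂.Nonempty)
    (hdisj : Disjoint π₁ π₂)
    (hsub : ∀ q ∈ π₁ ∪ π₂, q.Prime ∧ ∃ n ∈ realSizes G, q ∣ n)
    (hcover : ∀ q : ℕ, q.Prime → (∃ n ∈ realSizes G, q ∣ n) → q ∈ π₁ ∨ q ∈ π₂)
    (hnoedge : ∀ a ∈ π₁, ∀ b ∈ π₂, ∀ n ∈ realSizes G, ¬ (a ∣ n ∧ b ∣ n)) :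
    (∃ n ∈ realSizes G, 2 ∣ n) ∧ ∃ P1 : ℕ → Prop, Split G P1 ∧ P1 2 := by
  have S := split_of_graph π₁ π₂ h₁ h₂ hdisj hsub hcover hnoedge
  obtain ⟨x, hx, hx2⟩ := S.exists_even
  refine ⟨⟨_, ⟨x, hx, rfl⟩, hx2⟩, ?_⟩
  rcases hcover 2 Nat.prime_two ⟨_, ⟨x, hx, rfl⟩, hx2⟩ with h | h
  · exact ⟨_, S, h⟩
  · refine ⟨_, split_of_graph π₂ π₁ h₂ h₁ hdisj.symm (fun q hq => hsub q (Or.symm hq))
      (fun q hq hn => Or.symm (hcover q hq hn))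
      (fun a ha b hb n hn hab => hnoedge b hb a ha n hn hab.symm), h⟩

end Cfsg.Agent.RealGraph
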