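import Cfsg.Agent.Lib.RealGraph.OneSylow
import Cfsg.Agent.Lib.RealGraph.Arith

/-!
# An involution in several Sylow 2-subgroups is the only one in each
-/

set_option autoImplicit false
set_option linter.style.haveILetI false
set_option linter.unusedSectionVars false

namespace Cfsg.Agent.RealGraph

open Cfsg.Agent
open Cfsg.Agent.ThreePrimes (Spread fixS mem_fixS)

universe u

/-- The conclusion for all groups of smaller order. -/
def CoreLT (n : ℕ) : Prop :=
  ∀ (D E : Type u) [Group D] [Finite D] [AddCommGroup E] [Finite E] [Nontrivial E]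
    [DistribMulAction D E] [FaithfulSMul D E],
    Nat.card D < n → Base D E → ∀ C : Subgroup D, Hyp E C → C.Normal

variable {D E : Type u} [Group D] [Finite D] [AddCommGroup E] [Finite E] [Nontrivial E]
  [DistribMulAction D E] [FaithfulSMul D E]

theorem subNormal_of (hb : Base D E) (ih : CoreLT.{u} (Nat.card D)) : SubNormal D E := by
  intro X hX H hH hle
  have hlt : Nat.card H < Nat.card D := by
    refine lt_of_le_of_ne (Nat.le_of_dvd Nat.card_pos (Subgroup.card_subgroup_dvd_card H)) fun h =>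
      hH (H.eq_top_of_card_eq h)
  haveI := ih H E hlt (hX.base_restrict hb hle) _ (hX.restrict hle)
  exact Subgroup.le_normalizer_of_normal_subgroupOf hle

namespace Hyp

variable {C : Subgroup D}

theorem one_of_many (hb : Base D E) (hC : Hyp E C) (ih : CoreLT.{u} (Nat.card D))
    {h : D} (hhN : h ∈ Subgroup.normalizer (C : Set D)) (hh : h * h = 1) (hh1 : h ≠ 1)
    {S : Sylow 2 D} (hS : h ∈ (S : Subgroup D)) (hcen : ∀ s ∈ (S : Subgroup D), s * h = h * s)
    {T₀ : Sylow 2 D} (hT₀ : h ∈ (T₀ : Subgroup D)) (hne : T₀ ≠ S) :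
    ∀ g ∈ (S : Subgroup D), g * g = 1 → g ≠ 1 → g = h := by
  classical
  intro w hwS hw hw1
  by_contra hwh
  have hsub := subNormal_of hb ih
  have hhi : h⁻¹ = h := inv_eq_of_mul_eq_one_right hh
  set P := TransLinear.fixSub E h with hP
  obtain ⟨r₀, x₀, hr₀, hr₀2, hx₀, hhx₀⟩ := hb.exists_inverted hh hh1
  obtain ⟨hPsq, hPr⟩ := hb.card_fix hh (hx₀ ▸ hr₀.odd_of_ne_two hr₀2)
    (fun h1 => hr₀.one_lt.ne (by rw [← hx₀, h1, orderOf_one])) hhx₀
  obtain ⟨N, hN⟩ := card_two_pow (E := E) hb.exp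
  obtain ⟨n, -, hn⟩ := (Nat.dvd_prime_pow Nat.prime_two).1 (hN ▸ P.card_addSubgroup_dvd_card)
  have hn0 : 0 < n := by
    rcases Nat.eq_zero_or_pos n with h0 | h0
    · exfalso
      rw [h0, pow_zero] at hn
      have := Finite.one_lt_card (α := E)
      rw [← hPsq, hn] at this
      omega
    · exact h0
  -- the part of `C` centralising `h`
  set C' : Subgroup D := C ⊓ Subgroup.centralizer {h} with hC'
  have hC'mem : ∀ {u : D}, u ∈ C' ↔ u ∈ C ∧ u * h = h * u := fun {u} => by
    rw [hC', Subgroup.mem_inf, Subgroup.mem_centralizer_singleton_iff]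
  have hC'odd : ¬ 2 ∣ Nat.card C' := fun h2 =>
    (hC.odd hb).not_two_dvd_nat (h2.trans (Subgroup.card_dvd_of_le inf_le_left))
  -- the Sylow subgroups through `h`
  set A := MulAction.stabilizer C' S with hA
  set M := A.index with hMdef
  have horb : ∀ T : Sylow 2 D, T ∈ MulAction.orbit C' S ↔ h ∈ (T : Subgroup D) := by
    intro T
    constructor
    · rintro ⟨⟨u, hu⟩, rfl⟩
      show h ∈ ((u • S : Sylow 2 D) : Subgroup D)
      rw [mem_smul_sylow, mul_assoc, ← (hC'mem.1 hu).2, inv_mul_cancel_left]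
      exact hS
    · intro hT
      obtain ⟨u, hu, rfl⟩ := hC.trans_sylow hb S T
      exact ⟨⟨u, hC'mem.2 ⟨hu, hC.move hb hhN hu hS hT⟩⟩, rfl⟩
  have hM1 : 1 < M := by
    rw [hMdef, hA, MulAction.index_stabilizer]
    exact (Set.one_lt_ncard (Set.toFinite _)).2
      ⟨T₀, (horb _).2 hT₀, S, (horb _).2 hS, hne⟩
  have hMC : M ∣ Nat.card C' := A.index_dvd_card
  -- the count of the vectors fixed by `h`
  set s := Nat.card (fixS E (S : Subgroup D)) with hs
  obtain ⟨d, -, hd⟩ :=
    (Nat.dvd_prime_pow Nat.prime_two).1 (hN ▸ (fixS E (S : Subgroup D)).card_addSubgroup_dvd_card)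
  have hMd : M * (2 ^ d - 1) = 2 ^ n - 1 := by
    let Sy := {T : Sylow 2 D // h ∈ (T : Subgroup D)}
    have hMc : M = Nat.card Sy := by
      rw [hMdef, hA, MulAction.index_stabilizer, ← Nat.card_coe_set_eq]
      exact Nat.card_congr (Equiv.subtypeEquivRight horb)
    have hsz : ∀ T : Sy, Nat.card {e : fixS E (T.1 : Subgroup D) // e ≠ 0} + 1 = 2 ^ d := by
      intro T
      rw [card_ne_add_one, ← hd]
      obtain ⟨u, hu, hT⟩ := hC.trans_sylow hb S T.1
      have hT' : u⁻¹ • T.1 = S := by rw [← hT, inv_smul_smul]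
      refine Nat.card_congr ⟨fun e => ⟨u⁻¹ • (e : E), hT' ▸ smul_mem_fixS e.2⟩,
        fun e => ⟨u • (e : E), hT ▸ smul_mem_fixS e.2⟩, fun e => by simp, fun e => by simp⟩
    have hbij : Nat.card (Σ T : Sy, {e : fixS E (T.1 : Subgroup D) // e ≠ 0}) + 1 = 2 ^ n := by
      rw [← hn, ← card_ne_add_one (0 : P)]
      refine congrArg (· + 1) (Nat.card_congr (Equiv.ofBijective
        (fun p => (⟨⟨(p.2.1 : E), p.2.1.2 h p.1.2⟩, fun h0 => p.2.2
          (Subtype.ext (congrArg (fun e : P => (e : E)) h0 :))⟩ : {e : P // e ≠ 0})) ⟨?_, ?_⟩))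
      · rintro ⟨⟨T, hT⟩, ⟨⟨x, hx⟩, hx0⟩⟩ ⟨⟨T', hT'⟩, ⟨⟨y, hy⟩, hy0⟩⟩ hxy
        obtain rfl : x = y := congrArg (fun e : {e : P // e ≠ 0} => ((e : P) : E)) hxy
        obtain rfl := hb.eq (fun h0 => hx0 (Subtype.ext h0)) hx hy
        rfl
      · rintro ⟨⟨e, he⟩, he0⟩
        have he0' : e ≠ 0 := fun h0 => he0 (Subtype.ext h0)
        obtain ⟨T, hT⟩ := hb.exists_sylow he0'
        have hhT : h ∈ (T : Subgroup D) :=
          hb.mem_sylow he0' hT (k := 1) (by rw [pow_one, pow_two, hh]) he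
        exact ⟨⟨⟨T, hhT⟩, ⟨⟨e, hT⟩, fun h0 => he0' (congrArg Subtype.val h0)⟩⟩, rfl⟩
    obtain ⟨k, hk⟩ : ∃ k, 2 ^ d = k + 1 :=
      ⟨_, (Nat.succ_pred_eq_of_pos (Nat.two_pow_pos d)).symm⟩
    haveI : Fintype Sy := Fintype.ofFinite _
    rw [Nat.card_sigma, Finset.sum_congr rfl
      (fun T _ => Nat.add_right_cancel ((hsz T).trans hk) : ∀ T ∈ _, _ = k),
      Finset.sum_const, Finset.card_univ, ← Nat.card_eq_fintype_card, smul_eq_mul, ← hMc] at hbij
    rw [hk, Nat.add_sub_cancel, ← hbij, Nat.add_sub_cancel]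
  have hjM : ∀ j, 0 < j → j < n → ¬ M ∣ 2 ^ j - 1 := fun j => not_dvd_sub_one hMd hM1
  -- the kernel on the fixed space
  let U : Subgroup D :=
    { carrier := {g | g * h = h * g ∧ ∀ e ∈ P, g • e = e}
      one_mem' := ⟨by simp, fun e _ => one_smul _ _⟩
      mul_mem' := fun {a b} ha hb =>
        ⟨by rw [mul_assoc, hb.1, ← mul_assoc, ha.1, mul_assoc],
          fun e he => by rw [mul_smul, hb.2 e he, ha.2 e he]⟩
      inv_mem' := fun {a} ha =>
        ⟨(Commute.inv_left ha.1).eq, fun e he => by rw [inv_smul_eq_iff, ha.2 e he]⟩ }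
  have hUmem : ∀ {g : D}, g ∈ U ↔ g * h = h * g ∧ ∀ e ∈ P, g • e = e := fun {g} => Iff.rfl
  have hPmem : ∀ {e : E}, e ∈ P ↔ h • e = e := fun {e} => TransLinear.mem_fixSub
  have hhU : h ∈ U := ⟨rfl, fun e he => hPmem.1 he⟩
  have hmov : ∀ g ∈ U, ∀ e : E, g • e + e ∈ P := by
    intro g hg e
    have h1 : g • (h • e + e) = h • e + e := hg.2 _ (hPr.le ⟨e, rfl⟩)
    rw [smul_add, ← mul_smul, hg.1, mul_smul] at h1
    rw [hPmem, smul_add]
    have h2 : h • g • e = h • e + e + g • e := by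
      rw [← h1, add_assoc, hb.exp, add_zero]
    rw [h2]
    calc h • e + e + g • e + h • e = (h • e + h • e) + (g • e + e) := by abel
      _ = g • e + e := by rw [hb.exp, zero_add]
  have hU2 : ∀ g ∈ U, g * g = 1 := fun g hg => eq_one_of_fix (E := E) fun e => by
    have h1 := hg.2 _ (hmov g hg e)
    rw [smul_add] at h1
    rw [mul_smul]
    exact add_right_cancel (h1.trans (add_comm _ _))
  obtain ⟨e₀, he₀⟩ : ∃ e, e ∉ P := by
    by_contra hall
    push Not at hall
    exact hh1 (eq_one_of_fix fun e => hPmem.1 (hall e))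
  have hUinj : Function.Injective fun g : U => (⟨(g : D) • e₀ + e₀, hmov g g.2 e₀⟩ : P) := by
    intro a b hab
    have h1 : (a : D) • e₀ = (b : D) • e₀ := add_right_cancel (congrArg Subtype.val hab)
    have h2 : ((b : D) * a) • e₀ = e₀ := by
      rw [mul_smul, h1, ← mul_smul, hU2 b b.2, one_smul]
    by_cases h3 : (b : D) * a = 1
    · refine Subtype.ext ?_
      rw [← inv_eq_of_mul_eq_one_right (hU2 b b.2)]
      exact eq_inv_of_mul_eq_one_right h3
    exfalso
    obtain ⟨r, x, hr, hr2, hx, hgx⟩ := hb.exists_inverted (hU2 _ (mul_mem b.2 a.2)) h3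
    obtain ⟨hQ, -⟩ := hb.card_fix (hU2 _ (mul_mem b.2 a.2)) (hx ▸ hr.odd_of_ne_two hr2)
      (fun h1 => hr.one_lt.ne (by rw [← hx, h1, orderOf_one])) hgx
    have hle : P ≤ TransLinear.fixSub E ((b : D) * a) := fun e he =>
      TransLinear.mem_fixSub.2 ((mul_mem b.2 a.2 : (b : D) * a ∈ U).2 e he)
    have heq := AddSubgroup.eq_of_le_of_card_ge hle
      (Nat.mul_self_le_mul_self_iff.1 (hQ.trans hPsq.symm).le)
    exact he₀ (heq.ge (TransLinear.mem_fixSub.2 h2))
  have hUp : IsPGroup 2 U := fun g => ⟨1, Subtype.ext (by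
    rw [pow_one, SubmonoidClass.coe_pow, pow_two, hU2 _ g.2, OneMemClass.coe_one])⟩
  haveI : Fact (Nat.Prime 2) := ⟨Nat.prime_two⟩
  obtain ⟨a, ha⟩ := IsPGroup.iff_card.1 hUp
  have han : a ≤ n := (Nat.pow_le_pow_iff_right one_lt_two).1
    (ha ▸ hn ▸ Nat.card_le_card_of_injective _ hUinj)
  -- only `h`
  have hUh : ∀ g ∈ U, g = 1 ∨ g = h := by
    intro g₀ hg₀
    by_contra hg₀'
    push Not at hg₀'
    let Y := {g : D // g ∈ U ∧ g ≠ 1 ∧ g ≠ h}
    letI : MulAction C' Y :=
      { smul := fun c g => ⟨(c : D) * g * (c : D)⁻¹, ⟨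
          (((show Commute (c : D) h from (hC'mem.1 c.2).2).mul_left
            (show Commute (g : D) h from g.2.1.1)).mul_left
              (show Commute (c : D) h from (hC'mem.1 c.2).2).inv_left).eq,
          fun e he => by
            obtain ⟨-, hc⟩ := hC'mem.1 c.2
            have hce : (c : D)⁻¹ • e ∈ P := by
              rw [hPmem, ← mul_smul, ← (Commute.inv_left hc).eq, mul_smul, hPmem.1 he]
            rw [mul_smul, mul_smul, g.2.1.2 _ hce, smul_inv_smul]⟩,
          fun h1 => g.2.2.1 (by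
            have := congrArg (fun y => (c : D)⁻¹ * y * c) h1
            simpa [mul_assoc] using this),
          fun h1 => g.2.2.2 (by
            have := congrArg (fun y => (c : D)⁻¹ * y * c) h1
            rw [mul_assoc (c : D)⁻¹ h, ← (hC'mem.1 c.2).2, inv_mul_cancel_left] at this
            simpa [mul_assoc] using this)⟩
        one_smul := fun g => Subtype.ext (by show (1 : D) * g * (1 : D)⁻¹ = g; simp)
        mul_smul := fun c c' g => Subtype.ext (by
          show ((c : D) * c') * g * ((c : D) * c')⁻¹ = c * (c' * g * (c' : D)⁻¹) * (c : D)⁻¹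
          group) }
    have hstab : ∀ g : Y, MulAction.stabilizer C' g = (Subgroup.center D).subgroupOf C' := by
      intro g
      ext c
      rw [MulAction.mem_stabilizer_iff, Subgroup.mem_subgroupOf]
      constructor
      · intro hc
        have hc' : (c : D) * g * (c : D)⁻¹ = g := congrArg Subtype.val hc
        have hcg : (c : D) * g = g * c := mul_inv_eq_iff_eq_mul.1 hc'
        by_contra hnc
        have hgN := hC.norm_of hsub (g := (g : D)) (hC'mem.1 c.2).1 hnc
          (by rw [← hcg, mul_inv_cancel_right]; exact (hC'mem.1 c.2).1)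
        refine g.2.2.2 ?_
        have h1 := hC.eq_one_of_sq hb
          (hC.inv_mul_mem hb hgN hhN (hU2 _ g.2.1) hh g.2.2.1 hh1)
          (hU2 _ (mul_mem g.2.1 hhU))
        rw [mul_eq_one_iff_eq_inv.1 h1, hhi]
      · intro hc
        refine Subtype.ext ?_
        show (c : D) * g * (c : D)⁻¹ = g
        rw [← Subgroup.mem_center_iff.1 hc, mul_inv_cancel_right]
    have hdvd := index_dvd_card_of_stab _ hstab
    have hle : (Subgroup.center D).subgroupOf C' ≤ A := fun c hc => by
      rw [hA, MulAction.mem_stabilizer_iff]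
      refine Sylow.ext (Subgroup.ext fun z => ?_)
      show z ∈ (((c : D) • S : Sylow 2 D) : Subgroup D) ↔ _
      rw [mem_smul_sylow, mul_assoc,
        Subgroup.mem_center_iff.1 (Subgroup.mem_subgroupOf.1 hc : (c : D) ∈ _) z,
        inv_mul_cancel_left]
    have hY : Nat.card Y + 2 = 2 ^ a := by
      rw [← ha, ← card_ne_add_one (1 : U),
        ← card_ne_add_one (⟨⟨h, hhU⟩, fun h1 => hh1 (congrArg Subtype.val h1)⟩ :
          {g : U // g ≠ 1})]
      refine congrArg (fun k : ℕ => k + 1 + 1) ?_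
      exact Nat.card_congr
        ⟨fun g => ⟨⟨⟨g.1, g.2.1⟩, fun h1 => g.2.2.1 (congrArg Subtype.val h1)⟩,
          fun h1 => g.2.2.2 (congrArg (fun y : {g : U // g ≠ 1} => ((y : U) : D)) h1)⟩,
        fun g => ⟨g.1.1.1, g.1.1.2, fun h1 => g.1.2 (Subtype.ext h1),
          fun h1 => g.2 (Subtype.ext (Subtype.ext h1))⟩, fun g => rfl, fun g => rfl⟩
    haveI : Nonempty Y := ⟨⟨g₀, hg₀, hg₀'.1, hg₀'.2⟩⟩
    have hYpos : 0 < Nat.card Y := Nat.card_pos
    have ha2 : 2 ≤ a := by
      by_contra hlt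
      have : 2 ^ a ≤ 2 ^ 1 := Nat.pow_le_pow_right two_pos (by omega)
      omega
    obtain ⟨b, rfl⟩ : ∃ b, a = b + 1 := ⟨a - 1, by omega⟩
    have hMY : M ∣ 2 * (2 ^ b - 1) := by
      have h1 := (Subgroup.index_dvd_of_le hle).trans hdvd
      rwa [show Nat.card Y = 2 * (2 ^ b - 1) by rw [pow_succ] at hY; omega] at h1
    exact hjM b (by omega) (by omega) ((Nat.Coprime.dvd_of_dvd_mul_left
      (Nat.coprime_two_right.2 (Nat.odd_iff.2 (Nat.two_dvd_ne_zero.1 fun h2 =>
        hC'odd (h2.trans hMC)))) hMY))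
  -- the group induced on the fixed space
  set H : Subgroup D := Subgroup.centralizer {h} with hH
  have hHmem : ∀ {g : D}, g ∈ H ↔ g * h = h * g := fun {g} =>
    Subgroup.mem_centralizer_singleton_iff
  have hHP : ∀ g ∈ H, ∀ e ∈ P, g • e ∈ P := fun g hg e he => by
    rw [hPmem, ← mul_smul, ← hHmem.1 hg, mul_smul, hPmem.1 he]
  letI : DistribMulAction H P :=
    { smul := fun g e => ⟨(g : D) • (e : E), hHP g g.2 e e.2⟩
      one_smul := fun e => Subtype.ext (one_smul D (e : E))
      mul_smul := fun g g' e => Subtype.ext (mul_smul (g : D) (g' : D) (e : E))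
      smul_zero := fun g => Subtype.ext (smul_zero (g : D))
      smul_add := fun g e e' => Subtype.ext (smul_add (g : D) (e : E) (e' : E)) }
  let ψ : H →* (AddMonoid.End P)ˣ := (DistribMulAction.toAddMonoidEnd H P).toHomUnits
  let D₂ : Subgroup (AddMonoid.End P)ˣ := ψ.range
  letI : DistribMulAction D₂ P :=
    DistribMulAction.compHom _ ((Units.coeHom _).comp D₂.subtype)
  haveI : Finite (AddMonoid.End P) :=
    Finite.of_injective (fun f => (f : P → P)) DFunLike.coe_injective
  haveI : FaithfulSMul D₂ P :=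
    ⟨fun {a b} hab => Subtype.ext (Units.ext (AddMonoidHom.ext hab))⟩
  haveI : Nontrivial P := Finite.one_lt_card_iff_nontrivial.1
    (by rw [hn]; exact Nat.one_lt_pow hn0.ne' one_lt_two)
  let π : H →* D₂ := ψ.rangeRestrict
  have hπs : Function.Surjective π := ψ.rangeRestrict_surjective
  have hπ : ∀ (g : H) (e : P), π g • e = g • e := fun g e => rfl
  have hker : ∀ g : H, π g = 1 → (g : D) = 1 ∨ (g : D) = h := fun g hg =>
    hUh g ⟨hHmem.1 g.2, fun e he => by
      have h1 : (1 : D₂) • (⟨e, he⟩ : P) = g • ⟨e, he⟩ := hg ▸ hπ g ⟨e, he⟩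
      exact (congrArg Subtype.val ((one_smul D₂ (⟨e, he⟩ : P)).symm.trans h1)).symm⟩
  have hπh : π ⟨h, hHmem.2 rfl⟩ = 1 := eq_one_of_fix (E := P) fun e =>
    (hπ ⟨h, hHmem.2 rfl⟩ e).trans (Subtype.ext (hPmem.1 e.2))
  have hC'H : C' ≤ H := inf_le_right
  have horbC' : ∀ g ∈ H, ∀ e ∈ P, e ≠ 0 → ∃ u ∈ C', g • e = u • e := by
    intro g hg e he he0
    obtain ⟨u, hu, hue⟩ := hC.orb g e
    refine ⟨u, hC'mem.2 ⟨hu, ?_⟩, hue⟩
    have h1 : u⁻¹ * (h * u * h⁻¹) = 1 := by
      refine hC.semireg (mul_mem (inv_mem hu) (conj_mem hhN hu)) he0 ?_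
      calc (u⁻¹ * (h * u * h⁻¹)) • e = u⁻¹ • h • u • h⁻¹ • e := by simp only [mul_smul]
        _ = u⁻¹ • h • u • e := by rw [inv_smul_eq_iff.2 (hPmem.1 he).symm]
        _ = e := by rw [← hue, hPmem.1 (hHP g hg e he), hue, inv_smul_smul]
    calc u * h = h * u * h⁻¹ * h := by rw [← (inv_mul_eq_one.1 h1 : u = h * u * h⁻¹)]
      _ = h * u := inv_mul_cancel_right _ _
  have hidx : ∀ e : P, e ≠ 0 → (MulAction.stabilizer H (e : E)).index = Nat.card C' := fun e he =>
    hC.card_orbit_sub inf_le_left hC'H (fun h0 => he (Subtype.ext h0))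
      (fun g hg => horbC' g hg e e.2 fun h0 => he (Subtype.ext h0))
  have hsp2 : Base D₂ P :=
    { exp := fun e => Subtype.ext (hb.exp _)
      sp := spread_of fun e he => by
        have he' : (e : E) ≠ 0 := fun h0 => he (Subtype.ext h0)
        obtain ⟨T, hT⟩ := hb.exists_sylow he'
        obtain ⟨h1, h2, h3, h4⟩ := hb.sylow_subgroup H he' hT (by rw [hidx e he]; exact hC'odd)
        have hK : MulAction.stabilizer D₂ e = (MulAction.stabilizer H (e : E)).map π := by
          ext y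
          constructor
          · intro hy
            obtain ⟨g, rfl⟩ := hπs y
            exact ⟨g, MulAction.mem_stabilizer_iff.2 (congrArg Subtype.val
              ((hπ g e).symm.trans hy)), rfl⟩
          · rintro ⟨g, hg, rfl⟩
            exact MulAction.mem_stabilizer_iff.2 ((hπ g e).trans (Subtype.ext hg))
        refine ⟨((T : Subgroup D).subgroupOf H).map π, h1.map π,
          fun h5 => h2 (h5.trans (Subgroup.index_map_dvd _ hπs)),
          hK ▸ Subgroup.map_mono h3, hK ▸ ?_⟩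
        exact (Subgroup.map_mono h4).trans (Subgroup.le_normalizer_map π) }
  have hcard2 : Nat.card D₂ < Nat.card D := by
    refine lt_of_lt_of_le ?_ (Nat.le_of_dvd Nat.card_pos (Subgroup.card_subgroup_dvd_card H))
    haveI : Nontrivial π.ker :=
      ⟨⟨⟨⟨h, hHmem.2 rfl⟩, hπh⟩, 1, fun h1 => hh1 (congrArg
        (fun y : π.ker => ((y : H) : D)) h1)⟩⟩
    have h1 := π.ker.card_mul_index
    rw [Subgroup.index_ker, MonoidHom.range_eq_top.2 hπs, Subgroup.card_top] at h1
    rw [← h1]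
    exact lt_mul_of_one_lt_left Nat.card_pos Finite.one_lt_card
  have hC2 : Hyp P ((C'.subgroupOf H).map π) :=
    { cyc := by
        haveI := hC.cyc
        haveI : IsCyclic C' := isCyclic_of_injective (Subgroup.inclusion (inf_le_left : C' ≤ C))
          (Subgroup.inclusion_injective _)
        haveI : IsCyclic (C'.subgroupOf H) :=
          isCyclic_of_surjective (Subgroup.subgroupOfEquivOfLe hC'H).symm.toMonoidHom
            (MulEquiv.surjective _)
        exact isCyclic_of_surjective (π.subgroupMap (C'.subgroupOf H))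
          (π.subgroupMap_surjective _)
      irr := fun V hV => by
        obtain ⟨j, hjn, hj⟩ :=
          (Nat.dvd_prime_pow Nat.prime_two).1 (hn ▸ V.card_addSubgroup_dvd_card)
        by_cases h0 : j = 0
        · exact Or.inl (AddSubgroup.card_eq_one.1 (by rw [hj, h0, pow_zero]))
        by_cases hjn' : j = n
        · exact Or.inr (AddSubgroup.eq_top_of_card_eq _ (by rw [hj, hjn', hn]))
        exfalso
        let W := {e : V // e ≠ 0}
        have hVc : ∀ (c : C') (e : V), π ⟨c, hC'H c.2⟩ • (e : P) ∈ V := fun c e =>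
          hV _ ⟨⟨c, hC'H c.2⟩, c.2, rfl⟩ e e.2
        letI : MulAction C' W :=
          { smul := fun c e => ⟨⟨π ⟨c, hC'H c.2⟩ • ((e : V) : P), hVc c e⟩, fun h1 => e.2
              (Subtype.ext ((smul_eq_zero_iff_eq _).1 (congrArg Subtype.val h1)))⟩
            one_smul := fun e => Subtype.ext (Subtype.ext (Subtype.ext (one_smul D _)))
            mul_smul := fun c c' e => Subtype.ext (Subtype.ext (Subtype.ext (mul_smul (c : D) (c' : D) _))) }
        have hfree : ∀ e : W, MulAction.stabilizer C' e = ⊥ := fun e => by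
          refine (Subgroup.eq_bot_iff_forall _).2 fun c hc => Subtype.ext ?_
          exact hC.semireg (hC'mem.1 c.2).1
            (fun h1 => e.2 (Subtype.ext (Subtype.ext h1)))
            (congrArg (fun y : W => (((y : V) : P) : E)) hc)
        have h1 := index_dvd_card_of_stab _ hfree
        rw [Subgroup.index_bot] at h1
        have h2 : Nat.card W = 2 ^ j - 1 := by
          rw [← hj, ← card_ne_add_one (0 : V), Nat.add_sub_cancel]
        exact hjM j (Nat.pos_of_ne_zero h0) (lt_of_le_of_ne hjn hjn') (hMC.trans (h2 ▸ h1))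
      orb := fun y e => by
        obtain ⟨g, rfl⟩ := hπs y
        by_cases he : e = 0
        · exact ⟨1, one_mem _, by rw [he, smul_zero, smul_zero]⟩
        obtain ⟨u, hu, hue⟩ := horbC' g g.2 e e.2 fun h0 => he (Subtype.ext h0)
        exact ⟨π ⟨u, hC'H hu⟩, ⟨⟨u, hC'H hu⟩, hu, rfl⟩,
          (hπ g e).trans ((Subtype.ext hue).trans (hπ ⟨u, hC'H hu⟩ e).symm)⟩
      cop := by
        obtain ⟨e, he⟩ := exists_ne (0 : P)
        have he' : (e : E) ≠ 0 := fun h0 => he (Subtype.ext h0)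
        have hi : (C'.subgroupOf H).index = Nat.card (MulAction.stabilizer H (e : E)) := by
          have h1 := (MulAction.stabilizer H (e : E)).index_mul_card
          rw [hidx e he, ← (C'.subgroupOf H).card_mul_index,
            Nat.card_congr (Subgroup.subgroupOfEquivOfLe hC'H).toEquiv] at h1
          exact (Nat.eq_of_mul_eq_mul_left Nat.card_pos h1).symm
        have hi2 : (C'.subgroupOf H).index ∣ C.index := by
          rw [hi, ← hC.card_stab he']
          have h2 : (MulAction.stabilizer H (e : E)).map H.subtype ≤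
              MulAction.stabilizer D (e : E) := by
            rintro _ ⟨g, hg, rfl⟩
            exact hg
          rw [← Subgroup.card_map_of_injective H.subtype_injective]
          exact Subgroup.card_dvd_of_le h2
        refine (hC.cop.coprime_dvd_left ?_).coprime_dvd_right
          ((Subgroup.index_map_dvd _ hπs).trans hi2)
        refine (Subgroup.card_map_dvd _ π).trans ?_
        rw [Nat.card_congr (Subgroup.subgroupOfEquivOfLe hC'H).toEquiv]
        exact Subgroup.card_dvd_of_le inf_le_left }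
  haveI hn2 := ih D₂ P hcard2 hsp2 _ hC2
  -- `w` normalises `C`
  obtain ⟨u, hu, rfl⟩ : ∃ u : D, u ∈ C' ∧ u • S = T₀ := by
    obtain ⟨⟨u, hu⟩, hu'⟩ := (horb T₀).2 hT₀
    exact ⟨u, hu, hu'⟩
  have hunc : u ∉ Subgroup.center D := fun hc => hne (Sylow.ext (Subgroup.ext fun z => by
    rw [mem_smul_sylow, mul_assoc, Subgroup.mem_center_iff.1 hc z, inv_mul_cancel_left]))
  have hwH : w ∈ H := hHmem.2 (hcen w hwS)
  obtain ⟨⟨v, hvH⟩, hvC, hv⟩ : π ⟨w, hwH⟩ * π ⟨u, hC'H hu⟩ * (π ⟨w, hwH⟩)⁻¹ ∈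
      (C'.subgroupOf H).map π :=
    hn2.conj_mem _ ⟨⟨u, hC'H hu⟩, hu, rfl⟩ _
  rw [← map_inv, ← map_mul, ← map_mul] at hv
  set y : H := ⟨w, hwH⟩ * ⟨u, hC'H hu⟩ * ⟨w, hwH⟩⁻¹ with hy
  have hvC' : v ∈ C' := hvC
  have hyv : v⁻¹ * (y : D) = 1 ∨ v⁻¹ * (y : D) = h :=
    hker (⟨v, hvH⟩⁻¹ * y) (by rw [map_mul, map_inv, hv, inv_mul_cancel])
  have hyC : w * u * w⁻¹ ∈ C := by
    rcases hyv with h1 | h1
    · have h2 : (y : D) = v := (inv_mul_eq_one.1 h1).symm
      rw [show w * u * w⁻¹ = (y : D) from rfl, h2]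
      exact (hC'mem.1 hvC').1
    · exfalso
      have h2 : (y : D) = v * h := by rw [← h1, mul_inv_cancel_left]
      have h3 : (y : D) ^ Nat.card C = 1 := by
        show (w * u * w⁻¹) ^ Nat.card C = 1
        rw [conj_pow, orderOf_dvd_iff_pow_eq_one.1
          (Subgroup.orderOf_dvd_natCard C (hC'mem.1 hu).1), mul_one, mul_inv_cancel]
      rw [h2, Commute.mul_pow (hC'mem.1 hvC').2, orderOf_dvd_iff_pow_eq_one.1
        (Subgroup.orderOf_dvd_natCard C (hC'mem.1 hvC').1), one_mul] at h3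
      obtain ⟨m, hm⟩ := hC.odd hb
      rw [hm, pow_succ, pow_mul, pow_two, hh, one_pow, one_mul] at h3
      exact hh1 h3
  have hwN := hC.norm_of hsub (hC'mem.1 hu).1 hunc hyC
  have h1 := hC.eq_one_of_sq hb (hC.inv_mul_mem hb hwN hhN hw hh hw1 hh1) (by
    rw [show w * h * (w * h) = w * (h * w) * h by group, ← hcen w hwS, ← mul_assoc w w h, hw,
      one_mul, hh])
  exact hwh (by rw [mul_eq_one_iff_eq_inv.1 h1, hhi])

end Hyp

end Cfsg.Agent.RealGraph
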