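import Cfsg.Agent.Lib.RealGraph.Sub

/-!
# The conjugates of the cyclic subgroup, and the cases of few involutions
-/

set_option autoImplicit false
set_option linter.style.haveILetI false
set_option linter.unusedSectionVars false

namespace Cfsg.Agent.RealGraph

open Cfsg.Agent
open Cfsg.Agent.ThreePrimes (Spread fixS mem_fixS)

universe u v

theorem cj_cj {D : Type u} [Group D] [Finite D] (a b : D) (C : Subgroup D) : cj a (cj b C) = cj (a * b) C := by
  ext y
  rw [mem_cj, mem_cj, mem_cj, mul_inv_rev]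
  simp only [mul_assoc]

theorem cj_one {D : Type u} [Group D] [Finite D] (C : Subgroup D) : cj (1 : D) C = C := by
  ext y
  rw [mem_cj]
  simp

theorem card_ne_add_one {α : Type u} [Finite α] (a : α) :
    Nat.card {x // x ≠ a} + 1 = Nat.card α := by
  classical
  rw [← Finite.card_option]
  exact Nat.card_congr (Equiv.optionSubtypeNe a)

variable {D : Type u} [Group D] [Finite D]
variable {E : Type v} [AddCommGroup E] [Finite E] [Nontrivial E] [DistribMulAction D E]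
  [FaithfulSMul D E]

variable (D E) in
/-- In proper subgroups the cyclic subgroups are normal. -/
def SubNormal : Prop :=
  ∀ X : Subgroup D, Hyp E X → ∀ H : Subgroup D, H ≠ ⊤ → X ≤ H →
    H ≤ Subgroup.normalizer (X : Set D)

theorem not_center_of_inv {g x : D} (hx : Odd (orderOf x)) (hx1 : x ≠ 1)
    (h : g * x * g⁻¹ = x⁻¹) : x ∉ Subgroup.center D := by
  intro hc
  rw [Subgroup.mem_center_iff.1 hc g, mul_inv_cancel_right] at h
  exact TwoClosedZJ.inv_ne_self hx hx1 (k := 1) (by rw [pow_one, pow_orderOf_eq_one]) h.symm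

namespace Hyp

variable {C : Subgroup D}

/-- Conjugates meet only in the centre. -/
theorem ti (hsub : SubNormal D E) {X Y : Subgroup D} (hX : Hyp E X) (hY : Hyp E Y)
    (hc : Nat.card Y = Nat.card X) {u : D} (huX : u ∈ X) (huY : u ∈ Y)
    (hu : u ∉ Subgroup.center D) : Y = X := by
  set H : Subgroup D := Subgroup.centralizer {u}
  have hH : H ≠ ⊤ := fun h => hu (Subgroup.mem_center_iff.2 fun g =>
    Subgroup.mem_centralizer_singleton_iff.1 (h.ge (Subgroup.mem_top g) : g ∈ H))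
  have hYH : Y ≤ H := fun y hy =>
    Subgroup.mem_centralizer_singleton_iff.2 (hY.comm hy huY)
  exact hX.eq_of_le_normalizer hc (hYH.trans (hsub X hX H hH fun y hy =>
    Subgroup.mem_centralizer_singleton_iff.2 (hX.comm hy huX)))

theorem norm_of (hsub : SubNormal D E) {X : Subgroup D} (hX : Hyp E X) {g u : D} (huX : u ∈ X)
    (hu : u ∉ Subgroup.center D) (hgu : g * u * g⁻¹ ∈ X) :
    g ∈ Subgroup.normalizer (X : Set D) := by
  refine mem_normalizer_cj.2 (hX.ti hsub (hX.conj g) (card_cj g X) hgu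
    (mem_cj.2 (by simpa [mul_assoc] using huX)) fun hc => hu ?_)
  have h := (inferInstance : (Subgroup.center D).Normal).conj_mem _ hc g⁻¹
  simpa [mul_assoc] using h

/-- An element inverting a real element of a conjugate normalises it. -/
theorem norm_inverted (hb : Base D E) (hC : Hyp E C) (hsub : SubNormal D E) {g x : D} {r : ℕ}
    (hr : r.Prime) (hr2 : r ≠ 2) (hx : orderOf x = r) (hgx : g * x * g⁻¹ = x⁻¹) :
    ∃ a : D, x ∈ cj a C ∧ g ∈ Subgroup.normalizer (cj a C : Set D) := by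
  obtain ⟨a, ha⟩ := hC.mem_conj hb hr hr2 hx hgx
  exact ⟨a, ha, (hC.conj a).norm_of hsub ha
    (not_center_of_inv (hx ▸ hr.odd_of_ne_two hr2)
      (fun h => hr.one_lt.ne (by rw [← hx, h, orderOf_one])) hgx)
    (by rw [hgx]; exact inv_mem ha)⟩

/-- All involutions are conjugate. -/
theorem conj_class (hb : Base D E) (hC : Hyp E C) (hsub : SubNormal D E) {g h : D}
    (hhN : h ∈ Subgroup.normalizer (C : Set D)) (hh : h * h = 1) (hh1 : h ≠ 1) (hg : g * g = 1)
    (hg1 : g ≠ 1) : ∃ a : D, g = a * h * a⁻¹ := by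
  obtain ⟨r, x, hr, hr2, hx, hgx⟩ := hb.exists_inverted hg hg1
  obtain ⟨a, -, hga⟩ := hC.norm_inverted hb hsub hr hr2 hx hgx
  have hgi : g⁻¹ = g := inv_eq_of_mul_eq_one_right hg
  obtain ⟨v, hv, hv'⟩ := hC.inv_conj hb (g := a⁻¹ * g * a) (h := h) (mem_normalizer_cj.2 (by
      rw [← cj_cj, ← cj_cj, mem_normalizer_cj.1 hga, cj_cj, inv_mul_cancel, cj_one])) hhN
    (by rw [show a⁻¹ * g * a * (a⁻¹ * g * a) = a⁻¹ * (g * g) * a by group, hg, mul_one,
      inv_mul_cancel]) hh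
    (fun h1 => hg1 (by
      have := congrArg (fun y => a * y * a⁻¹) h1
      simpa [mul_assoc] using this)) hh1
  exact ⟨a * v, by
    calc g = a * (a⁻¹ * g * a) * a⁻¹ := by group
      _ = a * v * h * (a * v)⁻¹ := by rw [hv']; group⟩

/-- One involution in a Sylow subgroup. -/
theorem normal_of_one (hb : Base D E) (hC : Hyp E C) (hsub : SubNormal D E) {h : D}
    (hhN : h ∈ Subgroup.normalizer (C : Set D)) (hh : h * h = 1) (hh1 : h ≠ 1) {S : Sylow 2 D}
    (h1 : ∀ g ∈ (S : Subgroup D), g * g = 1 → g ≠ 1 → g = h) : C.Normal := by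
  have hinN : ∀ g : D, g * g = 1 → g ≠ 1 → g ∈ Subgroup.normalizer (C : Set D) := by
    intro g hg hg1
    obtain ⟨T, hT⟩ := exists_sylow_mem hg
    obtain ⟨u, hu, rfl⟩ := hC.trans_sylow hb S T
    have h2 := h1 _ (mem_smul_sylow.1 hT) (by
      rw [show u⁻¹ * g * u * (u⁻¹ * g * u) = u⁻¹ * (g * g) * u by group, hg, mul_one,
        inv_mul_cancel]) (fun h2 => hg1 (by
      have := congrArg (fun y => u * y * u⁻¹) h2
      simpa [mul_assoc] using this))
    have huN : u ∈ Subgroup.normalizer (C : Set D) := Subgroup.le_normalizer hu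
    rw [show g = u * (u⁻¹ * g * u) * u⁻¹ by group, h2]
    exact mul_mem (mul_mem huN hhN) (inv_mem huN)
  obtain ⟨u, hu, hne⟩ := hC.exists_not_comm hb hh hh1
  set g' := u * h * u⁻¹ with hg'
  have hg'2 : g' * g' = 1 := by
    rw [hg', show u * h * u⁻¹ * (u * h * u⁻¹) = u * (h * h) * u⁻¹ by group, hh, mul_one,
      mul_inv_cancel]
  have hg'1 : g' ≠ 1 := fun h2 => hh1 (by
    have := congrArg (fun y => u⁻¹ * y * u) h2
    simpa [hg', mul_assoc] using this)
  have hne' : g' * h ≠ 1 := fun h2 => hne (by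
    have h3 := mul_eq_one_iff_eq_inv.1 h2
    rw [inv_eq_of_mul_eq_one_right hh, hg', mul_inv_eq_iff_eq_mul] at h3
    exact h3)
  have hτ : g' * h ∈ C := hC.inv_mul_mem hb (hinN g' hg'2 hg'1) hhN hg'2 hh hg'1 hh1
  have hinv : h * (g' * h) * h⁻¹ = (g' * h)⁻¹ := by
    rw [mul_inv_rev, inv_eq_of_mul_eq_one_right hg'2, inv_eq_of_mul_eq_one_right hh,
      mul_assoc h (g' * h) h, mul_assoc g' h h, hh, mul_one]
  have hnc := not_center_of_inv ((hC.odd hb).of_dvd_nat (Subgroup.orderOf_dvd_natCard _ hτ)) hne'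
    hinv
  rw [← Subgroup.normalizer_eq_top_iff, Subgroup.eq_top_iff']
  intro d
  refine hC.norm_of hsub hτ hnc ?_
  have hsq : ∀ y : D, y * y = 1 → d * y * d⁻¹ * (d * y * d⁻¹) = 1 := fun y hy => by
    rw [show d * y * d⁻¹ * (d * y * d⁻¹) = d * (y * y) * d⁻¹ by group, hy, mul_one, mul_inv_cancel]
  have hone : ∀ y : D, y ≠ 1 → d * y * d⁻¹ ≠ 1 := fun y hy h2 => hy (by
    have := congrArg (fun z => d⁻¹ * z * d) h2
    simpa [mul_assoc] using this)
  rw [show d * (g' * h) * d⁻¹ = d * g' * d⁻¹ * (d * h * d⁻¹) by group]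
  exact hC.inv_mul_mem hb (hinN _ (hsq _ hg'2) (hone _ hg'1)) (hinN _ (hsq _ hh) (hone _ hh1))
    (hsq _ hg'2) (hsq _ hh) (hone _ hg'1) (hone _ hh1)

/-- Each involution in a single Sylow subgroup: there is only one involution in each. -/
theorem one_of_unique (hb : Base D E) (hC : Hyp E C) (hsub : SubNormal D E) {h : D}
    (hhN : h ∈ Subgroup.normalizer (C : Set D)) (hh : h * h = 1) (hh1 : h ≠ 1) {S : Sylow 2 D}
    (hS : h ∈ (S : Subgroup D)) (hcen : ∀ s ∈ (S : Subgroup D), s * h = h * s)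
    (hM : ∀ T : Sylow 2 D, h ∈ (T : Subgroup D) → T = S) :
    ∀ g ∈ (S : Subgroup D), g * g = 1 → g ≠ 1 → g = h := by
  classical
  intro w hwS hw hw1
  by_contra hne
  let Pr : D → Prop := fun g => g * g = 1 ∧ g ≠ 1
  have hPrc : ∀ a g, Pr g → Pr (a * g * a⁻¹) := fun a g hg =>
    ⟨by rw [show a * g * a⁻¹ * (a * g * a⁻¹) = a * (g * g) * a⁻¹ by group, hg.1, mul_one,
      mul_inv_cancel], fun h1 => hg.2 (by
      have := congrArg (fun y => a⁻¹ * y * a) h1
      simpa [mul_assoc] using this)⟩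
  have huniq : ∀ g, Pr g → ∀ T T' : Sylow 2 D, g ∈ (T : Subgroup D) → g ∈ (T' : Subgroup D) →
      T = T' := by
    intro g hg T T' hT hT'
    obtain ⟨a, rfl⟩ := hC.conj_class hb hsub hhN hh hh1 hg.1 hg.2
    have h1 : ∀ U : Sylow 2 D, a * h * a⁻¹ ∈ (U : Subgroup D) → a⁻¹ • U = S := fun U hU =>
      hM _ (mem_smul_sylow.2 (by simpa [mul_assoc] using hU))
    exact MulAction.injective a⁻¹ ((h1 T hT).trans (h1 T' hT').symm)
  choose uS huSC huS using fun T : Sylow 2 D => hC.trans_sylow hb S T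
  have hin : ∀ (T : Sylow 2 D) (g : D), g ∈ (S : Subgroup D) →
      uS T * g * (uS T)⁻¹ ∈ (T : Subgroup D) := fun T g hg => by
    have h1 : uS T * g * (uS T)⁻¹ ∈ ((uS T • S : Sylow 2 D) : Subgroup D) :=
      mem_smul_sylow.2 (by simpa [mul_assoc] using hg)
    rwa [huS] at h1
  let I0 := {g : D // Pr g ∧ g ∈ (S : Subgroup D)}
  have c1 : Nat.card {g // Pr g} = Nat.card (Sylow 2 D) * Nat.card I0 := by
    rw [← Nat.card_prod]
    refine (Nat.card_congr (Equiv.ofBijective (fun p : Sylow 2 D × I0 =>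
      (⟨uS p.1 * p.2.1 * (uS p.1)⁻¹, hPrc _ _ p.2.2.1⟩ : {g // Pr g})) ⟨?_, ?_⟩)).symm
    · rintro ⟨T, g⟩ ⟨T', g'⟩ hgg
      have h1 : uS T * g.1 * (uS T)⁻¹ = uS T' * g'.1 * (uS T')⁻¹ := congrArg Subtype.val hgg
      obtain rfl := huniq _ (hPrc _ _ g.2.1) T T' (hin T _ g.2.2) (h1 ▸ hin T' _ g'.2.2)
      exact Prod.ext rfl (Subtype.ext (mul_left_cancel (mul_right_cancel h1)))
    · rintro ⟨g, hg⟩
      obtain ⟨T, hT⟩ := exists_sylow_mem hg.1
      refine ⟨(T, ⟨(uS T)⁻¹ * g * uS T, ?_, ?_⟩), Subtype.ext (by group)⟩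
      · simpa using hPrc (uS T)⁻¹ g hg
      · rw [← huS T] at hT
        exact mem_smul_sylow.1 hT
  let NI : Subgroup D → Type u :=
    fun X => {g : D // Pr g ∧ g ∈ Subgroup.normalizer (X : Set D)}
  have c2 : Nat.card (NI C) = Nat.card (Sylow 2 D) := by
    refine (Nat.card_congr (Equiv.ofBijective (fun T : Sylow 2 D =>
      (⟨uS T * h * (uS T)⁻¹, hPrc _ _ ⟨hh, hh1⟩, mul_mem (mul_mem (Subgroup.le_normalizer (huSC T))
        hhN) (inv_mem (Subgroup.le_normalizer (huSC T)))⟩ : NI C)) ⟨?_, ?_⟩)).symm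
    · intro T T' hTT
      have h1 : uS T * h * (uS T)⁻¹ = uS T' * h * (uS T')⁻¹ := congrArg Subtype.val hTT
      exact huniq _ (hPrc _ _ ⟨hh, hh1⟩) T T' (hin T _ hS) (h1 ▸ hin T' _ hS)
    · rintro ⟨g, hg, hgN⟩
      obtain ⟨v, hv, rfl⟩ := hC.inv_conj hb hgN hhN hg.1 hh hg.2 hh1
      refine ⟨v • S, Subtype.ext ?_⟩
      show uS (v • S) * h * (uS (v • S))⁻¹ = v * h * v⁻¹
      have h1 : (v⁻¹ * uS (v • S)) • S = S := by rw [mul_smul, huS, inv_smul_smul]
      have h2 := hC.comm_of_smul_eq hb hhN (mul_mem (inv_mem hv) (huSC _)) hS h1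
      calc uS (v • S) * h * (uS (v • S))⁻¹
          = v * (v⁻¹ * uS (v • S) * h) * (v⁻¹ * uS (v • S))⁻¹ * v⁻¹ := by group
        _ = v * h * v⁻¹ := by rw [h2]; group
  let Xh := {X : Subgroup D // (∃ a, X = cj a C) ∧ h ∈ Subgroup.normalizer (X : Set D)}
  haveI : Finite (Subgroup D) := BaerSuzuki.finite_subgroups
  have c3 : ∀ X : Xh, Nat.card {g : NI X.1 // g ≠ ⟨h, ⟨hh, hh1⟩, X.2.2⟩} + 1 =
      Nat.card (Sylow 2 D) := by
    intro X
    obtain ⟨a, ha⟩ := X.2.1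
    refine (card_ne_add_one _).trans (Eq.trans ?_ c2)
    refine (Nat.card_congr ((MulAut.conj a).toEquiv.subtypeEquiv fun g => ?_)).symm
    show Pr g ∧ g ∈ Subgroup.normalizer (C : Set D) ↔
      Pr (a * g * a⁻¹) ∧ a * g * a⁻¹ ∈ Subgroup.normalizer (X.1 : Set D)
    rw [ha, mem_normalizer_cj, mem_normalizer_cj, cj_cj, inv_mul_cancel_right, ← cj_cj]
    constructor
    · rintro ⟨h1, h2⟩
      exact ⟨hPrc a g h1, by rw [h2]⟩
    · rintro ⟨h1, h2⟩
      refine ⟨by simpa [mul_assoc] using hPrc a⁻¹ _ h1, ?_⟩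
      exact Subgroup.map_injective (MulAut.conj a).injective h2
  let A := {g : D // Pr g ∧ g ∉ (S : Subgroup D)}
  have c4 : Nat.card {g // Pr g} = Nat.card I0 + Nat.card A := by
    rw [← Nat.card_congr (Equiv.sumCompl (fun g : {g // Pr g} => g.1 ∈ (S : Subgroup D))),
      Nat.card_sum]
    exact congrArg₂ (· + ·)
      (Nat.card_congr (Equiv.subtypeSubtypeEquivSubtypeInter Pr fun g => g ∈ (S : Subgroup D)))
      (Nat.card_congr (Equiv.subtypeSubtypeEquivSubtypeInter Pr fun g => g ∉ (S : Subgroup D)))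
  have houts : ∀ (X : Xh) (g : D), Pr g → g ∈ Subgroup.normalizer (X.1 : Set D) → g ≠ h →
      g ∉ (S : Subgroup D) := by
    intro X g hg hgN hgh hgS
    obtain ⟨a, ha⟩ := X.2.1
    have hY : Hyp E X.1 := ha ▸ hC.conj a
    have h2 := hY.eq_one_of_sq hb (hY.inv_mul_mem hb hgN X.2.2 hg.1 hh hg.2 hh1) (by
      rw [show g * h * (g * h) = g * (h * g) * h by group, ← hcen g hgS, ← mul_assoc g g h, hg.1,
        one_mul, hh])
    exact hgh (by rw [mul_eq_one_iff_eq_inv.1 h2, inv_eq_of_mul_eq_one_right hh])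
  have c5 : Nat.card A =
      Nat.card (Σ X : Xh, {g : NI X.1 // g ≠ ⟨h, ⟨hh, hh1⟩, X.2.2⟩}) := by
    refine (Nat.card_congr (Equiv.ofBijective (fun p => (⟨p.2.1.1, p.2.1.2.1,
      houts p.1 _ p.2.1.2.1 p.2.1.2.2 fun he => p.2.2 (Subtype.ext he)⟩ : A)) ⟨?_, ?_⟩)).symm
    · rintro ⟨X, ⟨⟨g, hg, hgN⟩, hgh⟩⟩ ⟨Y, ⟨⟨g', hg', hgN'⟩, hgh'⟩⟩ hgg
      obtain rfl : g = g' := congrArg Subtype.val hgg
      obtain ⟨a, ha⟩ := X.2.1
      obtain ⟨b, hb'⟩ := Y.2.1
      have hX : Hyp E X.1 := ha ▸ hC.conj a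
      have hY : Hyp E Y.1 := hb' ▸ hC.conj b
      have hne1 : g * h ≠ 1 := fun h1 => hgh (Subtype.ext (by
        show g = h
        rw [mul_eq_one_iff_eq_inv.1 h1, inv_eq_of_mul_eq_one_right hh]))
      have hX1 := hX.inv_mul_mem hb hgN X.2.2 hg.1 hh hg.2 hh1
      have hinv : h * (g * h) * h⁻¹ = (g * h)⁻¹ := by
        rw [mul_inv_rev, inv_eq_of_mul_eq_one_right hg.1, inv_eq_of_mul_eq_one_right hh,
          mul_assoc h (g * h) h, mul_assoc g h h, hh, mul_one]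
      have hnc := not_center_of_inv
        ((hX.odd hb).of_dvd_nat (Subgroup.orderOf_dvd_natCard _ hX1)) hne1 hinv
      obtain rfl : X = Y := Subtype.ext (hX.ti hsub hY (by rw [ha, hb', card_cj, card_cj]) hX1
        (hY.inv_mul_mem hb hgN' Y.2.2 hg.1 hh hg.2 hh1) hnc).symm
      rfl
    · rintro ⟨g, hg, hgS⟩
      rcases pair_cases hg.1 hh with ⟨T, hgT, hhT⟩ | ⟨r, x, hr, hr2, hx, -, hgx, hhx⟩
      · exact absurd (hM T hhT ▸ hgT) hgS
      obtain ⟨a, hxa, hha⟩ := hC.norm_inverted hb hsub hr hr2 hx hhx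
      refine ⟨⟨⟨cj a C, ⟨a, rfl⟩, hha⟩, ⟨⟨g, hg, ?_⟩, ?_⟩⟩, rfl⟩
      · exact (hC.conj a).norm_of hsub hxa (not_center_of_inv (hx ▸ hr.odd_of_ne_two hr2)
          (fun h1 => hr.one_lt.ne (by rw [← hx, h1, orderOf_one])) hgx) (by rw [hgx]; exact inv_mem hxa)
      · intro he
        have he' : g = h := congrArg Subtype.val he
        rw [he'] at hgS
        exact hgS hS
  haveI : Fintype Xh := Fintype.ofFinite _
  obtain ⟨k, hk⟩ : ∃ k, Nat.card (Sylow 2 D) = k + 1 :=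
    ⟨_, (Nat.succ_pred_eq_of_pos Nat.card_pos).symm⟩
  rw [Nat.card_sigma, Finset.sum_congr rfl
    (fun X _ => Nat.add_right_cancel ((c3 X).trans hk) : ∀ X ∈ _, _ = k),
    Finset.sum_const, Finset.card_univ, ← Nat.card_eq_fintype_card, smul_eq_mul] at c5
  have hk0 : 0 < k := by
    obtain ⟨u, hu, hne'⟩ := hC.exists_not_comm hb hh hh1
    have h1 : u • S ≠ S := fun h1 => hne' (hC.comm_of_smul_eq hb hhN hu hS h1)
    haveI : Nontrivial (Sylow 2 D) := ⟨⟨_, _, h1⟩⟩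
    have := Finite.one_lt_card (α := Sylow 2 D)
    omega
  rw [c1, hk, c5, Nat.succ_mul, add_comm (Nat.card I0)] at c4
  have hr : Nat.card Xh = Nat.card I0 :=
    Nat.eq_of_mul_eq_mul_right hk0 (by rw [mul_comm (Nat.card I0) k]; omega)
  have hodd : Odd (Nat.card Xh) := hr ▸ odd_involutions hS hh hh1 hcen
  have hhw : h * w = w * h := (hcen w hwS).symm
  have hwi : w⁻¹ = w := inv_eq_of_mul_eq_one_right hw
  let f : Xh → Xh := fun X => ⟨cj w X.1, by
    obtain ⟨a, ha⟩ := X.2.1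
    refine ⟨⟨w * a, by rw [ha, cj_cj]⟩, mem_normalizer_cj.2 ?_⟩
    rw [cj_cj, hhw, ← cj_cj, mem_normalizer_cj.1 X.2.2]⟩
  have hf : Function.Involutive f := fun X => Subtype.ext (by
    show cj w (cj w X.1) = X.1
    rw [cj_cj, hw, cj_one])
  obtain ⟨X, hX⟩ : ∃ X, f X = X := by
    by_contra hno
    push Not at hno
    exact hodd.not_two_dvd_nat (two_dvd_of_involutive hf hno)
  exact houts X w ⟨hw, hw1⟩ (mem_normalizer_cj.2 (congrArg Subtype.val hX)) hne hwS

end Hyp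

end Cfsg.Agent.RealGraph
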