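import Cfsg.Agent.Lib.RealGraph.Core
import Cfsg.Agent.Lib.ThreePrimes.Primitive
import Cfsg.Agent.Lib.LocalEven.Zsigmondy

/-!
# A real element with cyclic irreducible centraliser

`D` has all orbit lengths free of the primes in `P1`, and the indices of the centralisers of its
real elements of odd prime power order involve primes in `P1` only.
-/

set_option autoImplicit false
set_option linter.style.haveILetI false
set_option linter.unusedSectionVars false

namespace Cfsg.Agent.RealGraph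

open Cfsg.Agent
open Cfsg.Agent.ThreePrimes (Spread fixS mem_fixS)
open scoped Pointwise

universe u

variable {D : Type u} [Group D] [Finite D]

/-- Frattini: some element of `H · g` normalises a given Sylow subgroup of `H`. -/
theorem exists_norm_sylow {p : ℕ} [Fact p.Prime] {H : Subgroup D} {g : D}
    (hg : g ∈ Subgroup.normalizer (H : Set D)) (T : Sylow p H) :
    ∃ a ∈ H, a * g ∈ Subgroup.normalizer (((T : Subgroup H).map H.subtype : Subgroup D) : Set D) := by
  set T₀ : Subgroup D := (T : Subgroup H).map H.subtype with hT₀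
  have hX : cj g T₀ ≤ H := by
    intro y hy
    rw [mem_cj] at hy
    have h := conj_mem hg (Subgroup.map_subtype_le _ hy)
    simpa [mul_assoc] using h
  have hXp : IsPGroup p ((cj g T₀).subgroupOf H) :=
    ((T.isPGroup'.map H.subtype).map _).of_equiv (Subgroup.subgroupOfEquivOfLe hX).symm
  obtain ⟨T₂, hT₂⟩ := hXp.exists_le_sylow
  have he : (cj g T₀).subgroupOf H = (T₂ : Subgroup H) := by
    refine Subgroup.eq_of_le_of_card_ge hT₂ ?_
    rw [Nat.card_congr (Subgroup.subgroupOfEquivOfLe hX).toEquiv, card_cj, hT₀,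
      Subgroup.card_map_of_injective H.subtype_injective, T₂.card_eq_multiplicity,
      T.card_eq_multiplicity]
  obtain ⟨a, ha⟩ := MulAction.exists_smul_eq H T₂ T
  refine ⟨a, a.2, mem_normalizer_cj.2 ?_⟩
  rw [← cj_cj, ← Subgroup.map_subgroupOf_eq_of_le hX, he, hT₀, ← ha]
  ext y
  rw [mem_cj]
  constructor
  · rintro ⟨z, hz, hzy⟩
    refine ⟨a * z * a⁻¹, ?_, ?_⟩
    · show a * z * a⁻¹ ∈ MulAut.conj a • (T₂ : Subgroup H)
      exact Subgroup.smul_mem_pointwise_smul z (MulAut.conj a) _ hz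
    · show (a : D) * z * (a : D)⁻¹ = y
      rw [show ((z : H) : D) = (a : D)⁻¹ * y * a from hzy]
      group
  · rintro ⟨z, hz, rfl⟩
    refine ⟨a⁻¹ * z * a, ?_, ?_⟩
    · have h : z ∈ MulAut.conj a • (T₂ : Subgroup H) := hz
      rw [Subgroup.mem_pointwise_smul_iff_inv_smul_mem] at h
      show a⁻¹ * z * a ∈ (T₂ : Subgroup H)
      simpa [MulAut.smul_def] using h
    · simp

variable {E : Type u} [AddCommGroup E] [Finite E] [Nontrivial E] [DistribMulAction D E]
  [FaithfulSMul D E]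

/-- A cyclic irreducible element normalised by an element inverting a commuting real element is
real. -/
theorem real_of_normalizes {x g z : D} {l j : ℕ} (hl : l.Prime) (hl2 : l ≠ 2)
    (hz : orderOf z = l ^ j) (hzi : TransLinear.Irred E z) (hxz : x * z = z * x)
    (hx : Odd (orderOf x)) (hx1 : x ≠ 1) (hgx : g * x * g⁻¹ = x⁻¹)
    (hgz : g ∈ Subgroup.normalizer (Subgroup.zpowers z : Set D)) :
    ∃ t : D, t * z * t⁻¹ = z⁻¹ := by
  obtain ⟨n, hn, k, hk⟩ := TwoClosedZJ.exists_two_part g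
  have hgx' := TwoClosedZJ.conj_odd_pow hgx hn
  have hmove : g ^ n * z ≠ z * g ^ n := by
    intro hc
    haveI : IsCyclic (Subgroup.centralizer {z} : Subgroup D) :=
      TransLinear.isCyclic_of_irred hzi fun _ h => Subgroup.mem_centralizer_singleton_iff.1 h
    letI : CommGroup (Subgroup.centralizer {z} : Subgroup D) := IsCyclic.commGroup
    have h1 : g ^ n * x = x * g ^ n := congrArg Subtype.val (mul_comm
      (⟨g ^ n, Subgroup.mem_centralizer_singleton_iff.2 hc⟩ :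
        (Subgroup.centralizer {z} : Subgroup D))
      ⟨x, Subgroup.mem_centralizer_singleton_iff.2 hxz⟩)
    rw [h1, mul_inv_cancel_right] at hgx'
    exact TwoClosedZJ.inv_ne_self hx hx1 (k := 1) (by rw [pow_one, pow_orderOf_eq_one]) hgx'.symm
  have key : ∀ (k : ℕ) (s : D), s ∈ Subgroup.normalizer (Subgroup.zpowers z : Set D) →
      s ^ 2 ^ k * z = z * s ^ 2 ^ k → s * z ≠ z * s →
      ∃ t : D, t ∈ Subgroup.normalizer (Subgroup.zpowers z : Set D) ∧ t * z ≠ z * t ∧
        t * t * z = z * (t * t) := by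
    intro k
    induction k with
    | zero => intro s _ h h'; rw [pow_zero, pow_one] at h; exact absurd h h'
    | succ k ih =>
      intro s hs h h'
      by_cases h2 : s * s * z = z * (s * s)
      · exact ⟨s, hs, h', h2⟩
      · exact ih (s * s) (mul_mem hs hs) (by rw [← pow_two, ← pow_mul, ← pow_succ']; exact h) h2
  obtain ⟨t, ht, htz, httz⟩ := key k (g ^ n) (pow_mem hgz n) (by rw [hk, one_mul, mul_one]) hmove
  obtain ⟨i, hi⟩ : ∃ i : ℤ, z ^ i = t * z * t⁻¹ :=
    Subgroup.mem_zpowers_iff.1 (conj_mem ht (Subgroup.mem_zpowers z))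
  refine ⟨t, ?_⟩
  have h1 : z ^ (i * i - 1) = 1 := by
    rw [zpow_sub_one, zpow_mul, hi, conj_zpow, hi,
      show t * (t * z * t⁻¹) * t⁻¹ = t * t * z * (t * t)⁻¹ by group, httz, mul_inv_cancel_right,
      mul_inv_cancel]
  have h2 : ¬ ((orderOf z : ℤ) ∣ i - 1) := fun h => htz (by
    rw [orderOf_dvd_iff_zpow_eq_one, zpow_sub_one, hi] at h
    exact mul_inv_eq_iff_eq_mul.1 (mul_inv_eq_one.1 h))
  rw [← hi, ← mul_eq_one_iff_eq_inv, ← zpow_add_one, ← orderOf_dvd_iff_zpow_eq_one]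
  rw [← orderOf_dvd_iff_zpow_eq_one, show i * i - 1 = (i - 1) * (i + 1) by ring, hz] at h1
  rw [hz] at h2
  rw [hz]
  push_cast at h1 h2 ⊢
  have hlp : Prime (l : ℤ) := Nat.prime_iff_prime_int.1 hl
  by_cases h3 : (l : ℤ) ∣ i - 1
  · exfalso
    have h4 : ¬ (l : ℤ) ∣ i + 1 := fun h5 => by
      have h6 : (l : ℤ) ∣ ((2 : ℕ) : ℤ) := by
        have := dvd_sub h5 h3
        rwa [show i + 1 - (i - 1) = ((2 : ℕ) : ℤ) by push_cast; ring] at this
      exact hl2 ((Nat.prime_dvd_prime_iff_eq hl Nat.prime_two).1 (Int.natCast_dvd_natCast.1 h6))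
    exact h2 (((hlp.coprime_iff_not_dvd.2 h4).pow_left (m := j)).dvd_of_dvd_mul_right h1)
  · exact ((hlp.coprime_iff_not_dvd.2 h3).pow_left (m := j)).dvd_of_dvd_mul_left h1

variable (E) in
/-- The arithmetical hypotheses on orbits and real elements. -/
structure Setting (P1 : ℕ → Prop) : Prop where
  base : Base D E
  orbit : ∀ e : E, e ≠ 0 → ∀ q : ℕ, q.Prime → q ∣ (MulAction.stabilizer D e).index → ¬ P1 q
  real : ∀ (x t : D) (r k : ℕ), r.Prime → r ≠ 2 → orderOf x = r ^ k → x ≠ 1 →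
    t * x * t⁻¹ = x⁻¹ →
      ∀ q : ℕ, q.Prime → q ∣ (Subgroup.centralizer ({x} : Set D)).index → P1 q
  ex : ∃ x t : D, x ≠ 1 ∧ Odd (orderOf x) ∧ t * x * t⁻¹ = x⁻¹

namespace Setting

variable {P1 : ℕ → Prop}

theorem exists_prime_real (S : Setting E P1 (D := D)) :
    ∃ (x t : D) (r : ℕ), r.Prime ∧ r ≠ 2 ∧ orderOf x = r ∧ x ≠ 1 ∧ Odd (orderOf x) ∧
      t * x * t⁻¹ = x⁻¹ := by
  obtain ⟨x, t, hx1, hx, ht⟩ := S.ex
  obtain ⟨r, hr, hrx⟩ := Nat.exists_prime_and_dvd (mt orderOf_eq_one_iff.1 hx1)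
  have ho := orderOf_pow_orderOf_div (orderOf_pos x).ne' hrx
  have hr2 : r ≠ 2 := fun h => hx.not_two_dvd_nat (h ▸ hrx)
  refine ⟨x ^ (orderOf x / r), t, r, hr, hr2, ho, fun h => hr.one_lt.ne ?_,
    by rw [ho]; exact hr.odd_of_ne_two hr2, by rw [← conj_pow, ht, inv_pow]⟩
  rw [← ho, h, orderOf_one]

theorem coprime (S : Setting E P1 (D := D)) {x t : D} {r k : ℕ} (hr : r.Prime) (hr2 : r ≠ 2)
    (hx : orderOf x = r ^ k) (hx1 : x ≠ 1) (ht : t * x * t⁻¹ = x⁻¹) {e : E} (he : e ≠ 0) :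
    (Subgroup.centralizer ({x} : Set D)).index.Coprime (MulAction.stabilizer D e).index :=
  Nat.coprime_of_dvd fun q hq h1 h2 => S.orbit e he q hq h2 (S.real x t r k hr hr2 hx hx1 ht q hq h1)

theorem trans (S : Setting E P1 (D := D)) {x t : D} {r k : ℕ} (hr : r.Prime) (hr2 : r ≠ 2)
    (hx : orderOf x = r ^ k) (hx1 : x ≠ 1) (ht : t * x * t⁻¹ = x⁻¹) (g : D) (e : E) :
    ∃ u ∈ Subgroup.centralizer ({x} : Set D), g • e = u • e := by
  by_cases he : e = 0
  · exact ⟨1, one_mem _, by rw [he, smul_zero, smul_zero]⟩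
  obtain ⟨u, hu, v, hv, rfl⟩ :=
    ClassGraph.exists_mul_of_coprime (S.coprime hr hr2 hx hx1 ht he) g
  exact ⟨u, hu, by rw [mul_smul, MulAction.mem_stabilizer_iff.1 hv]⟩

/-- A real element acting irreducibly gives the cyclic subgroup. -/
theorem hyp_of (S : Setting E P1 (D := D)) {z t : D} {r k : ℕ} (hr : r.Prime) (hr2 : r ≠ 2)
    (hz : orderOf z = r ^ k) (hz1 : z ≠ 1) (ht : t * z * t⁻¹ = z⁻¹)
    (hi : TransLinear.Irred E z) : Hyp E (Subgroup.centralizer ({z} : Set D)) := by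
  set C : Subgroup D := Subgroup.centralizer {z}
  have horb := S.trans hr hr2 hz hz1 ht
  have hzC : z ∈ C := Subgroup.mem_centralizer_singleton_iff.2 rfl
  refine ⟨TransLinear.isCyclic_of_irred hi fun _ h => Subgroup.mem_centralizer_singleton_iff.1 h,
    fun U hU => hi U fun e he => hU z hzC e he, horb, ?_⟩
  obtain ⟨e, he⟩ := exists_ne (0 : E)
  have hsemi : ∀ u ∈ C, u • e = e → u = 1 := by
    intro u hu hue
    rcases hi (TransLinear.fixSub E u) (fun v hv => by
        rw [TransLinear.mem_fixSub] at hv ⊢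
        rw [← mul_smul, Subgroup.mem_centralizer_singleton_iff.1 hu, mul_smul, hv]) with h | h
    · exact absurd ((AddSubgroup.eq_bot_iff_forall _).1 h e hue) he
    · exact eq_one_of_fix (E := E) fun v => h.ge (AddSubgroup.mem_top v)
  have hc : (MulAction.stabilizer D e).index = Nat.card C := by
    rw [MulAction.index_stabilizer]
    refine (Nat.card_congr (Equiv.ofBijective
      (fun u : C => (⟨(u : D) • e, u, rfl⟩ : MulAction.orbit D e)) ⟨fun u v huv => ?_, ?_⟩)).symm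
    · have h : (u : D) • e = (v : D) • e := congrArg Subtype.val huv
      refine Subtype.ext (inv_mul_eq_one.1 (hsemi _ (mul_mem (inv_mem u.2) v.2) ?_))
      rw [mul_smul, ← h, inv_smul_smul]
    · rintro ⟨_, g, rfl⟩
      obtain ⟨u, hu, hue⟩ := horb g e
      exact ⟨⟨u, hu⟩, Subtype.ext hue.symm⟩
  rw [← hc]
  exact (S.coprime hr hr2 hz hz1 ht he).symm

theorem sylow_one_lt (S : Setting E P1 (D := D)) : 1 < Nat.card (Sylow 2 D) := by
  haveI : Fact (Nat.Prime 2) := ⟨Nat.prime_two⟩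
  obtain ⟨x, t, hx1, hx, ht⟩ := S.ex
  obtain ⟨n, hn, k, hk⟩ := TwoClosedZJ.exists_two_part t
  have ht' := TwoClosedZJ.conj_odd_pow ht hn
  by_contra h
  haveI := (Finite.card_le_one_iff_subsingleton).1 (not_lt.1 h)
  obtain ⟨T, hT⟩ := (isPGroup_zpowers hk).exists_le_sylow
  have hn' : (T : Subgroup D).Normal := T.normal_of_subsingleton
  have hb := S.base.eq_bot_of_normal hn' T.isPGroup'
  rw [hb] at hT
  rw [(Subgroup.mem_bot).1 (hT (Subgroup.mem_zpowers _)), one_mul, inv_one, mul_one] at ht'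
  exact TwoClosedZJ.inv_ne_self hx hx1 (k := 1) (by rw [pow_one, pow_orderOf_eq_one]) ht'.symm

theorem exists_involution (S : Setting E P1 (D := D)) :
    ∃ (g x : D), g * g = 1 ∧ g ≠ 1 ∧ x ≠ 1 ∧ Odd (orderOf x) ∧ g * x * g⁻¹ = x⁻¹ := by
  haveI : Fact (Nat.Prime 2) := ⟨Nat.prime_two⟩
  have h2 : 2 ∣ Nat.card D := ThreePrimes.dvd_card_of_one_lt S.sylow_one_lt
  obtain ⟨g, hg⟩ := exists_prime_orderOf_dvd_card' (G := D) 2 h2
  have hg2 : g * g = 1 := by rw [← pow_two, ← hg, pow_orderOf_eq_one]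
  have hg1 : g ≠ 1 := fun h => by rw [h, orderOf_one] at hg; omega
  obtain ⟨r, x, hr, hr2, hx, hgx⟩ := S.base.exists_inverted hg2 hg1
  exact ⟨g, x, hg2, hg1, fun h => hr.one_lt.ne (by rw [← hx, h, orderOf_one]),
    hx ▸ hr.odd_of_ne_two hr2, hgx⟩

theorem exists_half (S : Setting E P1 (D := D)) : ∃ n, 0 < n ∧ Nat.card E = 2 ^ (2 * n) ∧
    ∀ g : D, g * g = 1 → g ≠ 1 → Nat.card (TransLinear.fixSub E g) = 2 ^ n := by
  obtain ⟨g, x, hg, hg1, hx1, hx, hgx⟩ := S.exists_involution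
  obtain ⟨N, hN⟩ := card_two_pow (E := E) S.base.exp
  obtain ⟨n, -, hn⟩ := (Nat.dvd_prime_pow Nat.prime_two).1
    (hN ▸ (TransLinear.fixSub E g).card_addSubgroup_dvd_card)
  obtain ⟨hsq, -⟩ := S.base.card_fix hg hx hx1 hgx
  rw [hn, ← pow_add, ← two_mul] at hsq
  refine ⟨n, Nat.pos_of_ne_zero fun h => ?_, hsq.symm, fun g' hg' hg1' => ?_⟩
  · have := Finite.one_lt_card (α := E)
    rw [← hsq, h] at this
    simp at this
  · obtain ⟨r, y, hr, hr2, hy, hgy⟩ := S.base.exists_inverted hg' hg1'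
    obtain ⟨hsq', -⟩ := S.base.card_fix hg' (hy ▸ hr.odd_of_ne_two hr2)
      (fun h => hr.one_lt.ne (by rw [← hy, h, orderOf_one])) hgy
    rw [← hsq, two_mul, pow_add] at hsq'
    exact Nat.mul_self_inj.1 hsq'

theorem sylow_dvd_index (S : Setting E P1 (D := D)) {e : E} (he : e ≠ 0) :
    Nat.card (Sylow 2 D) ∣ (MulAction.stabilizer D e).index := by
  haveI : Fact (Nat.Prime 2) := ⟨Nat.prime_two⟩
  obtain ⟨T, hT⟩ := S.base.exists_sylow he
  rw [Sylow.card_eq_index_normalizer T]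
  exact Subgroup.index_dvd_of_le (S.base.stab_le he hT)

theorem not_P1_of_dvd (S : Setting E P1 (D := D)) {q : ℕ} (hq : q.Prime)
    (hd : q ∣ Nat.card (Sylow 2 D)) : ¬ P1 q := by
  obtain ⟨e, he⟩ := exists_ne (0 : E)
  exact S.orbit e he q hq (hd.trans (S.sylow_dvd_index he))

theorem dvd_card_cent (S : Setting E P1 (D := D)) {x t : D} {r k : ℕ} (hr : r.Prime) (hr2 : r ≠ 2)
    (hx : orderOf x = r ^ k) (hx1 : x ≠ 1) (ht : t * x * t⁻¹ = x⁻¹) {q : ℕ} (hq : q.Prime)
    (hnq : ¬ P1 q) (hd : q ∣ Nat.card D) :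
    q ∣ Nat.card (Subgroup.centralizer ({x} : Set D)) := by
  rw [← (Subgroup.centralizer ({x} : Set D)).card_mul_index] at hd
  exact (hq.dvd_mul.1 hd).resolve_right fun h => hnq (S.real x t r k hr hr2 hx hx1 ht q hq h)

/-- The general case. -/
theorem exists_hyp_generic (S : Setting E P1 (D := D)) {n : ℕ} (hn : 0 < n)
    (hE : Nat.card E = 2 ^ (2 * n)) (h3 : n ≠ 3) : ∃ C : Subgroup D, Hyp E C := by
  haveI : Fact (Nat.Prime 2) := ⟨Nat.prime_two⟩
  obtain ⟨l, hl, hld, hlp⟩ := LEZsig.zsigmondy 2 (2 * n) one_lt_two (by omega)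
    (fun h => h3 (by omega)) (fun ⟨_, m, hm⟩ => by
      rcases m with _ | m
      · norm_num at hm
      · rw [pow_succ] at hm; omega)
  haveI := Fact.mk hl
  obtain ⟨f, hf0, hfN, hcount, -⟩ := S.base.sp.count S.sylow_one_lt Nat.prime_two hE
  have hlo : l ∣ Nat.card (Sylow 2 D) := by
    rw [← hcount] at hld
    exact (hl.dvd_mul.1 hld).resolve_right (hlp f hf0 hfN)
  have hnl := S.not_P1_of_dvd hl hlo
  have hlD : l ∣ Nat.card D := by
    obtain ⟨T⟩ : Nonempty (Sylow 2 D) := inferInstance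
    exact hlo.trans (by rw [Sylow.card_eq_index_normalizer T]; exact Subgroup.index_dvd_card _)
  obtain ⟨x, t, r, hr, hr2, hx, hx1, hxo, ht⟩ := S.exists_prime_real
  have hx' : orderOf x = r ^ 1 := by rw [hx, pow_one]
  set H : Subgroup D := Subgroup.centralizer {x} with hH
  have hlH : l ∣ Nat.card H := S.dvd_card_cent hr hr2 hx' hx1 ht hl hnl hlD
  obtain ⟨T⟩ : Nonempty (Sylow l H) := inferInstance
  haveI : Nontrivial (T : Subgroup H) := Finite.one_lt_card_iff_nontrivial.1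
    (lt_of_lt_of_le hl.one_lt (Nat.le_of_dvd Nat.card_pos (T.dvd_card_of_dvd_card hlH)))
  haveI := T.isPGroup'.center_nontrivial
  obtain ⟨⟨⟨w₀, hw₀T⟩, hw₀c⟩, hw₀o⟩ :=
    exists_prime_orderOf_dvd_card' (G := Subgroup.center (T : Subgroup H)) l
      ((T.isPGroup'.to_subgroup _).card_eq_or_dvd.resolve_left
        (Finite.one_lt_card (α := Subgroup.center (T : Subgroup H))).ne')
  rw [Subgroup.orderOf_mk, Subgroup.orderOf_mk, ← Subgroup.orderOf_coe] at hw₀o
  set z : D := (w₀ : D) with hz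
  have hP : ThreePrimes.PrimElt E z 2 (2 * n) l :=
    ⟨Nat.prime_two, two_nsmul_eq S.base.exp, hE, by omega, hl, hw₀o, hld, hlp⟩
  have hxz : x * z = z * x := (Subgroup.mem_centralizer_singleton_iff.1 w₀.2).symm
  have htH : t ∈ Subgroup.normalizer (H : Set D) := by
    refine Subgroup.mem_normalizer_fintype fun y hy => ?_
    rw [SetLike.mem_coe, hH, Subgroup.mem_centralizer_singleton_iff] at hy ⊢
    have h1 : t * y * t⁻¹ * x⁻¹ = x⁻¹ * (t * y * t⁻¹) := by
      rw [← ht]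
      calc t * y * t⁻¹ * (t * x * t⁻¹) = t * (y * x) * t⁻¹ := by group
        _ = t * x * t⁻¹ * (t * y * t⁻¹) := by rw [hy]; group
    exact (Commute.inv_right_iff.1 h1).eq
  obtain ⟨a, ha, hag⟩ := exists_norm_sylow htH T
  set g := a * t with hg
  have hgx : g * x * g⁻¹ = x⁻¹ := by
    rw [hg, show a * t * x * (a * t)⁻¹ = a * (t * x * t⁻¹) * a⁻¹ by group, ht,
      (Commute.inv_right (Subgroup.mem_centralizer_singleton_iff.1 ha : Commute a x)).eq,
      mul_inv_cancel_right]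
  have hcomm : ∀ y ∈ (T : Subgroup H).map H.subtype, y * z = z * y := by
    rintro _ ⟨y, hy, rfl⟩
    exact congrArg (fun v : (T : Subgroup H) => ((v : H) : D))
      (Subgroup.mem_center_iff.1 hw₀c ⟨y, hy⟩)
  have hgzmem : g * z * g⁻¹ ∈ (T : Subgroup H).map H.subtype := conj_mem hag ⟨w₀, hw₀T, rfl⟩
  have hgz : g * z * g⁻¹ ∈ Subgroup.zpowers z := by
    haveI := hP.cyclic
    exact TransLinear.mem_zpowers_of_isCyclic (H := (Subgroup.centralizer {z} : Subgroup D))
      (Subgroup.mem_centralizer_singleton_iff.2 rfl)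
      (Subgroup.mem_centralizer_singleton_iff.2 (hcomm _ hgzmem)) hl.pos hw₀o
      (by rw [conj_pow, hP.pow_eq, mul_one, mul_inv_cancel])
  have hl2 : l ≠ 2 := by
    rintro rfl
    exact hP.not_dvd_s dvd_rfl
  obtain ⟨s, hs⟩ := real_of_normalizes (j := 1) hl hl2 (by rw [hw₀o, pow_one]) hP.irred hxz hxo hx1
    hgx (Subgroup.mem_normalizer_fintype fun y hy => by
      obtain ⟨i, rfl⟩ := hy
      rw [SetLike.mem_coe, ← conj_zpow]
      exact Subgroup.zpow_mem _ hgz i)
  exact ⟨_, S.hyp_of (k := 1) hl hl2 (by rw [hw₀o, pow_one]) hP.ne_one hs hP.irred⟩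

end Setting

end Cfsg.Agent.RealGraph
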