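import Cfsg.Agent.Lib.RealGraph.SixBase
import Cfsg.Agent.S0144

/-!
# The space of order 64
-/

set_option autoImplicit false
set_option linter.style.haveILetI false
set_option linter.unusedSectionVars false

namespace Cfsg.Agent.RealGraph

open Cfsg.Agent
open Cfsg.Agent.ThreePrimes (Spread fixS mem_fixS)
open scoped Pointwise

universe u

variable {D E : Type u} [Group D] [Finite D] [AddCommGroup E] [Finite E] [DistribMulAction D E]

/-- The vectors moved by `R` into `V` only. -/
def up (R : Subgroup D) (V : AddSubgroup E) : AddSubgroup E where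
  carrier := {e | ∀ g ∈ R, g • e + e ∈ V}
  zero_mem' g _ := by simp [V.zero_mem]
  add_mem' {a b} ha hb g hg := by
    rw [smul_add, show g • a + g • b + (a + b) = g • a + a + (g • b + b) by abel]
    exact V.add_mem (ha g hg) (hb g hg)
  neg_mem' {a} ha g hg := by
    rw [smul_neg, ← neg_add]
    exact V.neg_mem (ha g hg)

theorem le_up {R : Subgroup D} {V : AddSubgroup E} (hV : ∀ g ∈ R, ∀ e ∈ V, g • e ∈ V) :
    V ≤ up R V := fun e he g hg => V.add_mem (hV g hg e he) he

theorem up_invariant {R : Subgroup D} {V : AddSubgroup E} (hV : ∀ g ∈ R, ∀ e ∈ V, g • e ∈ V) :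
    ∀ g ∈ R, ∀ e ∈ up R V, g • e ∈ up R V := fun g hg e he => by
  have h := (up R V).add_mem (le_up hV (he g hg)) (AddSubgroup.neg_mem _ he)
  rwa [add_assoc, add_neg_cancel, add_zero] at h

theorem up_invariant_normalizer {R : Subgroup D} {V : AddSubgroup E} {m : D}
    (hm : m ∈ Subgroup.normalizer (R : Set D)) (hV : ∀ e ∈ V, m • e ∈ V) :
    ∀ e ∈ up R V, m • e ∈ up R V := fun e he g hg => by
  have h := hV _ (he _ (by simpa using conj_mem (inv_mem hm) hg : m⁻¹ * g * m ∈ R))
  rw [smul_add, ← mul_smul, show m * (m⁻¹ * g * m) = g * m by group, mul_smul] at h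
  exact h

/-- The first step above an invariant proper subspace is proper. -/
theorem lt_up (hexp : ∀ e : E, e + e = 0) {R : Subgroup D} (hR : IsPGroup 2 R) {V : AddSubgroup E}
    (hV : ∀ g ∈ R, ∀ e ∈ V, g • e ∈ V) (hne : V ≠ ⊤) : V < up R V := by
  letI : DistribMulAction R (E ⧸ V) :=
    { smul := fun g => QuotientAddGroup.map V V (DistribSMul.toAddMonoidHom E (g : D))
        fun e he => hV g g.2 e he
      one_smul := fun q => by
        induction q using QuotientAddGroup.induction_on with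
        | H e => exact congrArg QuotientAddGroup.mk (one_smul D e)
      mul_smul := fun g g' q => by
        induction q using QuotientAddGroup.induction_on with
        | H e => exact congrArg QuotientAddGroup.mk (mul_smul (g : D) (g' : D) e)
      smul_zero := fun g => map_zero _
      smul_add := fun g => map_add _ }
  haveI : Nontrivial (E ⧸ V) := by
    obtain ⟨e, he⟩ : ∃ e, e ∉ V := by
      by_contra hall
      push Not at hall
      exact hne ((AddSubgroup.eq_top_iff' V).2 hall)
    exact ⟨⟨e, 0, fun h => he ((QuotientAddGroup.eq_zero_iff e).1 h)⟩⟩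
  have hexp' : ∀ q : E ⧸ V, q + q = 0 := fun q => by
    induction q using QuotientAddGroup.induction_on with
    | H e => rw [← QuotientAddGroup.mk_add, hexp, QuotientAddGroup.mk_zero]
  obtain ⟨q, hq, hfix⟩ :=
    exists_fix (D := R) (E := E ⧸ V) hexp' (R := ⊤) (hR.of_equiv Subgroup.topEquiv.symm)
  induction q using QuotientAddGroup.induction_on with
  | H e =>
    refine lt_of_le_of_ne (le_up hV) fun h => hq ((QuotientAddGroup.eq_zero_iff e).2 ?_)
    rw [h]
    intro g hg
    have h1 : ((g • e : E) : E ⧸ V) = (e : E ⧸ V) := hfix ⟨g, hg⟩ (Subgroup.mem_top _)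
    rw [← sub_eq hexp]
    exact QuotientAddGroup.eq_iff_sub_mem.1 h1

theorem card_le_of_moved (hexp : ∀ e : E, e + e = 0) (g : D) {U V : AddSubgroup E}
    (h : ∀ e ∈ U, g • e + e ∈ V) :
    Nat.card U ≤ Nat.card (TransLinear.fixSub E g) * Nat.card V := by
  let f : U →+ V :=
    { toFun := fun e => ⟨g • (e : E) + e, h e e.2⟩
      map_zero' := Subtype.ext (by simp)
      map_add' := fun a b => Subtype.ext (by
        show g • ((a : E) + b) + ((a : E) + b) = g • (a : E) + a + (g • (b : E) + b)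
        rw [smul_add]; abel) }
  rw [← f.ker.card_mul_index, AddSubgroup.index_ker]
  refine Nat.mul_le_mul ?_ (Nat.le_of_dvd Nat.card_pos (AddSubgroup.card_addSubgroup_dvd_card _))
  refine Nat.card_le_card_of_injective (fun e => (⟨((e : U) : E), ?_⟩ : TransLinear.fixSub E g))
    fun a b hab => Subtype.ext (Subtype.ext (congrArg Subtype.val hab :))
  have h1 : g • ((e : U) : E) + ((e : U) : E) = 0 := congrArg Subtype.val (AddMonoidHom.mem_ker.1 e.2)
  rw [TransLinear.mem_fixSub, add_eq_zero_iff_eq_neg.1 h1, neg_eq hexp]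

variable [Nontrivial E] [FaithfulSMul D E]

namespace Setting

variable {P1 : ℕ → Prop}

theorem exists_inv_mem (S : Setting E P1 (D := D)) (T : Sylow 2 D) :
    ∃ g ∈ (T : Subgroup D), g * g = 1 ∧ g ≠ 1 := by
  haveI : Fact (Nat.Prime 2) := ⟨Nat.prime_two⟩
  obtain ⟨⟨g, hgT⟩, hg⟩ := exists_prime_orderOf_dvd_card' 2
    (T.dvd_card_of_dvd_card (ThreePrimes.dvd_card_of_one_lt S.sylow_one_lt))
  rw [Subgroup.orderOf_mk] at hg
  exact ⟨g, hgT, by rw [← pow_two, ← hg, pow_orderOf_eq_one],
    fun h => by rw [h, orderOf_one] at hg; omega⟩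

theorem fixS_le (hb : Base D E) {T : Sylow 2 D} {g : D} (hg : g ∈ (T : Subgroup D)) :
    fixS E (T : Subgroup D) ≤ TransLinear.fixSub E g := fun _ he => he g hg

/-- The sizes of the fixed spaces of the Sylow subgroups. -/
theorem six_sylow (S : Setting E P1 (D := D)) (hE : Nat.card E = 2 ^ 6) (hn : ∀ g : D,
    g * g = 1 → g ≠ 1 → Nat.card (TransLinear.fixSub E g) = 2 ^ 3) :
    (Nat.card (Sylow 2 D) = 63 ∧ ∀ T : Sylow 2 D, Nat.card (fixS E (T : Subgroup D)) = 2) ∨
      (Nat.card (Sylow 2 D) = 9 ∧ ∀ T : Sylow 2 D, Nat.card (fixS E (T : Subgroup D)) = 8) := by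
  haveI : Fact (Nat.Prime 2) := ⟨Nat.prime_two⟩
  obtain ⟨f, hf0, hf6, hcount, hc⟩ := S.base.sp.count S.sylow_one_lt Nat.prime_two hE
  rcases ThreePrimes.six_cases hf0 hf6 hcount with ⟨rfl, h⟩ | ⟨rfl, -⟩ | ⟨rfl, h⟩
  · exact Or.inl ⟨h, fun T => by rw [hc T]; norm_num⟩
  · exfalso
    obtain ⟨T⟩ : Nonempty (Sylow 2 D) := inferInstance
    obtain ⟨g, -, hg, hg1⟩ := S.exists_inv_mem T
    let Sy := {T : Sylow 2 D // g ∈ (T : Subgroup D)}
    haveI : Fintype Sy := Fintype.ofFinite _
    have hbij : Nat.card (Σ T : Sy, {e : fixS E (T.1 : Subgroup D) // e ≠ 0}) + 1 = 2 ^ 3 := by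
      rw [← hn g hg hg1, ← card_ne_add_one (0 : TransLinear.fixSub E g)]
      refine congrArg (· + 1) (Nat.card_congr (Equiv.ofBijective
        (fun p => (⟨⟨(p.2.1 : E), p.2.1.2 g p.1.2⟩, fun h0 => p.2.2
          (Subtype.ext (congrArg (fun e : TransLinear.fixSub E g => (e : E)) h0 :))⟩ :
            {e : TransLinear.fixSub E g // e ≠ 0})) ⟨?_, ?_⟩))
      · rintro ⟨⟨T, hT⟩, ⟨⟨x, hx⟩, hx0⟩⟩ ⟨⟨T', hT'⟩, ⟨⟨y, hy⟩, hy0⟩⟩ hxy
        obtain rfl : x = y := congrArg
          (fun e : {e : TransLinear.fixSub E g // e ≠ 0} => ((e : TransLinear.fixSub E g) : E)) hxy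
        obtain rfl := S.base.eq (fun h0 => hx0 (Subtype.ext h0)) hx hy
        rfl
      · rintro ⟨⟨e, he⟩, he0⟩
        have he0' : e ≠ 0 := fun h0 => he0 (Subtype.ext h0)
        obtain ⟨T, hT⟩ := S.base.exists_sylow he0'
        exact ⟨⟨⟨T, S.base.mem_sylow he0' hT (k := 1) (by rw [pow_one, pow_two, hg]) he⟩,
          ⟨⟨e, hT⟩, fun h0 => he0' (congrArg Subtype.val h0)⟩⟩, rfl⟩
    have h3 : ∀ T : Sy, Nat.card {e : fixS E (T.1 : Subgroup D) // e ≠ 0} = 3 := fun T => by
      have := card_ne_add_one (0 : fixS E (T.1 : Subgroup D))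
      rw [hc] at this
      omega
    rw [Nat.card_sigma, Finset.sum_congr rfl (fun T _ => h3 T : ∀ T ∈ _, _ = 3),
      Finset.sum_const, Finset.card_univ, smul_eq_mul] at hbij
    omega
  · exact Or.inr ⟨h, fun T => by rw [hc T]; norm_num⟩

theorem three_seven (S : Setting E P1 (D := D)) (hE : Nat.card E = 2 ^ 6) (hn : ∀ g : D,
    g * g = 1 → g ≠ 1 → Nat.card (TransLinear.fixSub E g) = 2 ^ 3) {r : ℕ} (hr : r.Prime)
    (hr2 : r ≠ 2) (hrD : r ∣ Nat.card D) : r = 3 ∨ r = 7 := by
  by_contra hne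
  push Not at hne
  haveI := Fact.mk hr
  haveI : Fact (Nat.Prime 2) := ⟨Nat.prime_two⟩
  obtain ⟨m, hm⟩ := exists_prime_orderOf_dvd_card' (G := D) r hrD
  set F := TransLinear.fixSub E m with hF
  obtain ⟨j, hj, hjc⟩ := (Nat.dvd_prime_pow Nat.prime_two).1 (hE ▸ F.card_addSubgroup_dvd_card)
  have hcg := card_fix_congr hE hr hm hjc
  have hj6 : j ≠ 6 := fun h => fix_ne_top hr hm (by rw [hjc, h, hE])
  have hcases : (r = 31 ∧ j = 1) ∨ (r = 5 ∧ j = 2) := by
    have h63 : r ∣ 2 ^ 6 - 2 ^ j := (Nat.modEq_iff_dvd' (Nat.pow_le_pow_right two_pos hj)).1 hcg.symm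
    have hle := Nat.le_of_dvd (Nat.sub_pos_of_lt (Nat.pow_lt_pow_right one_lt_two (by omega))) h63
    have h2 := hr.two_le
    have h64 : r ≤ 63 := by have := Nat.one_le_two_pow (n := j); omega
    clear hle hcg hjc hm hrD
    interval_cases j <;> norm_num at h63 ⊢
    all_goals interval_cases r <;> first | omega | (norm_num at hr)
  have hj1 : 1 ≤ j := by omega
  obtain ⟨l, hlF, hl0⟩ : ∃ l ∈ F, l ≠ 0 := by
    by_contra hall
    push Not at hall
    rw [(AddSubgroup.eq_bot_iff_forall F).2 hall, AddSubgroup.card_bot] at hjc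
    exact absurd hjc.symm (Nat.one_lt_pow (by omega) one_lt_two).ne'
  obtain ⟨T, hT⟩ := S.base.exists_sylow hl0
  obtain ⟨g, hgT, hg, hg1⟩ := S.exists_inv_mem T
  have hmN : m ∈ Subgroup.normalizer ((T : Subgroup D) : Set D) :=
    S.base.stab_le hl0 hT (MulAction.mem_stabilizer_iff.2 hlF)
  set W := fixS E (T : Subgroup D) with hW
  have hWT : ∀ a ∈ (T : Subgroup D), ∀ e ∈ W, a • e ∈ W := fun a ha e he => by rw [he a ha]; exact he
  have hWm : ∀ e ∈ W, m • e ∈ W := fun e he a ha => by
    have h := he _ (by simpa using conj_mem (inv_mem hmN) ha : m⁻¹ * a * m ∈ (T : Subgroup D))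
    calc a • m • e = m • (m⁻¹ * a * m) • e := by simp only [← mul_smul]; congr 1; group
      _ = m • e := by rw [h]
  -- the invariant subspaces through `l`
  have hU : ∀ U : AddSubgroup E, (∀ e ∈ U, m • e ∈ U) → l ∈ U →
      ∃ a b, 1 ≤ b ∧ b ≤ j ∧ b ≤ a ∧ a ≤ 6 ∧ Nat.card U = 2 ^ a ∧
        Nat.card (U ⊓ F : AddSubgroup E) = 2 ^ b ∧ 2 ^ a % r = 2 ^ b % r := by
    intro U hUm hlU
    obtain ⟨a, ha, hac⟩ := (Nat.dvd_prime_pow Nat.prime_two).1 (hE ▸ U.card_addSubgroup_dvd_card)
    obtain ⟨b, hb, hbc⟩ := (Nat.dvd_prime_pow Nat.prime_two).1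
      (hjc ▸ AddSubgroup.card_dvd_of_le (inf_le_right : U ⊓ F ≤ F))
    have h := TransLinear.card_modEq (E := E) hr (hm ▸ pow_orderOf_eq_one m) hUm
    rw [← hF, hac, hbc] at h
    refine ⟨a, b, Nat.one_le_iff_ne_zero.2 fun h0 => hl0 ?_, hb, ?_, ha, hac, hbc, h⟩
    · rw [h0, pow_zero, AddSubgroup.card_eq_one] at hbc
      exact (AddSubgroup.eq_bot_iff_forall _).1 hbc l ⟨hlU, hlF⟩
    · have := Nat.le_of_dvd Nat.card_pos (AddSubgroup.card_dvd_of_le (inf_le_left : U ⊓ F ≤ U))
      rw [hac, hbc] at this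
      exact (Nat.pow_le_pow_iff_right one_lt_two).1 this
  obtain ⟨a₀, b₀, hb₀, hb₀j, hab₀, ha₀6, ha₀c, hb₀c, h₀⟩ := hU W hWm hT
  have ha₀ : a₀ = 1 := by
    rcases six_sylow S hE hn with ⟨-, hs⟩ | ⟨-, hs⟩
    · have := (hs T).symm.trans ha₀c
      exact ((Nat.pow_right_injective (le_refl 2)) (this.symm.trans (pow_one 2).symm))
    · exfalso
      have := (hs T).symm.trans ha₀c
      obtain rfl : a₀ = 3 := Nat.pow_right_injective (le_refl 2) (this.symm.trans (by norm_num))
      rcases hcases with ⟨rfl, rfl⟩ | ⟨rfl, rfl⟩ <;> interval_cases b₀ <;> norm_num at h₀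
  subst ha₀
  have hbound : ∀ (U V : AddSubgroup E) (a c : ℕ), Nat.card U = 2 ^ a → Nat.card V = 2 ^ c →
      (∀ e ∈ U, g • e + e ∈ V) → a ≤ 3 + c := by
    intro U V a c hUc hVc h
    have h1 := card_le_of_moved S.base.exp g h
    rw [hn g hg hg1, hUc, hVc, ← pow_add] at h1
    exact (Nat.pow_le_pow_iff_right one_lt_two).1 h1
  have hWne : W ≠ ⊤ := fun h => by
    rw [h, AddSubgroup.card_top, hE] at ha₀c
    norm_num at ha₀c
  set U₁ := up (T : Subgroup D) W with hU₁
  have hlt₁ : W < U₁ := lt_up S.base.exp T.isPGroup' hWT hWne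
  obtain ⟨a₁, b₁, hb₁, hb₁j, hab₁, ha₁6, ha₁c, hb₁c, h₁⟩ :=
    hU U₁ (up_invariant_normalizer hmN hWm) (hlt₁.le hT)
  have ha₁lo : 1 < a₁ := by
    have h := AddSubgroup.card_dvd_of_le hlt₁.le
    rw [ha₀c, ha₁c] at h
    refine lt_of_le_of_ne ((Nat.pow_dvd_pow_iff_le_right one_lt_two).1 h) fun he => hlt₁.ne ?_
    exact AddSubgroup.eq_of_le_of_card_ge hlt₁.le (by rw [ha₁c, ha₀c, ← he])
  have ha₁hi : a₁ ≤ 4 := hbound U₁ W a₁ 1 ha₁c ha₀c fun e he => he g hgT
  rcases hcases with ⟨rfl, rfl⟩ | ⟨rfl, rfl⟩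
  · interval_cases a₁ <;> interval_cases b₁ <;> norm_num at h₁
  obtain ⟨rfl, rfl⟩ : a₁ = 2 ∧ b₁ = 2 := by
    interval_cases a₁ <;> interval_cases b₁ <;> first | exact ⟨rfl, rfl⟩ | (norm_num at h₁)
  have hFU : F ≤ U₁ := by
    have h : U₁ ⊓ F = F :=
      AddSubgroup.eq_of_le_of_card_ge inf_le_right (by rw [hjc, hb₁c])
    exact h ▸ inf_le_left
  have hU₁ne : U₁ ≠ ⊤ := fun h => by
    rw [h, AddSubgroup.card_top, hE] at ha₁c
    norm_num at ha₁c
  set U₂ := up (T : Subgroup D) U₁ with hU₂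
  have hlt₂ : U₁ < U₂ := lt_up S.base.exp T.isPGroup' (up_invariant hWT) hU₁ne
  obtain ⟨a₂, b₂, hb₂, hb₂j, hab₂, ha₂6, ha₂c, hb₂c, h₂⟩ :=
    hU U₂ (up_invariant_normalizer hmN (up_invariant_normalizer hmN hWm))
      (hlt₂.le (hlt₁.le hT))
  obtain rfl : b₂ = 2 := by
    rw [inf_eq_right.2 (hFU.trans hlt₂.le), hjc] at hb₂c
    exact (Nat.pow_right_injective (le_refl 2) hb₂c).symm
  have ha₂lo : 2 < a₂ := by
    have h := AddSubgroup.card_dvd_of_le hlt₂.le
    rw [ha₁c, ha₂c] at h
    refine lt_of_le_of_ne ((Nat.pow_dvd_pow_iff_le_right one_lt_two).1 h) fun he => hlt₂.ne ?_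
    exact AddSubgroup.eq_of_le_of_card_ge hlt₂.le (by rw [ha₂c, ha₁c, ← he])
  have ha₂hi : a₂ ≤ 5 := hbound U₂ U₁ a₂ 2 ha₂c ha₁c fun e he => he g hgT
  interval_cases a₂ <;> norm_num at h₂

set_option maxHeartbeats 1000000 in
/-- The alternatives for the space of order 64. -/
theorem six (S : Setting E P1 (D := D)) (hE : Nat.card E = 2 ^ 6) (hn : ∀ g : D,
    g * g = 1 → g ≠ 1 → Nat.card (TransLinear.fixSub E g) = 2 ^ 3) :
    (∃ C : Subgroup D, Hyp E C) ∨
      ((∀ r : ℕ, r.Prime → r ≠ 2 → P1 r → ¬ r ∣ Nat.card D) ∧ Group.IsSolvable D) := by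
  classical
  haveI : Fact (Nat.Prime 2) := ⟨Nat.prime_two⟩
  haveI : Fact (Nat.Prime 3) := ⟨Nat.prime_three⟩
  haveI : Fact (Nat.Prime 7) := ⟨by norm_num⟩
  by_cases hC : ∃ C : Subgroup D, Hyp E C
  · exact Or.inl hC
  refine Or.inr ?_
  obtain ⟨T₀⟩ : Nonempty (Sylow 2 D) := inferInstance
  have hΩ : Nat.card (Sylow 2 D) ∣ Nat.card D := by
    rw [Sylow.card_eq_index_normalizer T₀]
    exact Subgroup.index_dvd_card _
  obtain ⟨x, t, r, hr, hr2, hx, hx1, hxo, ht⟩ := S.exists_prime_real
  rcases six_sylow S hE hn with ⟨h63, -⟩ | ⟨h9, hs⟩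
  · exfalso
    apply hC
    have h3 : ¬ P1 3 := S.not_P1_of_dvd Nat.prime_three (by rw [h63]; norm_num)
    rcases S.real_three_seven hE hr hr2 hx ht with rfl | rfl
    · exact S.hyp_of_trans hE hn h63 hx ht
    · exact S.hyp_of_seven hE h3 ((show 9 ∣ 63 by norm_num).trans (h63 ▸ hΩ)) hx ht
  have h3 : ¬ P1 3 := S.not_P1_of_dvd Nat.prime_three (by rw [h9]; norm_num)
  have hreal : ∀ (y s : D) (q : ℕ), q.Prime → q ≠ 2 → orderOf y = q → s * y * s⁻¹ = y⁻¹ → q = 3 := by
    intro y s q hq hq2 hy hs'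
    exact (S.real_three_seven hE hq hq2 hy hs').resolve_right fun h7 =>
      hC (S.hyp_of_seven hE h3 (h9 ▸ hΩ) (h7 ▸ hy) hs')
  obtain rfl := hreal x t r hr hr2 hx ht
  -- a single Sylow subgroup through an involution
  have hP : ∀ (T : Sylow 2 D) (g : D), g ∈ (T : Subgroup D) → g * g = 1 → g ≠ 1 →
      TransLinear.fixSub E g = fixS E (T : Subgroup D) := fun T g hgT hg hg1 =>
    (AddSubgroup.eq_of_le_of_card_ge (fixS_le S.base hgT)
      (by rw [hn g hg hg1, hs T]; norm_num)).symm
  have huniq : ∀ (g : D) (T T' : Sylow 2 D), g * g = 1 → g ≠ 1 → g ∈ (T : Subgroup D) →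
      g ∈ (T' : Subgroup D) → T = T' := by
    intro g T T' hg hg1 hT hT'
    obtain ⟨e, he, hfix⟩ := exists_fix (E := E) S.base.exp T.isPGroup'
    refine S.base.eq he hfix ?_
    rw [← hP T' g hT' hg hg1, hP T g hT hg hg1]
    exact hfix
  have hmemN : ∀ (T : Sylow 2 D) (g : D) (k : ℕ), g ^ 2 ^ k = 1 → g • T = T → g ∈ (T : Subgroup D) := by
    intro T g k hg hgT
    have h1 : g ∈ Subgroup.normalizer ((T : Subgroup D) : Set D) :=
      Sylow.smul_eq_iff_mem_normalizer.1 hgT
    exact (((isPGroup_zpowers hg).inf_normalizer_sylow T).le ⟨Subgroup.mem_zpowers g, h1⟩).2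
  have hthree : ∀ (g h : D) (T T' : Sylow 2 D), g * g = 1 → g ≠ 1 → h * h = 1 → h ≠ 1 →
      g ∈ (T : Subgroup D) → h ∈ (T' : Subgroup D) → T ≠ T' → orderOf (g * h) = 3 := by
    intro g h T T' hg hg1 hh hh1 hgT hhT hne
    have hgi : g⁻¹ = g := inv_eq_of_mul_eq_one_right hg
    have hhi : h⁻¹ = h := inv_eq_of_mul_eq_one_right hh
    set u := g * h with hu
    have h1 : g * u * g⁻¹ = u⁻¹ := by
      rw [hu, mul_inv_rev, hgi, hhi, ← mul_assoc g g h, hg, one_mul]
    have h2 : h * u * h⁻¹ = u⁻¹ := by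
      rw [hu, mul_inv_rev, hgi, hhi, mul_assoc h (g * h) h, mul_assoc g h h, hh, mul_one]
    have hodd : ¬ 2 ∣ orderOf u := by
      intro hd
      obtain ⟨k, hk⟩ := hd
      set z := u ^ k with hz
      have hz2 : z * z = 1 := by rw [hz, ← pow_add, ← two_mul, ← hk, pow_orderOf_eq_one]
      have hz1 : z ≠ 1 := fun he => by
        have h3 := orderOf_dvd_of_pow_eq_one (hz ▸ he : u ^ k = 1)
        have hk0 : 0 < k := by
          have := orderOf_pos u
          omega
        have := Nat.le_of_dvd hk0 h3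
        omega
      obtain ⟨T₁, hzT⟩ := exists_sylow_mem hz2
      have hfix : ∀ s : D, s * s = 1 → s * u * s⁻¹ = u⁻¹ → s ∈ (T₁ : Subgroup D) := by
        intro s hs hsu
        have hsz : s⁻¹ * z * s = z := by
          rw [show s⁻¹ * z * s = s⁻¹ * z * s⁻¹⁻¹ by rw [inv_inv], hz, ← conj_pow,
            inv_eq_of_mul_eq_one_right hs, hsu, inv_pow, ← hz, inv_eq_of_mul_eq_one_right hz2]
        refine hmemN T₁ s 1 (by rw [pow_one, pow_two, hs]) (huniq z _ _ hz2 hz1 ?_ hzT)
        rw [mem_smul_sylow, hsz]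
        exact hzT
      exact hne ((huniq g T T₁ hg hg1 hgT (hfix g hg h1)).trans
        (huniq h T' T₁ hh hh1 hhT (hfix h hh h2)).symm)
    have hne1 : u ≠ 1 := fun he => hne (huniq g T T' hg hg1 hgT (by
      rw [show g = h from (mul_eq_one_iff_eq_inv.1 he).trans hhi]; exact hhT))
    have hpow : ∀ q : ℕ, q.Prime → q ∣ orderOf u → q = 3 := fun q hq hqu =>
      hreal (u ^ (orderOf u / q)) g q hq (fun h2' => hodd (h2' ▸ hqu))
        (orderOf_pow_orderOf_div (orderOf_pos u).ne' hqu) (by rw [← conj_pow, h1, inv_pow])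
    obtain ⟨k, hk⟩ : ∃ k, orderOf u = 3 ^ k :=
      ⟨_, Nat.eq_prime_pow_of_unique_prime_dvd (orderOf_pos u).ne' fun {d} hd hdu => hpow d hd hdu⟩
    rcases Nat.lt_trichotomy k 1 with hk1 | rfl | hk1
    · exact absurd (orderOf_eq_one_iff.1 (by rw [hk, show k = 0 by omega, pow_zero])) hne1
    · rw [hk, pow_one]
    · exfalso
      have h9u : 9 ∣ orderOf u := by
        rw [hk, show (9 : ℕ) = 3 ^ 2 by norm_num]
        exact pow_dvd_pow 3 hk1
      exact hC (S.hyp_of_nine hE (z := u ^ (orderOf u / 9)) (t := g)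
        (orderOf_pow_orderOf_div (orderOf_pos u).ne' h9u) (by rw [← conj_pow, h1, inv_pow]))
  have hone : ∀ (T : Sylow 2 D) (u v : D), u ∈ (T : Subgroup D) → v ∈ (T : Subgroup D) →
      u * u = 1 → u ≠ 1 → v * v = 1 → v ≠ 1 → u = v := by
    intro T u v huT hvT hu hu1 hv hv1
    haveI : Nontrivial (Sylow 2 D) := Finite.one_lt_card_iff_nontrivial.1 (by rw [h9]; norm_num)
    obtain ⟨T', hne⟩ := exists_ne T
    obtain ⟨w, hwT, hw, hw1⟩ := S.exists_inv_mem T'
    have hbraid : ∀ a : D, a ∈ (T : Subgroup D) → a * a = 1 → a ≠ 1 → a • T' = w • T := by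
      intro a haT ha ha1
      have h3' := pow_orderOf_eq_one (a * w)
      rw [hthree a w T T' ha ha1 hw hw1 haT hwT hne.symm] at h3'
      have hai : a⁻¹ = a := inv_eq_of_mul_eq_one_right ha
      have hwi : w⁻¹ = w := inv_eq_of_mul_eq_one_right hw
      have heq : a * w * a⁻¹ = w * a * w⁻¹ := by
        have h4 : a * w * a * (w * a * w) = 1 := by
          rw [← h3', pow_succ, pow_two]
          simp only [mul_assoc]
        rw [hai, hwi, eq_inv_of_mul_eq_one_left h4, mul_inv_rev, mul_inv_rev, hai, hwi, mul_assoc]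
      refine huniq (a * w * a⁻¹) _ _ ?_ ?_ ?_ ?_
      · rw [show a * w * a⁻¹ * (a * w * a⁻¹) = a * (w * w) * a⁻¹ by group, hw, mul_one,
          mul_inv_cancel]
      · intro h5
        have := congrArg (fun y => a⁻¹ * y * a) h5
        exact hw1 (by simpa [mul_assoc] using this)
      · rw [mem_smul_sylow]; simpa [mul_assoc] using hwT
      · rw [heq, mem_smul_sylow]; simpa [mul_assoc] using haT
    have hfixT' : (v⁻¹ * u) • T' = T' := by
      rw [mul_smul, hbraid u huT hu hu1, ← hbraid v hvT hv hv1, inv_smul_smul]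
    obtain ⟨k, hk⟩ := T.isPGroup' ⟨_, mul_mem (inv_mem hvT) huT⟩
    have hk' : (v⁻¹ * u) ^ 2 ^ k = 1 := congrArg Subtype.val hk
    have hT' := hmemN T' _ k hk' hfixT'
    by_contra hne'
    have hne1 : v⁻¹ * u ≠ 1 := fun h5 => hne' (inv_mul_eq_one.1 h5).symm
    obtain ⟨j, -, hj⟩ := (Nat.dvd_prime_pow Nat.prime_two).1 (orderOf_dvd_of_pow_eq_one hk')
    have hj0 : j ≠ 0 := fun h5 => hne1 (orderOf_eq_one_iff.1 (by rw [hj, h5, pow_zero]))
    set z := (v⁻¹ * u) ^ 2 ^ (j - 1) with hz
    have hzo : orderOf z = 2 := by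
      rw [hz, orderOf_pow' _ (by positivity), hj,
        Nat.gcd_eq_right (pow_dvd_pow 2 (by omega : j - 1 ≤ j)),
        Nat.pow_div (by omega) two_pos, show j - (j - 1) = 1 by omega, pow_one]
    exact hne (huniq z T' T (by rw [← pow_two, ← hzo, pow_orderOf_eq_one])
      (fun h5 => by rw [h5, orderOf_one] at hzo; omega) (pow_mem hT' _)
      (pow_mem (mul_mem (inv_mem hvT) huT) _))
  have hno : ∀ q : ℕ, q.Prime → q ≠ 2 → P1 q → ¬ q ∣ Nat.card D := by
    intro q hq hq2 hqP hqD
    haveI := Fact.mk hq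
    rcases three_seven S hE hn hq hq2 hqD with rfl | rfl
    · exact h3 hqP
    obtain ⟨e, he⟩ := exists_ne (0 : E)
    obtain ⟨m₀, hm₀⟩ := exists_prime_orderOf_dvd_card' (G := D) 7 hqD
    obtain ⟨c, hc⟩ := ClassGraph.exists_conj_mem hq (C := MulAction.stabilizer D e)
      (fun hd => S.orbit e he 7 hq hd hqP) (y := m₀) (k := 1) (by rw [hm₀, pow_one])
    set m := c * m₀ * c⁻¹ with hmdef
    have hm : orderOf m = 7 := by rw [hmdef, ClassGraph.orderOf_conj', hm₀]
    obtain ⟨T, hT⟩ := S.base.exists_sylow he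
    have hmN : m ∈ Subgroup.normalizer ((T : Subgroup D) : Set D) := S.base.stab_le he hT hc
    obtain ⟨g, hgT, hg, hg1⟩ := S.exists_inv_mem T
    have hmg : m * g = g * m := by
      have h5 := hone T _ g (conj_mem hmN hgT) hgT
        (by rw [show m * g * m⁻¹ * (m * g * m⁻¹) = m * (g * g) * m⁻¹ by group, hg, mul_one,
          mul_inv_cancel])
        (fun h5 => hg1 (by
          have := congrArg (fun y => m⁻¹ * y * m) h5
          simpa [mul_assoc] using this)) hg hg1
      exact mul_inv_eq_iff_eq_mul.1 h5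
    set F := TransLinear.fixSub E m with hF
    set W := fixS E (T : Subgroup D) with hW
    obtain ⟨j, hj, hjc⟩ := (Nat.dvd_prime_pow Nat.prime_two).1 (hE ▸ F.card_addSubgroup_dvd_card)
    have hWm : ∀ u ∈ W, m • u ∈ W := fun u hu => by
      rw [hW, ← hP T g hgT hg hg1, TransLinear.mem_fixSub] at hu ⊢
      rw [← mul_smul, ← hmg, mul_smul, hu]
    have hWc := TransLinear.card_modEq (E := E) hq (hm ▸ pow_orderOf_eq_one m) hWm
    obtain ⟨b, hb, hbc⟩ := (Nat.dvd_prime_pow Nat.prime_two).1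
      (show Nat.card (W ⊓ F : AddSubgroup E) ∣ 2 ^ 3 by
        rw [show (2 : ℕ) ^ 3 = Nat.card W by rw [hs T]; norm_num]
        exact AddSubgroup.card_dvd_of_le inf_le_left)
    rw [← hF, hs T, hbc] at hWc
    have hb1 : b ≠ 0 := fun h5 => he (by
      rw [h5, pow_zero, AddSubgroup.card_eq_one] at hbc
      exact (AddSubgroup.eq_bot_iff_forall _).1 hbc e ⟨hT, MulAction.mem_stabilizer_iff.1 hc⟩)
    have hb3 : b = 3 := by
      unfold Nat.ModEq at hWc
      interval_cases b <;> first | omega | (norm_num at hWc)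
    have hWF : W ≤ F := by
      have h5 : W ⊓ F = W := AddSubgroup.eq_of_le_of_card_ge inf_le_left (by
        rw [hbc, hs T, hb3]; norm_num)
      exact h5 ▸ inf_le_right
    have hm1 : m = 1 := eq_one_of_fix (E := E) fun v => by
      obtain ⟨r', y, hr', hr2', hy, hgy⟩ := S.base.exists_inverted hg hg1
      obtain ⟨-, hrange⟩ := S.base.card_fix hg (hy ▸ hr'.odd_of_ne_two hr2')
        (fun h5 => hr'.one_lt.ne (by rw [← hy, h5, orderOf_one])) hgy
      have h5 : m • (g • v + v) = g • v + v := TransLinear.mem_fixSub.1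
        (hWF ((hP T g hgT hg hg1).le (hrange.le ⟨v, rfl⟩)))
      set δ := m • v + v with hδ
      have h6 : δ ∈ F := by
        refine hWF ((hP T g hgT hg hg1).le ?_)
        rw [TransLinear.mem_fixSub, hδ, smul_add, ← mul_smul, ← hmg, mul_smul]
        rw [smul_add] at h5
        calc m • g • v + g • v = m • g • v + m • v + (m • v + g • v) := by
              rw [show m • g • v + m • v + (m • v + g • v) =
                m • g • v + g • v + (m • v + m • v) by abel, S.base.exp, add_zero]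
          _ = g • v + v + (m • v + g • v) := by rw [h5]
          _ = m • v + v + (g • v + g • v) := by abel
          _ = m • v + v := by rw [S.base.exp, add_zero]
      have h7 : ∀ i : ℕ, m ^ i • v = v + i • δ := fun i => by
        induction i with
        | zero => simp
        | succ i ih =>
          rw [pow_succ', mul_smul, ih, smul_add, smul_comm m i δ, TransLinear.mem_fixSub.1 h6,
            succ_nsmul, hδ]
          calc m • v + i • (m • v + v) = v + v + (m • v + i • (m • v + v)) := by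
                rw [S.base.exp, zero_add]
            _ = v + (i • (m • v + v) + (m • v + v)) := by abel
      have h8 := h7 7
      rw [← hm, pow_orderOf_eq_one, one_smul, hm] at h8
      have h9' : δ = 0 := by
        rw [show 7 • δ = δ + ((δ + δ) + (δ + δ) + (δ + δ)) by abel] at h8
        simp only [S.base.exp, add_zero] at h8
        exact left_eq_add.1 h8
      rw [hδ] at h9'
      rw [add_eq_zero_iff_eq_neg.1 h9', neg_eq S.base.exp]
    rw [hm1, orderOf_one] at hm
    omega
  refine ⟨hno, ?_⟩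
  · -- solubility
    by_cases h7 : P1 7
    swap
    · -- the kernel on the Sylow subgroups contains a Sylow 7-subgroup
      let φ := MulAction.toPermHom D (Sylow 2 D)
      set H : Subgroup D := Subgroup.centralizer {x} with hH
      have hidx : ¬ 7 ∣ H.index := fun hd =>
        h7 (S.real x t 3 1 Nat.prime_three (by norm_num) (by rw [hx, pow_one]) hx1 ht 7
          (by norm_num) hd)
      obtain ⟨Q⟩ : Nonempty (Sylow 7 H) := inferInstance
      set R := (Q : Subgroup H).map H.subtype with hR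
      have hRi : ¬ 7 ∣ R.index := by
        rw [hR, Subgroup.index_map_subtype]
        exact (by norm_num : Nat.Prime 7).not_dvd_mul Q.not_dvd_index hidx
      have hxfix : ∀ T : Sylow 2 D, x • T ≠ T := by
        intro T hT
        have hall : ∀ T' : Sylow 2 D, x • T' = T' := by
          intro T'
          obtain ⟨c, rfl⟩ := MulAction.exists_smul_eq D T T'
          obtain ⟨e, he, hfix⟩ := exists_fix (E := E) S.base.exp T.isPGroup'
          obtain ⟨u, hu, hue⟩ := S.trans Nat.prime_three (by norm_num) (k := 1)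
            (by rw [hx, pow_one]) hx1 ht c e
          have h5 : c • T = u • T := S.base.eq (e := u • e) (by rwa [ne_eq, smul_eq_zero_iff_eq])
            (hue ▸ smul_mem_fixS hfix) (smul_mem_fixS hfix)
          rw [h5, ← mul_smul, (Subgroup.mem_centralizer_singleton_iff.1 hu).symm, mul_smul, hT]
        obtain ⟨n, hn', k, hk⟩ := TwoClosedZJ.exists_two_part t
        have ht' := TwoClosedZJ.conj_odd_pow ht hn'
        obtain ⟨T', hT'⟩ := (isPGroup_zpowers hk).exists_le_sylow
        have hs1 : t ^ n ∈ (T' : Subgroup D) := hT' (Subgroup.mem_zpowers _)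
        have hxN : x ∈ Subgroup.normalizer ((T' : Subgroup D) : Set D) :=
          Sylow.smul_eq_iff_mem_normalizer.1 (hall T')
        have h5 : t ^ n * (x * (t ^ n)⁻¹ * x⁻¹) ∈ (T' : Subgroup D) :=
          mul_mem hs1 (conj_mem hxN (inv_mem hs1))
        rw [show t ^ n * (x * (t ^ n)⁻¹ * x⁻¹) = t ^ n * x * (t ^ n)⁻¹ * x⁻¹ by group, ht',
          show x⁻¹ * x⁻¹ = x by
            have h6 := pow_orderOf_eq_one x
            rw [hx, pow_succ, pow_two] at h6
            rw [← mul_inv_rev, inv_eq_of_mul_eq_one_right h6]] at h5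
        obtain ⟨i, hi⟩ := T'.isPGroup' ⟨x, h5⟩
        have h7' : orderOf x ∣ 2 ^ i := orderOf_dvd_of_pow_eq_one (congrArg Subtype.val hi)
        rw [hx] at h7'
        have h8 := (Nat.prime_dvd_prime_iff_eq Nat.prime_three Nat.prime_two).1
          (Nat.prime_three.dvd_of_dvd_pow h7')
        norm_num at h8
      have hRker : R ≤ φ.ker := by
        intro g hg
        rw [MonoidHom.mem_ker]
        refine Equiv.Perm.ext fun T => ?_
        show g • T = T
        by_contra hgT
        have hRp : IsPGroup 7 R := Q.isPGroup'.map _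
        let X := MulAction.fixedPoints R (Sylow 2 D)
        have hX : Nat.card X % 7 = 2 := by
          have h5 := hRp.card_modEq_card_fixedPoints (Sylow 2 D)
          rw [h9] at h5
          exact h5.symm
        have hRH : ∀ a : R, (a : D) * x = x * a := fun a =>
          Subgroup.mem_centralizer_singleton_iff.1 (Subgroup.map_subtype_le _ a.2)
        have hinvX : ∀ U ∈ X, x • U ∈ X := fun U hU a => by
          show (a : D) • x • U = x • U
          rw [← mul_smul, hRH a, mul_smul, show (a : D) • U = U from hU a]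
        have h3X : 3 ∣ Nat.card X := by
          haveI : Fintype X := Fintype.ofFinite _
          let σ : Equiv.Perm X :=
            { toFun := fun U => ⟨x • U.1, hinvX U.1 U.2⟩
              invFun := fun U => ⟨x • x • U.1, hinvX _ (hinvX U.1 U.2)⟩
              left_inv := fun U => Subtype.ext (by
                show x • x • x • U.1 = U.1
                rw [← mul_smul, ← mul_smul, show x * x * x = x ^ 3 by rw [pow_succ, pow_two], ← hx,
                  pow_orderOf_eq_one, one_smul])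
              right_inv := fun U => Subtype.ext (by
                show x • x • x • U.1 = U.1
                rw [← mul_smul, ← mul_smul, show x * x * x = x ^ 3 by rw [pow_succ, pow_two], ← hx,
                  pow_orderOf_eq_one, one_smul]) }
          have hσ : σ ^ 3 ^ 1 = 1 := Equiv.Perm.ext fun U => Subtype.ext (by
            show x • x • x • U.1 = U.1
            rw [← mul_smul, ← mul_smul, show x * x * x = x ^ 3 by rw [pow_succ, pow_two], ← hx,
              pow_orderOf_eq_one, one_smul])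
          by_contra h5
          obtain ⟨U, hU⟩ := Equiv.Perm.exists_fixed_point_of_prime (p := 3) (n := 1)
            (by rwa [← Nat.card_eq_fintype_card]) hσ
          exact hxfix U.1 (congrArg Subtype.val hU)
        have hle : Nat.card X ≤ 9 := h9 ▸ Finite.card_subtype_le _
        have hX9 : Nat.card X = 9 := by omega
        have hTX : T ∈ X := by
          by_contra hTX
          have h5 : Nat.card X < Nat.card (Sylow 2 D) :=
            Finite.card_subtype_lt (p := fun U => U ∈ X) hTX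
          omega
        exact hgT (hTX ⟨g, hg⟩)
      have h7i : ¬ 7 ∣ φ.ker.index := fun hd => hRi (hd.trans (Subgroup.index_dvd_of_le hRker))
      have hkerodd : Odd (Nat.card φ.ker) := by
        rw [Nat.odd_iff, ← Nat.two_dvd_ne_zero]
        intro h5
        obtain ⟨⟨g, hgk⟩, hgo⟩ := exists_prime_orderOf_dvd_card' 2 h5
        rw [Subgroup.orderOf_mk] at hgo
        have hg1 : g ≠ 1 := fun h6 => by rw [h6, orderOf_one] at hgo; omega
        have hg : g * g = 1 := by rw [← pow_two, ← hgo, pow_orderOf_eq_one]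
        refine hg1 (eq_one_of_fix (E := E) fun v => ?_)
        by_cases hv : v = 0
        · rw [hv, smul_zero]
        obtain ⟨T, hT⟩ := S.base.exists_sylow hv
        exact hT g (hmemN T g 1 (by rw [pow_one, pow_two, hg]) (DFunLike.congr_fun hgk T))
      haveI : Group.IsSolvable φ.ker := Cfsg.Agent.S0205.result hkerodd
      haveI : Group.IsSolvable (D ⧸ φ.ker) := by
        have hfac : ∀ q : ℕ, q.Prime → q ∣ φ.ker.index → q = 2 ∨ q = 3 := fun q hq hqd => by
          by_cases hq2 : q = 2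
          · exact Or.inl hq2
          rcases three_seven S hE hn hq hq2 (hqd.trans φ.ker.index_dvd_card) with h5 | rfl
          · exact Or.inr h5
          · exact absurd hqd h7i
        refine Cfsg.Agent.S0144.result 2 3 (φ.ker.index.factorization 2) (φ.ker.index.factorization 3)
          Nat.prime_two Nat.prime_three ?_
        rw [← Subgroup.index_eq_card]
        exact two_three_factorization Subgroup.index_ne_zero_of_finite hfac
      exact Group.isSolvable_of_ker_le_range φ.ker.subtype (QuotientGroup.mk' φ.ker)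
        (by rw [QuotientGroup.ker_mk', Subgroup.range_subtype])
    · have hfac : ∀ q : ℕ, q.Prime → q ∣ Nat.card D → q = 2 ∨ q = 3 := fun q hq hqd => by
        by_cases hq2 : q = 2
        · exact Or.inl hq2
        rcases three_seven S hE hn hq hq2 hqd with h5 | rfl
        · exact Or.inr h5
        · exact absurd hqd (hno 7 (by norm_num) (by norm_num) h7)
      exact Cfsg.Agent.S0144.result 2 3 _ _ Nat.prime_two Nat.prime_three
        (two_three_factorization Nat.card_pos.ne' hfac)
where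
  two_three_factorization {m : ℕ} (hm : m ≠ 0) (h : ∀ q : ℕ, q.Prime → q ∣ m → q = 2 ∨ q = 3) :
      m = 2 ^ m.factorization 2 * 3 ^ m.factorization 3 := by
    conv_lhs => rw [← Nat.prod_factorization_pow_eq_self hm]
    rw [Finsupp.prod_of_support_subset (s := {2, 3})]
    · rw [Finset.prod_pair (by norm_num)]
    · intro q hq
      rw [Nat.support_factorization, Nat.mem_primeFactors] at hq
      simpa using h q hq.1 hq.2.1
    · intro q _; rw [pow_zero]

end Setting

end Cfsg.Agent.RealGraph
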