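import Cfsg.Agent.Lib.RealGraph.Setting
import Cfsg.Agent.Lib.TransLinear.Main
import Cfsg.Agent.Lib.TransLinear.Stabilizer

/-!
# The space of order 64: real elements of order 3, 7, 9 and the cyclic subgroup
-/

set_option autoImplicit false
set_option linter.style.haveILetI false
set_option linter.unusedSectionVars false

namespace Cfsg.Agent.RealGraph

open Cfsg.Agent
open Cfsg.Agent.ThreePrimes (Spread fixS mem_fixS)
open scoped Pointwise

universe u

variable {D E : Type u} [Group D] [Finite D] [AddCommGroup E] [Finite E] [Nontrivial E]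
  [DistribMulAction D E] [FaithfulSMul D E]

/-- A semiregular subgroup has order dividing the number of nonzero vectors. -/
theorem card_dvd_sub_one {R : Subgroup D} (hfree : ∀ g ∈ R, ∀ e : E, e ≠ 0 → g • e = e → g = 1)
    {V : AddSubgroup E} (hV : ∀ g ∈ R, ∀ e ∈ V, g • e ∈ V) :
    Nat.card R ∣ Nat.card V - 1 := by
  letI : MulAction R {e : V // e ≠ 0} :=
    { smul := fun g e => ⟨⟨(g : D) • ((e : V) : E), hV g g.2 _ (e : V).2⟩, fun h => e.2
        (Subtype.ext ((smul_eq_zero_iff_eq _).1 (congrArg Subtype.val h)))⟩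
      one_smul := fun e => Subtype.ext (Subtype.ext (one_smul D ((e : V) : E)))
      mul_smul := fun g g' e =>
        Subtype.ext (Subtype.ext (mul_smul (g : D) (g' : D) ((e : V) : E))) }
  have h := index_dvd_card_of_stab (α := {e : V // e ≠ 0}) (⊥ : Subgroup R) fun e =>
    (Subgroup.eq_bot_iff_forall _).2 fun g hg => Subtype.ext (hfree g g.2 _
      (fun h0 => e.2 (Subtype.ext h0)) (congrArg (fun y : {e : V // e ≠ 0} => ((y : V) : E)) hg))
  rw [Subgroup.index_bot] at h
  rwa [← card_ne_add_one (0 : V), Nat.add_sub_cancel]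

/-- An element of order nine whose cube has no fixed points acts irreducibly. -/
theorem irred_nine (hE : Nat.card E = 2 ^ 6) {z : D} (hz : orderOf z = 9)
    (hfix : ∀ e : E, z ^ 3 • e = e → e = 0) : TransLinear.Irred E z := by
  intro V hV
  have hfree : ∀ g ∈ Subgroup.zpowers z, ∀ e : E, e ≠ 0 → g • e = e → g = 1 := by
    intro g hg e he hge
    obtain ⟨k, rfl⟩ := (IsOfFinOrder.mem_powers_iff_mem_zpowers (isOfFinOrder_of_finite z)).2 hg
    rw [← orderOf_dvd_iff_pow_eq_one, hz]
    by_contra h9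
    apply he
    have hpow : ∀ i : ℕ, (z ^ k) ^ i • e = e := fun i => by
      induction i with
      | zero => simp
      | succ i ih => rw [pow_succ, mul_smul, hge, ih]
    by_cases h3 : 3 ∣ k
    · obtain ⟨m, rfl⟩ := h3
      have hm : ¬ 3 ∣ m := fun hd => h9 (by obtain ⟨q, rfl⟩ := hd; exact ⟨q, by ring⟩)
      have hmm : 1 = m * m % 3 := by
        have : m % 3 = 1 ∨ m % 3 = 2 := by omega
        rw [Nat.mul_mod]
        rcases this with h | h <;> rw [h]
      have h1 := hpow m
      rw [← pow_mul, mul_assoc, pow_mul] at h1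
      refine hfix e ?_
      rwa [← pow_mod_orderOf, show orderOf (z ^ 3) = 3 by
        rw [orderOf_pow' z (by norm_num), hz]; norm_num, ← hmm, pow_one] at h1
    · -- some power of `z ^ k` is `z ^ 3`
      obtain ⟨m, hm⟩ := exists_pow_eq_self_of_coprime (x := z) (n := k) (by
        rw [hz, show (9 : ℕ) = 3 ^ 2 by norm_num]
        exact Nat.Coprime.pow_right 2 ((Nat.prime_three.coprime_iff_not_dvd).2 h3).symm)
      refine hfix e ?_
      have h1 := hpow (m * 3)
      rwa [pow_mul, hm] at h1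
  have hinv : ∀ g ∈ Subgroup.zpowers z, ∀ e ∈ V, g • e ∈ V := fun g hg e he =>
    TransLinear.invariant_zpowers hV hg e he
  have h := card_dvd_sub_one hfree hinv
  rw [Nat.card_zpowers, hz] at h
  obtain ⟨j, hj, hjc⟩ :=
    (Nat.dvd_prime_pow Nat.prime_two).1 (hE ▸ V.card_addSubgroup_dvd_card)
  rw [hjc] at h
  have hj' : j = 0 ∨ j = 6 := by interval_cases j <;> simp_all
  rcases hj' with rfl | rfl
  · exact Or.inl (AddSubgroup.card_eq_one.1 (by rw [hjc, pow_zero]))
  · exact Or.inr (AddSubgroup.eq_top_of_card_eq _ (hjc.trans hE.symm))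

/-- A group of order nine acting without fixed points is cyclic. -/
theorem exists_order_nine (hexp : ∀ e : E, e + e = 0) {R : Subgroup D} (hR : Nat.card R = 9)
    (hfree : ∀ g ∈ R, ∀ e : E, e ≠ 0 → g • e = e → g = 1) : ∃ z ∈ R, orderOf z = 9 := by
  by_contra hno
  push Not at hno
  have h3 : ∀ g ∈ R, g * g * g = 1 := by
    intro g hg
    obtain ⟨i, hi, ho⟩ := (Nat.dvd_prime_pow Nat.prime_three).1
      (show orderOf g ∣ 3 ^ 2 by
        rw [show (3 : ℕ) ^ 2 = Nat.card R by rw [hR]; norm_num]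
        exact Subgroup.orderOf_dvd_natCard _ hg)
    have hi2 : i ≤ 1 := by
      rcases Nat.lt_or_ge i 2 with h | h
      · omega
      · rw [show i = 2 by omega] at ho
        exact absurd ho (hno g hg)
    rw [show g * g * g = g ^ 3 by rw [pow_succ, pow_two], ← orderOf_dvd_iff_pow_eq_one, ho]
    exact (pow_dvd_pow 3 hi2).trans (by norm_num)
  haveI : Fact (Nat.Prime 3) := ⟨Nat.prime_three⟩
  haveI := IsPGroup.isMulCommutative_of_card_eq_prime_sq (p := 3) (G := R) (by rw [hR]; norm_num)
  have hcomm : ∀ a ∈ R, ∀ b ∈ R, a * b = b * a := fun a ha b hb =>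
    setLike_mul_comm (s := R) ha hb
  have hS : ∀ y ∈ R, y ≠ 1 → ∀ e : E, e + y • e + (y * y) • e = 0 := by
    intro y hy hy1 e
    by_contra hne
    refine hy1 (hfree y hy _ hne ?_)
    rw [smul_add, smul_add, ← mul_smul, ← mul_smul, ← mul_assoc, h3 y hy, one_smul]
    abel
  obtain ⟨⟨a, ha⟩, hao⟩ := exists_prime_orderOf_dvd_card' (G := R) 3 (by rw [hR]; norm_num)
  rw [Subgroup.orderOf_mk] at hao
  have ha1 : a ≠ 1 := fun h => by rw [h, orderOf_one] at hao; omega
  obtain ⟨b, hb, hba⟩ : ∃ b ∈ R, b ∉ Subgroup.zpowers a := by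
    by_contra hall
    push Not at hall
    have := Nat.le_of_dvd Nat.card_pos (Subgroup.card_dvd_of_le (fun g hg => hall g hg :
      R ≤ Subgroup.zpowers a))
    rw [hR, Nat.card_zpowers, hao] at this
    omega
  have hab : ∀ k ∈ Subgroup.zpowers a, k * b ≠ 1 := fun k hk h => hba (by
    rw [(eq_inv_of_mul_eq_one_right h)]
    exact inv_mem hk)
  have hb1 : b ≠ 1 := fun h => hba (h ▸ one_mem _)
  obtain ⟨e, he⟩ := exists_ne (0 : E)
  have s1 := hS b hb hb1 e
  have s2 := hS (a * b) (mul_mem ha hb) (hab a (Subgroup.mem_zpowers a)) e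
  have s3 := hS (a * a * b) (mul_mem (mul_mem ha ha) hb)
    (hab _ (mul_mem (Subgroup.mem_zpowers a) (Subgroup.mem_zpowers a))) e
  have q1 := hS a ha ha1 (b • e)
  have q2 := hS a ha ha1 ((b * b) • e)
  simp only [← mul_smul] at q1 q2
  have hab' := hcomm b hb a ha
  have e1 : a * b * (a * b) = a * a * (b * b) := by
    rw [mul_assoc, ← mul_assoc b a b, hab']; simp only [mul_assoc]
  have e2 : a * a * b * (a * a * b) = a * (b * b) := by
    calc a * a * b * (a * a * b) = a * a * (b * a) * (a * b) := by simp only [mul_assoc]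
      _ = a * a * (a * b) * (a * b) := by rw [hab']
      _ = a * a * a * ((b * a) * b) := by simp only [mul_assoc]
      _ = a * (b * b) := by rw [h3 a ha, one_mul, hab', mul_assoc]
  rw [e1] at s2
  rw [e2] at s3
  apply he
  have key : (e + b • e + (b * b) • e) + (e + (a * b) • e + (a * a * (b * b)) • e) +
      (e + (a * a * b) • e + (a * (b * b)) • e) = e + ((b • e + (a * b) • e + (a * a * b) • e) +
      ((b * b) • e + (a * (b * b)) • e + (a * a * (b * b)) • e)) + (e + e) := by abel
  rw [s1, s2, s3, q1, q2] at key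
  simp only [add_zero, hexp] at key
  exact key.symm

theorem card_fix_congr (hE : Nat.card E = 2 ^ 6) {r : ℕ} (hr : r.Prime) {w : D}
    (hw : orderOf w = r) {j : ℕ} (hj : Nat.card (TransLinear.fixSub E w) = 2 ^ j) :
    2 ^ 6 % r = 2 ^ j % r := by
  have h := TransLinear.card_modEq (E := E) hr (hw ▸ pow_orderOf_eq_one w) (U := ⊤)
    fun u _ => AddSubgroup.mem_top _
  rw [top_inf_eq, AddSubgroup.card_top, hE, hj] at h
  exact h

theorem fix_ne_top {r : ℕ} (hr : r.Prime) {w : D} (hw : orderOf w = r) :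
    Nat.card (TransLinear.fixSub E w) ≠ Nat.card E := fun h => by
  have h1 := AddSubgroup.eq_top_of_card_eq _ h
  rw [eq_one_of_fix (E := E) (fun e => h1.ge (AddSubgroup.mem_top e)), orderOf_one] at hw
  exact hr.one_lt.ne hw

namespace Setting

variable {P1 : ℕ → Prop}

/-- A real element of prime order has no fixed points, so its order is three or seven. -/
theorem real_three_seven (S : Setting E P1 (D := D)) (hE : Nat.card E = 2 ^ 6) {x t : D} {r : ℕ}
    (hr : r.Prime) (hr2 : r ≠ 2) (hx : orderOf x = r) (ht : t * x * t⁻¹ = x⁻¹) :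
    r = 3 ∨ r = 7 := by
  have hx1 : x ≠ 1 := fun h => hr.one_lt.ne (by rw [← hx, h, orderOf_one])
  have hfix : TransLinear.fixSub E x = ⊥ := (AddSubgroup.eq_bot_iff_forall _).2 fun e he => by
    by_contra h0
    exact hx1 (S.base.fpf (hx ▸ hr.odd_of_ne_two hr2) ht h0 he)
  have h := card_fix_congr hE hr hx (j := 0) (by rw [hfix, AddSubgroup.card_bot, pow_zero])
  rw [pow_zero] at h
  have h63 : r ∣ 2 ^ 6 - 1 := (Nat.modEq_iff_dvd' (by norm_num)).1 (Eq.symm h)
  rw [show (2 : ℕ) ^ 6 - 1 = 3 ^ 2 * 7 by norm_num] at h63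
  rcases hr.dvd_mul.1 h63 with h3 | h7
  · exact Or.inl ((Nat.prime_dvd_prime_iff_eq hr Nat.prime_three).1 (hr.dvd_of_dvd_pow h3))
  · exact Or.inr ((Nat.prime_dvd_prime_iff_eq hr (by norm_num)).1 h7)

theorem hyp_of_nine (S : Setting E P1 (D := D)) (hE : Nat.card E = 2 ^ 6) {z t : D}
    (hz : orderOf z = 9) (ht : t * z * t⁻¹ = z⁻¹) : ∃ C : Subgroup D, Hyp E C := by
  have h3 : orderOf (z ^ 3) = 3 := by rw [orderOf_pow' z (by norm_num), hz]; norm_num
  have hfix : ∀ e : E, z ^ 3 • e = e → e = 0 := fun e he => by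
    by_contra h0
    have h1 := S.base.fpf (x := z ^ 3) (t := t) (by rw [h3]; exact ⟨1, rfl⟩)
      (by rw [← conj_pow, ht, inv_pow]) h0 he
    rw [h1, orderOf_one] at h3
    omega
  exact ⟨_, S.hyp_of (k := 2) Nat.prime_three (by norm_num) (by rw [hz]; norm_num)
    (fun h => by rw [h, orderOf_one] at hz; omega) ht (irred_nine hE hz hfix)⟩

/-- From a semiregular Sylow 3-subgroup of the centraliser of a real element. -/
theorem hyp_of_sylow_three (S : Setting E P1 (D := D)) (hE : Nat.card E = 2 ^ 6) {x t : D}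
    (hx : Odd (orderOf x)) (hx1 : x ≠ 1) (ht : t * x * t⁻¹ = x⁻¹)
    (h9 : 9 ∣ Nat.card (Subgroup.centralizer ({x} : Set D)))
    (hfree : ∀ w ∈ Subgroup.centralizer ({x} : Set D), orderOf w = 3 →
      ∀ e : E, w • e = e → e = 0) : ∃ C : Subgroup D, Hyp E C := by
  haveI : Fact (Nat.Prime 3) := ⟨Nat.prime_three⟩
  set H : Subgroup D := Subgroup.centralizer {x} with hH
  obtain ⟨T⟩ : Nonempty (Sylow 3 H) := inferInstance
  set R := (T : Subgroup H).map H.subtype with hR
  have hRp : IsPGroup 3 R := T.isPGroup'.map _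
  have hsemi : ∀ g ∈ R, ∀ e : E, e ≠ 0 → g • e = e → g = 1 := by
    intro g hg e he hge
    obtain ⟨k, hk⟩ := IsPGroup.iff_orderOf.1 hRp ⟨g, hg⟩
    rw [Subgroup.orderOf_mk] at hk
    rcases k with _ | k
    · exact orderOf_eq_one_iff.1 (by rw [hk, pow_zero])
    refine absurd (hfree (g ^ 3 ^ k) (pow_mem (Subgroup.map_subtype_le _ hg) _) ?_ e ?_) he
    · rw [orderOf_pow' g (by positivity), hk, Nat.gcd_eq_right (pow_dvd_pow 3 (Nat.le_succ k)),
        pow_succ, Nat.mul_div_cancel_left _ (by positivity)]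
    · have : ∀ i : ℕ, g ^ i • e = e := fun i => by
        induction i with
        | zero => simp
        | succ i ih => rw [pow_succ, mul_smul, hge, ih]
      exact this _
  have hdvd : Nat.card R ∣ 63 := by
    have h := card_dvd_sub_one hsemi (V := (⊤ : AddSubgroup E))
      fun _ _ _ _ => AddSubgroup.mem_top _
    rwa [AddSubgroup.card_top, hE, show (2 : ℕ) ^ 6 - 1 = 63 by norm_num] at h
  have hcard : Nat.card R = 9 := by
    obtain ⟨i, hi⟩ := IsPGroup.iff_card.1 hRp
    have hi2 : i ≤ 2 := by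
      by_contra hgt
      have h27 : 27 ∣ 63 := ((pow_dvd_pow 3 (show 3 ≤ i by omega)).trans (hi ▸ dvd_rfl)).trans hdvd
      norm_num at h27
    have h9' : 3 ^ 2 ∣ Nat.card R := by
      rw [hR, Subgroup.card_map_of_injective H.subtype_injective]
      exact T.pow_dvd_card_of_pow_dvd_card (by rw [show (3 : ℕ) ^ 2 = 9 by norm_num]; exact h9)
    rw [hi] at h9' ⊢
    rw [show i = 2 by
      have := (Nat.pow_dvd_pow_iff_le_right (by norm_num : 1 < 3)).1 h9'
      omega]
    norm_num
  obtain ⟨z, hzR, hz⟩ := exists_order_nine S.base.exp hcard hsemi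
  have hRz : Subgroup.zpowers z = R :=
    Subgroup.eq_of_le_of_card_ge (Subgroup.zpowers_le.2 hzR) (by rw [Nat.card_zpowers, hz, hcard])
  have htH : t ∈ Subgroup.normalizer (H : Set D) := by
    refine Subgroup.mem_normalizer_fintype fun y hy => ?_
    rw [SetLike.mem_coe, hH, Subgroup.mem_centralizer_singleton_iff] at hy ⊢
    have h1 : t * y * t⁻¹ * x⁻¹ = x⁻¹ * (t * y * t⁻¹) := by
      rw [← ht]
      calc t * y * t⁻¹ * (t * x * t⁻¹) = t * (y * x) * t⁻¹ := by group
        _ = t * x * t⁻¹ * (t * y * t⁻¹) := by rw [hy]; group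
    exact (Commute.inv_right_iff.1 h1).eq
  obtain ⟨a, ha, hag⟩ := exists_norm_sylow htH T
  have hgx : a * t * x * (a * t)⁻¹ = x⁻¹ := by
    rw [show a * t * x * (a * t)⁻¹ = a * (t * x * t⁻¹) * a⁻¹ by group, ht,
      (Commute.inv_right (Subgroup.mem_centralizer_singleton_iff.1 ha : Commute a x)).eq,
      mul_inv_cancel_right]
  have hzH : z ∈ H := Subgroup.map_subtype_le _ hzR
  have h3 : orderOf (z ^ 3) = 3 := by rw [orderOf_pow' z (by norm_num), hz]; norm_num
  have hzi := irred_nine hE hz fun e he => hfree (z ^ 3) (pow_mem hzH 3) h3 e he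
  obtain ⟨s, hs⟩ := real_of_normalizes (l := 3) (j := 2) Nat.prime_three (by norm_num)
    (by rw [hz]; norm_num) hzi (Subgroup.mem_centralizer_singleton_iff.1 hzH).symm hx hx1 hgx
    (by rw [hRz]; exact hag)
  exact S.hyp_of_nine hE hz hs

theorem hyp_of_seven (S : Setting E P1 (D := D)) (hE : Nat.card E = 2 ^ 6) (h3 : ¬ P1 3)
    (h9D : 9 ∣ Nat.card D) {x t : D} (hx : orderOf x = 7) (ht : t * x * t⁻¹ = x⁻¹) :
    ∃ C : Subgroup D, Hyp E C := by
  haveI : Fact (Nat.Prime 7) := ⟨by norm_num⟩
  have hx1 : x ≠ 1 := fun h => by rw [h, orderOf_one] at hx; omega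
  have hxo : Odd (orderOf x) := by rw [hx]; exact ⟨3, rfl⟩
  have hcop : Nat.Coprime 9 (Subgroup.centralizer ({x} : Set D)).index := by
    rw [show (9 : ℕ) = 3 ^ 2 by norm_num]
    refine Nat.Coprime.pow_left 2 (Nat.prime_three.coprime_iff_not_dvd.2 fun hd => h3 ?_)
    exact S.real x t 7 1 (by norm_num) (by norm_num) (by rw [hx]; norm_num) hx1 ht 3
      Nat.prime_three hd
  rw [← (Subgroup.centralizer ({x} : Set D)).card_mul_index] at h9D
  refine S.hyp_of_sylow_three hE hxo hx1 ht (hcop.dvd_of_dvd_mul_right h9D) fun w hw hw3 e he => ?_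
  obtain ⟨j, hj, hjc⟩ := (Nat.dvd_prime_pow Nat.prime_two).1
    (hE ▸ (TransLinear.fixSub E w).card_addSubgroup_dvd_card)
  have hinv : ∀ u ∈ TransLinear.fixSub E w, x • u ∈ TransLinear.fixSub E w := fun u hu => by
    rw [TransLinear.mem_fixSub] at hu ⊢
    rw [← mul_smul, Subgroup.mem_centralizer_singleton_iff.1 hw, mul_smul, hu]
  have h7 := TransLinear.card_modEq (E := E) (by norm_num : Nat.Prime 7)
    (hx ▸ pow_orderOf_eq_one x) hinv
  have hfx : TransLinear.fixSub E x = ⊥ := (AddSubgroup.eq_bot_iff_forall _).2 fun v hv => by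
    by_contra h0
    exact hx1 (S.base.fpf hxo ht h0 hv)
  rw [hfx, inf_bot_eq, AddSubgroup.card_bot, hjc] at h7
  have hw' := card_fix_congr hE Nat.prime_three hw3 hjc
  have hne : j ≠ 6 := fun h => fix_ne_top Nat.prime_three hw3 (by rw [hjc, h, hE])
  have hj0 : j = 0 := by
    rw [Nat.ModEq] at h7
    interval_cases j <;> simp_all
  rw [hj0, pow_zero, AddSubgroup.card_eq_one] at hjc
  exact (AddSubgroup.eq_bot_iff_forall _).1 hjc e he

/-- Transitive, with a real element of order three. -/
theorem hyp_of_trans (S : Setting E P1 (D := D)) (hE : Nat.card E = 2 ^ 6) (hn : ∀ g : D,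
    g * g = 1 → g ≠ 1 → Nat.card (TransLinear.fixSub E g) = 2 ^ 3)
    (h63 : Nat.card (Sylow 2 D) = 63) {x t : D} (hx : orderOf x = 3) (ht : t * x * t⁻¹ = x⁻¹) :
    ∃ C : Subgroup D, Hyp E C := by
  classical
  have hx1 : x ≠ 1 := fun h => by rw [h, orderOf_one] at hx; omega
  have hxo : Odd (orderOf x) := by rw [hx]; exact ⟨1, rfl⟩
  have hxF : ∀ e : E, x • e = e → e = 0 := fun e he => by
    by_contra h0
    exact hx1 (S.base.fpf hxo ht h0 he)
  set H : Subgroup D := Subgroup.centralizer {x} with hH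
  have hxH : x ∈ H := Subgroup.mem_centralizer_singleton_iff.2 rfl
  have hodd : Odd (Nat.card H) := by
    rw [Nat.odd_iff, ← Nat.two_dvd_ne_zero]
    intro h2
    haveI : Fact (Nat.Prime 2) := ⟨Nat.prime_two⟩
    obtain ⟨⟨v, hv⟩, hvo⟩ := exists_prime_orderOf_dvd_card' 2 h2
    rw [Subgroup.orderOf_mk] at hvo
    have hv2 : v * v = 1 := by rw [← pow_two, ← hvo, pow_orderOf_eq_one]
    have hc := TransLinear.card_modEq (E := E) Nat.prime_three (hx ▸ pow_orderOf_eq_one x)
      (U := TransLinear.fixSub E v) fun u hu => by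
        rw [TransLinear.mem_fixSub] at hu ⊢
        rw [← mul_smul, Subgroup.mem_centralizer_singleton_iff.1 hv, mul_smul, hu]
    have hfx : TransLinear.fixSub E x = ⊥ := (AddSubgroup.eq_bot_iff_forall _).2 hxF
    rw [hfx, inf_bot_eq, AddSubgroup.card_bot,
      hn v hv2 (fun h => by rw [h, orderOf_one] at hvo; omega)] at hc
    exact absurd hc (by decide)
  have htr : ∀ a b : E, a ≠ 0 → b ≠ 0 → ∃ d : H, d • a = b := by
    intro a b ha hb
    have hi : (MulAction.orbit D a) = {e : E | e ≠ 0} := by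
      refine Set.eq_of_subset_of_ncard_le ?_ ?_ (Set.toFinite _)
      · rintro _ ⟨g, rfl⟩ h
        exact ha ((smul_eq_zero_iff_eq g).1 h)
      · rw [← MulAction.index_stabilizer, ← Nat.card_coe_set_eq]
        refine le_trans ?_ (Nat.le_of_dvd (Nat.pos_of_ne_zero Subgroup.index_ne_zero_of_finite)
          (S.sylow_dvd_index ha))
        have h := card_ne_add_one (0 : E)
        rw [hE] at h
        rw [h63]
        show Nat.card {e : E // e ≠ 0} ≤ 63
        rw [show (2 : ℕ) ^ 6 = 64 from rfl] at h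
        omega
    obtain ⟨g, hg⟩ : b ∈ MulAction.orbit D a := by rw [hi]; exact hb
    obtain ⟨u, hu, hue⟩ := S.trans Nat.prime_three (by norm_num) (k := 1) (by rw [hx]; norm_num)
      hx1 ht g a
    exact ⟨⟨u, hu⟩, hue.symm.trans hg⟩
  obtain ⟨hFc, hFf, hder⟩ :=
    TransLinear.structure_of_transitive hodd Nat.prime_two (two_nsmul_eq S.base.exp) htr
  set F := Cfsg.fittingSubgroup H with hF
  haveI := hFc
  haveI : F.Normal := FittingCores.fitting_normal
  have hCF := TransLinear.centralizer_fitting_le_of_derived hder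
  set x' : H := ⟨x, hxH⟩
  have hxF' : x' ∈ F := hCF (Subgroup.mem_centralizer_iff.2 fun f _ => Subtype.ext
    (Subgroup.mem_centralizer_singleton_iff.1 f.2))
  have hfdvd : Nat.card F ∣ 63 := by
    have h := card_dvd_sub_one (R := F) (E := E) (fun g hg e he h => by
      by_contra h1
      exact he (hFf g hg h1 e h)) (V := (⊤ : AddSubgroup E)) fun _ _ _ _ => AddSubgroup.mem_top _
    rwa [AddSubgroup.card_top, hE, show (2 : ℕ) ^ 6 - 1 = 63 by norm_num] at h
  by_cases h9 : 9 ∣ Nat.card F
  · -- an element of order nine in the Fitting subgroup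
    obtain ⟨f, hf⟩ := IsCyclic.exists_generator (α := F)
    have hfo : orderOf f = Nat.card F := by
      rw [← Nat.card_zpowers, (Subgroup.eq_top_iff' _).2 hf, Subgroup.card_top]
    set z' : F := f ^ (Nat.card F / 9) with hz'
    have hzo : orderOf ((z' : H) : D) = 9 := by
      rw [Subgroup.orderOf_coe, Subgroup.orderOf_coe, hz', ← hfo,
        orderOf_pow_orderOf_div (orderOf_pos f).ne' (hfo ▸ h9)]
    have hfix3 : ∀ e : E, ((z' : H) : D) ^ 3 • e = e → e = 0 := fun e he => by
      by_contra h0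
      have h1 : (z' : H) ^ 3 = 1 := by
        by_contra h2
        exact h0 (hFf _ (pow_mem z'.2 3) h2 e he)
      have h2 : orderOf ((z' : H) : D) ∣ 3 :=
        orderOf_dvd_of_pow_eq_one (congrArg Subtype.val h1)
      rw [hzo] at h2
      norm_num at h2
    have htH : t ∈ Subgroup.normalizer (H : Set D) := by
      refine Subgroup.mem_normalizer_fintype fun y hy => ?_
      rw [SetLike.mem_coe, hH, Subgroup.mem_centralizer_singleton_iff] at hy ⊢
      have h1 : t * y * t⁻¹ * x⁻¹ = x⁻¹ * (t * y * t⁻¹) := by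
        rw [← ht]
        calc t * y * t⁻¹ * (t * x * t⁻¹) = t * (y * x) * t⁻¹ := by group
          _ = t * x * t⁻¹ * (t * y * t⁻¹) := by rw [hy]; group
      exact (Commute.inv_right_iff.1 h1).eq
    let φ : MulAut H :=
      { toFun := fun y => ⟨t * y * t⁻¹, conj_mem htH y.2⟩
        invFun := fun y => ⟨t⁻¹ * y * t, by
          have h := conj_mem (inv_mem htH) y.2
          rwa [inv_inv] at h⟩
        left_inv := fun y => Subtype.ext (by simp [mul_assoc])
        right_inv := fun y => Subtype.ext (by simp [mul_assoc])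
        map_mul' := fun a b => Subtype.ext (by simp [mul_assoc]) }
    have hφF : F.map φ.toMonoidHom ≤ F := by
      refine FittingCores.le_fitting ((inferInstance : F.Normal).map _ φ.surjective) ?_
      haveI := FittingCores.fitting_nilpotent (G := H)
      exact Group.nilpotent_of_mulEquiv (F.equivMapOfInjective _ φ.injective)
    have hz'mem : φ (z' : H) ∈ Subgroup.zpowers (z' : H) :=
      TransLinear.mem_zpowers_of_isCyclic (H := F) z'.2 (hφF ⟨_, z'.2, rfl⟩) (by norm_num : 0 < 9)
        (by rw [← Subgroup.orderOf_coe]; exact hzo)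
        (by
          rw [← map_pow, show (z' : H) ^ 9 = 1 from Subtype.ext (by
            rw [SubmonoidClass.coe_pow, ← hzo, pow_orderOf_eq_one]; rfl), map_one])
    obtain ⟨s, hs⟩ := real_of_normalizes (l := 3) (j := 2) Nat.prime_three (by norm_num)
      (by rw [hzo]; norm_num) (irred_nine hE hzo hfix3)
      (Subgroup.mem_centralizer_singleton_iff.1 (z' : H).2).symm hxo hx1 ht
      (Subgroup.mem_normalizer_fintype fun y hy => by
        obtain ⟨i, rfl⟩ := hy
        rw [SetLike.mem_coe, ← conj_zpow]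
        obtain ⟨k, hk⟩ := Subgroup.mem_zpowers_iff.1 hz'mem
        refine Subgroup.zpow_mem _ ?_ i
        exact ⟨k, congrArg Subtype.val hk⟩)
    exact S.hyp_of_nine hE hzo hs
  -- otherwise the centraliser is regular
  have hH63 : 63 ∣ Nat.card H := by
    have h := TransLinear.sub_one_dvd_card htr
    rwa [hE, show (2 : ℕ) ^ 6 - 1 = 63 by norm_num] at h
  have h3f : 3 ∣ Nat.card F := by
    have h := Subgroup.orderOf_dvd_natCard F hxF'
    rwa [← Subgroup.orderOf_coe, hx] at h
  have hHf : Nat.card H ∣ Nat.card F * Nat.totient (Nat.card F) := by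
    have hker : (MulAut.conjNormal (H := F)).ker ≤ F := fun g hg => hCF
      (Subgroup.mem_centralizer_iff.2 fun f hf => by
        have h1 := congrArg Subtype.val (DFunLike.congr_fun hg ⟨f, hf⟩)
        rw [MulAut.conjNormal_apply] at h1
        exact (mul_inv_eq_iff_eq_mul.1 h1).symm)
    have h1 := (MulAut.conjNormal (H := F)).ker.card_mul_index
    rw [Subgroup.index_ker] at h1
    rw [← h1]
    refine Nat.mul_dvd_mul (Subgroup.card_dvd_of_le hker) ?_
    rw [← IsCyclic.card_mulAut]
    exact Subgroup.card_subgroup_dvd_card _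
  have hf21 : Nat.card F = 3 ∨ Nat.card F = 21 := by
    have hle := Nat.le_of_dvd (by norm_num) hfdvd
    interval_cases hk : Nat.card F <;> omega
  have h21 : Nat.card H = 63 := by
    rcases hf21 with h | h
    · rw [h, Nat.totient_prime Nat.prime_three] at hHf
      have := Nat.le_of_dvd (by norm_num) hHf
      have := Nat.le_of_dvd Nat.card_pos hH63
      omega
    · rw [h, show Nat.totient 21 = 12 by decide, show 21 * 12 = 4 * 63 by norm_num] at hHf
      have hcop : Nat.Coprime (Nat.card H) 4 :=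
        Nat.Coprime.pow_right 2 (Nat.coprime_two_right.2 hodd)
      exact Nat.dvd_antisymm (hcop.dvd_of_dvd_mul_left hHf) hH63
  have hfree : ∀ w ∈ H, ∀ e : E, e ≠ 0 → w • e = e → w = 1 := by
    intro w hw e he hwe
    have hst : MulAction.stabilizer H e = ⊥ := by
      rw [← Subgroup.card_eq_one]
      have hidx : (MulAction.stabilizer H e).index = 63 := by
        rw [MulAction.index_stabilizer, show MulAction.orbit H e = {v : E | v ≠ 0} from ?_,
          ← Nat.card_coe_set_eq]
        · have h := card_ne_add_one (0 : E)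
          rw [hE] at h
          show Nat.card {v : E // v ≠ 0} = 63
          rw [show (2 : ℕ) ^ 6 = 64 from rfl] at h
          omega
        · ext v
          exact ⟨fun ⟨d, hd⟩ h0 => he (by rw [← hd] at h0; exact (smul_eq_zero_iff_eq d).1 h0),
            fun hv => htr e v he hv⟩
      have h := (MulAction.stabilizer H e).index_mul_card
      rw [hidx, h21] at h
      exact Nat.eq_of_mul_eq_mul_left (by norm_num : 0 < 63) (h.trans (mul_one 63).symm)
    have hmem : (⟨w, hw⟩ : H) ∈ MulAction.stabilizer H e := hwe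
    rw [hst, Subgroup.mem_bot] at hmem
    exact congrArg Subtype.val hmem
  exact S.hyp_of_sylow_three hE hxo hx1 ht (h21 ▸ by norm_num) fun w hw hw3 e he => by
    by_contra h0
    rw [hfree w hw e h0 he, orderOf_one] at hw3
    omega

end Setting

end Cfsg.Agent.RealGraph
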