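import Cfsg.Agent.Lib.ThreePrimes.Spread
import Cfsg.Agent.Lib.TwoClosedZJ.Real
import Cfsg.Agent.Lib.Involutions.BaerSuzuki

/-!
# Linear groups in characteristic two whose point stabilisers have a normal Sylow 2-subgroup

Every nonzero vector is fixed by a Sylow 2-subgroup that is normal in its stabiliser.  Real
elements of odd order then have no fixed points, and involutions have fixed spaces of half the
dimension.
-/

set_option autoImplicit false
set_option linter.style.haveILetI false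
set_option linter.unusedSectionVars false

namespace Cfsg.Agent.RealGraph

open Cfsg.Agent
open Cfsg.Agent.ThreePrimes (Spread fixS mem_fixS)

universe u v

variable {D : Type u} [Group D] [Finite D]
variable {E : Type v} [AddCommGroup E] [Finite E] [DistribMulAction D E]

/-- Exponent two, and every nonzero vector is fixed by a Sylow 2-subgroup normal in its
stabiliser. -/
structure Base (D : Type u) (E : Type v) [Group D] [AddCommGroup E] [DistribMulAction D E] :
    Prop where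
  exp : ∀ e : E, e + e = 0
  sp : Spread 2 D E

theorem neg_eq (hexp : ∀ e : E, e + e = 0) (e : E) : -e = e := neg_eq_of_add_eq_zero_left (hexp e)

theorem sub_eq (hexp : ∀ e : E, e + e = 0) (a b : E) : a - b = a + b := by
  rw [sub_eq_add_neg, neg_eq hexp]

theorem two_nsmul_eq (hexp : ∀ e : E, e + e = 0) (e : E) : 2 • e = 0 := by rw [two_nsmul, hexp]

theorem card_two_pow (hexp : ∀ e : E, e + e = 0) : ∃ N, Nat.card E = 2 ^ N := by
  haveI : Fact (Nat.Prime 2) := ⟨Nat.prime_two⟩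
  letI := AddCommGroup.zmodModule (two_nsmul_eq hexp)
  exact ⟨_, (FiniteField.pow_finrank_eq_natCard 2 E).symm⟩

theorem two_dvd_card (hexp : ∀ e : E, e + e = 0) {U : AddSubgroup E} (hU : U ≠ ⊥) :
    2 ∣ Nat.card U := by
  obtain ⟨u, hu, hu0⟩ : ∃ u ∈ U, u ≠ 0 := by
    by_contra hall
    push Not at hall
    exact hU ((AddSubgroup.eq_bot_iff_forall U).2 hall)
  have h2 : addOrderOf (⟨u, hu⟩ : U) = 2 :=
    addOrderOf_eq_prime (Subtype.ext (two_nsmul_eq hexp u)) (fun h => hu0 (congrArg Subtype.val h))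
  exact h2 ▸ addOrderOf_dvd_natCard _

theorem eq_one_of_fix [FaithfulSMul D E] {g : D} (h : ∀ e : E, g • e = e) : g = 1 :=
  eq_of_smul_eq_smul (α := E) fun e => by rw [h e, one_smul]

theorem isPGroup_zpowers {g : D} {k : ℕ} (hg : g ^ 2 ^ k = 1) :
    IsPGroup 2 (Subgroup.zpowers g) := by
  haveI : Fact (Nat.Prime 2) := ⟨Nat.prime_two⟩
  obtain ⟨j, -, hj⟩ := (Nat.dvd_prime_pow Nat.prime_two).1 (orderOf_dvd_of_pow_eq_one hg)
  exact IsPGroup.of_card (n := j) (by rw [Nat.card_zpowers, hj])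

/-- A 2-subgroup fixes a nonzero vector in every nonzero invariant subspace. -/
theorem fix_pos (hexp : ∀ e : E, e + e = 0) {R : Subgroup D} (hR : IsPGroup 2 R) {U : AddSubgroup E}
    (hU : ∀ g ∈ R, ∀ u ∈ U, g • u ∈ U) (hne : U ≠ ⊥) :
    ∃ u ∈ U, u ≠ 0 ∧ ∀ g ∈ R, g • u = u := by
  haveI : Fact (Nat.Prime 2) := ⟨Nat.prime_two⟩
  letI : MulAction R U :=
    { smul := fun g u => ⟨(g : D) • (u : E), hU g g.2 u u.2⟩
      one_smul := fun u => Subtype.ext (one_smul D (u : E))
      mul_smul := fun g g' u => Subtype.ext (mul_smul (g : D) (g' : D) (u : E)) }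
  have h2 : 2 ∣ Nat.card (MulAction.fixedPoints R U) :=
    (Nat.ModEq.dvd_iff (hR.card_modEq_card_fixedPoints U) dvd_rfl).1 (two_dvd_card hexp hne)
  have h0 : (0 : U) ∈ MulAction.fixedPoints R U := fun g => Subtype.ext (smul_zero (g : D))
  haveI : Finite (MulAction.fixedPoints R U) := inferInstance
  haveI : Nonempty (MulAction.fixedPoints R U) := ⟨⟨0, h0⟩⟩
  haveI : Nontrivial (MulAction.fixedPoints R U) := Finite.one_lt_card_iff_nontrivial.1
    (lt_of_lt_of_le one_lt_two (Nat.le_of_dvd Nat.card_pos h2))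
  obtain ⟨⟨⟨u, hu⟩, hfix⟩, hne0⟩ := exists_ne (⟨0, h0⟩ : MulAction.fixedPoints R U)
  exact ⟨u, hu, fun h => hne0 (Subtype.ext (Subtype.ext h)),
    fun g hg => congrArg Subtype.val (hfix ⟨g, hg⟩)⟩

theorem exists_fix [Nontrivial E] (hexp : ∀ e : E, e + e = 0) {R : Subgroup D}
    (hR : IsPGroup 2 R) : ∃ e : E, e ≠ 0 ∧ e ∈ fixS E R := by
  obtain ⟨e, -, he, hfix⟩ := fix_pos hexp hR (U := ⊤) (fun _ _ _ _ => AddSubgroup.mem_top _)
    (by
      obtain ⟨e, he⟩ := exists_ne (0 : E)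
      exact fun h => he ((AddSubgroup.eq_bot_iff_forall _).1 h e (AddSubgroup.mem_top e)))
  exact ⟨e, he, hfix⟩

namespace Base

theorem exists_sylow (hb : Base D E) {e : E} (he : e ≠ 0) :
    ∃ S : Sylow 2 D, e ∈ fixS E (S : Subgroup D) := by
  obtain ⟨S, hS, -⟩ := hb.sp e he
  exact ⟨S, hS⟩

theorem eq (hb : Base D E) {e : E} (he : e ≠ 0) {S T : Sylow 2 D}
    (hS : e ∈ fixS E (S : Subgroup D)) (hT : e ∈ fixS E (T : Subgroup D)) : S = T :=
  haveI : Fact (Nat.Prime 2) := ⟨Nat.prime_two⟩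
  hb.sp.eq he hS hT

theorem stab_le (hb : Base D E) {e : E} (he : e ≠ 0) {S : Sylow 2 D}
    (hS : e ∈ fixS E (S : Subgroup D)) :
    MulAction.stabilizer D e ≤ Subgroup.normalizer ((S : Subgroup D) : Set D) := by
  obtain ⟨T, hT, hTn⟩ := hb.sp e he
  rwa [hb.eq he hS hT]

/-- A 2-element fixing a vector lies in the Sylow subgroup fixing it. -/
theorem mem_sylow (hb : Base D E) {e : E} (he : e ≠ 0) {S : Sylow 2 D}
    (hS : e ∈ fixS E (S : Subgroup D)) {g : D} {k : ℕ} (hg : g ^ 2 ^ k = 1) (hge : g • e = e) :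
    g ∈ (S : Subgroup D) := by
  haveI : Fact (Nat.Prime 2) := ⟨Nat.prime_two⟩
  have h := (isPGroup_zpowers hg).inf_normalizer_sylow S
  have h1 : g ∈ Subgroup.zpowers g ⊓ Subgroup.normalizer ((S : Subgroup D) : Set D) :=
    ⟨Subgroup.mem_zpowers g, hb.stab_le he hS (MulAction.mem_stabilizer_iff.2 hge)⟩
  exact (h.le h1).2

/-- Real elements of odd order have no fixed points. -/
theorem fpf (hb : Base D E) {x t : D} (hx : Odd (orderOf x)) (ht : t * x * t⁻¹ = x⁻¹) {e : E}
    (he : e ≠ 0) (hxe : x • e = e) : x = 1 := by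
  obtain ⟨n, hn, j, hj⟩ := TwoClosedZJ.exists_two_part t
  have ht' := TwoClosedZJ.conj_odd_pow ht hn
  set g := t ^ n
  have hgx : ∀ u ∈ TransLinear.fixSub E x, g • u ∈ TransLinear.fixSub E x := by
    intro u hu
    rw [TransLinear.mem_fixSub] at hu ⊢
    have h1 : x⁻¹ • u = u := by rw [inv_smul_eq_iff, hu]
    have h2 : x * g = g * x⁻¹ := by
      have := congrArg (fun y => x * y * g) ht'
      simp only [mul_assoc, inv_mul_cancel, mul_one, mul_inv_cancel_left] at this
      calc x * g = (g * x⁻¹ * g⁻¹)⁻¹⁻¹ * g := by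
            rw [show g * x⁻¹ * g⁻¹ = (g * x * g⁻¹)⁻¹ by group, ht', inv_inv, inv_inv]
        _ = g * x⁻¹ := by group
    rw [← mul_smul, h2, mul_smul, h1]
  obtain ⟨u, hu, hu0, hfix⟩ := fix_pos hb.exp (isPGroup_zpowers hj)
    (U := TransLinear.fixSub E x) (fun y hy v hv => TransLinear.invariant_zpowers hgx hy v hv)
    (fun h => he ((AddSubgroup.eq_bot_iff_forall _).1 h e (TransLinear.mem_fixSub.2 hxe)))
  obtain ⟨S, hS⟩ := hb.exists_sylow hu0
  have hxN : x ∈ Subgroup.normalizer ((S : Subgroup D) : Set D) :=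
    hb.stab_le hu0 hS (MulAction.mem_stabilizer_iff.2 (TransLinear.mem_fixSub.1 hu))
  have hgS : g ∈ (S : Subgroup D) :=
    hb.mem_sylow hu0 hS hj (hfix g (Subgroup.mem_zpowers g))
  have h1 : g * (x * g⁻¹ * x⁻¹) ∈ (S : Subgroup D) :=
    mul_mem hgS ((Subgroup.mem_normalizer_iff.1 hxN _).1 (inv_mem hgS))
  rw [show g * (x * g⁻¹ * x⁻¹) = (g * x * g⁻¹) * x⁻¹ by group, ht'] at h1
  obtain ⟨i, hi⟩ := S.isPGroup' ⟨_, h1⟩
  have h2 : (x⁻¹ * x⁻¹) ^ 2 ^ i = 1 := congrArg Subtype.val hi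
  rw [← pow_two, ← pow_mul, ← pow_succ', inv_pow, inv_eq_one] at h2
  exact orderOf_eq_one_iff.1 (Nat.eq_one_of_dvd_coprimes
    (Nat.Coprime.pow_right _ (Nat.coprime_two_right.2 hx)) dvd_rfl (orderOf_dvd_of_pow_eq_one h2))

/-- No normal 2-subgroup. -/
theorem eq_bot_of_normal (hb : Base D E) [FaithfulSMul D E] {R : Subgroup D} (hn : R.Normal)
    (hR : IsPGroup 2 R) : R = ⊥ := by
  refine (Subgroup.eq_bot_iff_forall R).2 fun g hg => eq_one_of_fix (E := E) fun e => ?_
  by_cases he : e = 0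
  · rw [he, smul_zero]
  obtain ⟨S, hS⟩ := hb.exists_sylow he
  exact hS g (hR.le_sylow_of_normal S hg)

end Base

/-- Two involutions lie in a common Sylow 2-subgroup or invert a common element of odd prime
order. -/
theorem pair_cases {g h : D} (hg : g * g = 1) (hh : h * h = 1) :
    (∃ S : Sylow 2 D, g ∈ (S : Subgroup D) ∧ h ∈ (S : Subgroup D)) ∨
      ∃ (r : ℕ) (x : D), r.Prime ∧ r ≠ 2 ∧ orderOf x = r ∧ x ∈ Subgroup.zpowers (g * h) ∧
        g * x * g⁻¹ = x⁻¹ ∧ h * x * h⁻¹ = x⁻¹ := by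
  haveI : Fact (Nat.Prime 2) := ⟨Nat.prime_two⟩
  have hgi : g⁻¹ = g := inv_eq_of_mul_eq_one_right hg
  have hhi : h⁻¹ = h := inv_eq_of_mul_eq_one_right hh
  set u := g * h with hu
  have h1 : g * u * g⁻¹ = u⁻¹ := by
    rw [hu, mul_inv_rev, hgi, hhi, ← mul_assoc g g h, hg, one_mul]
  have h2 : h * u * h⁻¹ = u⁻¹ := by
    rw [hu, mul_inv_rev, hgi, hhi, mul_assoc h (g * h) h, mul_assoc g h h, hh, mul_one]
  by_cases hp : ∃ r : ℕ, r.Prime ∧ r ∣ orderOf u ∧ r ≠ 2
  · obtain ⟨r, hr, hru, hr2⟩ := hp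
    refine Or.inr ⟨r, u ^ (orderOf u / r), hr, hr2,
      orderOf_pow_orderOf_div (orderOf_pos u).ne' hru, pow_mem (Subgroup.mem_zpowers u) _, ?_, ?_⟩
    · rw [← conj_pow, h1, inv_pow]
    · rw [← conj_pow, h2, inv_pow]
  push Not at hp
  refine Or.inl ?_
  obtain ⟨j, hj⟩ : ∃ j, orderOf u = 2 ^ j :=
    ⟨_, Nat.eq_prime_pow_of_unique_prime_dvd (orderOf_pos u).ne' fun {d} hd hdu => hp d hd hdu⟩
  have hnorm : Subgroup.zpowers g ≤ Subgroup.normalizer (Subgroup.zpowers u : Set D) := by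
    rw [Subgroup.zpowers_le, Subgroup.mem_normalizer_iff_map_conj_eq, MonoidHom.map_zpowers]
    show Subgroup.zpowers (g * u * g⁻¹) = _
    rw [h1, Subgroup.zpowers_inv]
  have hp2 : IsPGroup 2 (Subgroup.zpowers u ⊔ Subgroup.zpowers g : Subgroup D) :=
    IsPGroup.to_sup_of_normal_left' (IsPGroup.of_card (n := j) (by rw [Nat.card_zpowers, hj]))
      (isPGroup_zpowers (k := 1) (by rw [pow_one, pow_two, hg])) hnorm
  obtain ⟨S, hS⟩ := hp2.exists_le_sylow
  refine ⟨S, hS (Subgroup.mem_sup_right (Subgroup.mem_zpowers g)), hS ?_⟩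
  rw [show h = g * u by rw [hu, ← mul_assoc, hg, one_mul]]
  exact mul_mem (Subgroup.mem_sup_right (Subgroup.mem_zpowers g))
    (Subgroup.mem_sup_left (Subgroup.mem_zpowers u))

/-- An involution inverts an element of odd prime order. -/
theorem Base.exists_inverted (hb : Base D E) [FaithfulSMul D E] {g : D} (hg : g * g = 1)
    (hg1 : g ≠ 1) : ∃ (r : ℕ) (x : D), r.Prime ∧ r ≠ 2 ∧ orderOf x = r ∧ g * x * g⁻¹ = x⁻¹ := by
  haveI : Fact (Nat.Prime 2) := ⟨Nat.prime_two⟩
  by_contra hno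
  push Not at hno
  obtain ⟨N, hN, hNp, hgN⟩ := BaerSuzuki.baerSuzuki (p := 2) (Subgroup.zpowers g)
    (isPGroup_zpowers (k := 1) (by rw [pow_one, pow_two, hg])) fun c => by
    have hcc : c * g * c⁻¹ * (c * g * c⁻¹) = 1 := by
      rw [show c * g * c⁻¹ * (c * g * c⁻¹) = c * (g * g) * c⁻¹ by group, hg, mul_one, mul_inv_cancel]
    rcases pair_cases hg hcc with ⟨S, hgS, hcS⟩ | ⟨r, x, hr, hr2, hx, -, hgx, -⟩
    · refine S.isPGroup'.to_le (sup_le (Subgroup.zpowers_le.2 hgS) ?_)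
      rw [MonoidHom.map_zpowers]
      exact Subgroup.zpowers_le.2 hcS
    · exact absurd hgx (hno r x hr hr2 hx)
  rw [hb.eq_bot_of_normal hN hNp] at hgN
  exact hg1 ((Subgroup.mem_bot).1 (hgN (Subgroup.mem_zpowers g)))

section Half

variable (E) in
/-- The map `e ↦ g • e + e`. -/
def moved (g : D) : E →+ E where
  toFun e := g • e + e
  map_zero' := by simp
  map_add' a b := by rw [smul_add]; abel

theorem ker_moved (hexp : ∀ e : E, e + e = 0) (g : D) :
    (moved E g).ker = TransLinear.fixSub E g := by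
  ext e
  rw [AddMonoidHom.mem_ker, TransLinear.mem_fixSub]
  show g • e + e = 0 ↔ _
  rw [add_eq_zero_iff_eq_neg, neg_eq hexp]

theorem range_moved_le {g : D} (hg : g * g = 1) : (moved E g).range ≤ TransLinear.fixSub E g := by
  rintro _ ⟨e, rfl⟩
  rw [TransLinear.mem_fixSub]
  show g • (g • e + e) = g • e + e
  rw [smul_add, ← mul_smul, hg, one_smul, add_comm]

theorem card_ker_mul_card_range (f : E →+ E) : Nat.card f.ker * Nat.card f.range = Nat.card E := by
  rw [← f.ker.card_mul_index, AddSubgroup.index_ker]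

/-- An involution inverting an element of odd order fixes exactly half of the space. -/
theorem Base.card_fix (hb : Base D E) {g x : D} (hg : g * g = 1) (hx : Odd (orderOf x))
    (hx1 : x ≠ 1) (hgx : g * x * g⁻¹ = x⁻¹) :
    Nat.card (TransLinear.fixSub E g) * Nat.card (TransLinear.fixSub E g) = Nat.card E ∧
      (moved E g).range = TransLinear.fixSub E g := by
  set P := TransLinear.fixSub E g
  have hzero : ∀ v ∈ P, x • v ∈ P → v = 0 := by
    intro v hv hxv
    rw [TransLinear.mem_fixSub] at hv hxv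
    by_contra hv0
    refine hx1 (hb.fpf hx hgx hv0 ?_)
    have h1 : x • v = x⁻¹ • v := by
      calc x • v = g • x • v := hxv.symm
        _ = (g * x * g⁻¹) • g • v := by rw [← mul_smul, ← mul_smul]; congr 1; group
        _ = x⁻¹ • v := by rw [hgx, hv]
    have h2 : (x * x) • v = v := by rw [mul_smul, h1, smul_inv_smul]
    obtain ⟨m, hm⟩ := hx
    have h3 : ∀ i : ℕ, (x ^ (2 * i)) • v = v := fun i => by
      induction i with
      | zero => simp
      | succ i ih => rw [mul_add, pow_add, mul_smul, mul_one, pow_two, h2, ih]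
    have h4 : x ^ orderOf x = 1 := pow_orderOf_eq_one x
    rw [hm, pow_succ'] at h4
    calc x • v = x • (x ^ (2 * m)) • v := by rw [h3]
      _ = v := by rw [← mul_smul, h4, one_smul]
  have hinj : Function.Injective fun p : P × P => (p.1 : E) + x • (p.2 : E) := by
    rintro ⟨a, b⟩ ⟨a', b'⟩ h
    have h1 : (a : E) - a' = x • ((b' : E) - b) := by
      rw [smul_sub, sub_eq_sub_iff_add_eq_add]
      exact h.trans (add_comm _ _)
    have h2 : (b' : E) - b = 0 :=
      hzero _ (P.sub_mem b'.2 b.2) (h1 ▸ P.sub_mem a.2 a'.2)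
    rw [h2, smul_zero, sub_eq_zero] at h1
    exact Prod.ext (Subtype.ext h1) (Subtype.ext (sub_eq_zero.1 h2).symm)
  have hle := Nat.card_le_card_of_injective _ hinj
  rw [Nat.card_prod] at hle
  have h1 := card_ker_mul_card_range (moved E g)
  rw [ker_moved hb.exp] at h1
  have h2 := Nat.le_of_dvd Nat.card_pos (AddSubgroup.card_dvd_of_le (range_moved_le (E := E) hg))
  have h3 : Nat.card (moved E g).range = Nat.card P :=
    le_antisymm h2 (Nat.le_of_mul_le_mul_left (hle.trans h1.ge) Nat.card_pos)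
  exact ⟨by rw [← h1, h3], AddSubgroup.eq_of_le_of_card_ge (range_moved_le hg) h3.ge⟩

end Half

/-- Stabilisers with normal Sylow 2-subgroups of odd index give a spread. -/
theorem spread_of (h : ∀ e : E, e ≠ 0 → ∃ R : Subgroup D, IsPGroup 2 R ∧ ¬ 2 ∣ R.index ∧
    R ≤ MulAction.stabilizer D e ∧ MulAction.stabilizer D e ≤ Subgroup.normalizer (R : Set D)) :
    Spread 2 D E := fun e he => by
  haveI : Fact (Nat.Prime 2) := ⟨Nat.prime_two⟩
  obtain ⟨R, hR, hidx, hle, hn⟩ := h e he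
  exact ⟨hR.toSylow hidx, hle, hn⟩

end Cfsg.Agent.RealGraph
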