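import Cfsg.Agent.Lib.RealGraph.Sylows

/-!
# Subgroups of a group with a regular cyclic subgroup
-/

set_option autoImplicit false
set_option linter.style.haveILetI false
set_option linter.unusedSectionVars false

namespace Cfsg.Agent.RealGraph

open Cfsg.Agent
open Cfsg.Agent.ThreePrimes (Spread fixS mem_fixS)

universe u v

variable {D : Type u} [Group D] [Finite D]
variable {E : Type v} [AddCommGroup E] [Finite E] [DistribMulAction D E]

/-- The stabiliser in a subgroup inherits a normal Sylow 2-subgroup. -/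
theorem Base.sylow_subgroup (hb : Base D E) (H : Subgroup D) {e : E} (he : e ≠ 0) {S : Sylow 2 D}
    (hS : e ∈ fixS E (S : Subgroup D)) (hodd : ¬ 2 ∣ (MulAction.stabilizer H e).index) :
    IsPGroup 2 ((S : Subgroup D).subgroupOf H) ∧ ¬ 2 ∣ ((S : Subgroup D).subgroupOf H).index ∧
      (S : Subgroup D).subgroupOf H ≤ MulAction.stabilizer H e ∧
      MulAction.stabilizer H e ≤
        Subgroup.normalizer (((S : Subgroup D).subgroupOf H : Subgroup H) : Set H) := by
  haveI : Fact (Nat.Prime 2) := ⟨Nat.prime_two⟩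
  set R := (S : Subgroup D).subgroupOf H
  set K := MulAction.stabilizer H e
  refine ⟨?_, ?_, fun g hg => hS g hg, fun g hg => ?_⟩
  · intro g
    obtain ⟨k, hk⟩ := S.isPGroup' ⟨((g : H) : D), g.2⟩
    refine ⟨k, ?_⟩
    rw [← orderOf_dvd_iff_pow_eq_one, ← Subgroup.orderOf_coe, ← Subgroup.orderOf_coe,
      orderOf_dvd_iff_pow_eq_one]
    exact congrArg Subtype.val hk
  · obtain ⟨T⟩ : Nonempty (Sylow 2 K) := inferInstance
    have hle : (T : Subgroup K).map K.subtype ≤ R := by
      rintro _ ⟨t, ht, rfl⟩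
      obtain ⟨k, hk⟩ := T.isPGroup' ⟨t, ht⟩
      exact hb.mem_sylow he hS (k := k)
        (congrArg (fun y : (T : Subgroup K) => (((y : K) : H) : D)) hk) t.2
    intro h2
    have h3 := h2.trans (Subgroup.index_dvd_of_le hle)
    rw [Subgroup.index_map_subtype] at h3
    rcases (Nat.Prime.dvd_mul Nat.prime_two).1 h3 with h4 | h4
    · exact T.not_dvd_index h4
    · exact hodd h4
  · have h1 : (g : D) ∈ Subgroup.normalizer ((S : Subgroup D) : Set D) :=
      hb.stab_le he hS (MulAction.mem_stabilizer_iff.2 (MulAction.mem_stabilizer_iff.1 hg :))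
    exact Subgroup.mem_normalizer_iff.2 fun y => Subgroup.mem_normalizer_iff.1 h1 y

variable [Nontrivial E] [FaithfulSMul D E]

namespace Hyp

variable {C : Subgroup D}

theorem card_orbit_sub (hC : Hyp E C) {H X : Subgroup D} (hXC : X ≤ C) (hXH : X ≤ H) {e : E}
    (he : e ≠ 0) (horb : ∀ a ∈ H, ∃ u ∈ X, a • e = u • e) :
    (MulAction.stabilizer H e).index = Nat.card X := by
  rw [MulAction.index_stabilizer]
  refine (Nat.card_congr (Equiv.ofBijective
    (fun u : X => (⟨(⟨u, hXH u.2⟩ : H) • e, ⟨u, hXH u.2⟩, rfl⟩ : MulAction.orbit H e))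
    ⟨fun u v huv => ?_, ?_⟩)).symm
  · have h : (u : D) • e = (v : D) • e := congrArg Subtype.val huv
    refine Subtype.ext (inv_mul_eq_one.1
      (hC.semireg (mul_mem (inv_mem (hXC u.2)) (hXC v.2)) he ?_))
    rw [mul_smul, ← h, inv_smul_smul]
  · rintro ⟨_, g, rfl⟩
    obtain ⟨u, hu, hue⟩ := horb g g.2
    exact ⟨⟨u, hu⟩, Subtype.ext hue.symm⟩

theorem restrict (hC : Hyp E C) {H : Subgroup D} (hle : C ≤ H) : Hyp E (C.subgroupOf H) where
  cyc := by
    haveI := hC.cyc
    exact isCyclic_of_surjective (Subgroup.subgroupOfEquivOfLe hle).symm.toMonoidHom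
      (MulEquiv.surjective _)
  irr := fun U hU => hC.irr U fun u hu e he => hU ⟨u, hle hu⟩ hu e he
  orb := fun g e => by
    obtain ⟨u, hu, hue⟩ := hC.orb g e
    exact ⟨⟨u, hle hu⟩, hu, hue⟩
  cop := by
    rw [Nat.card_congr (Subgroup.subgroupOfEquivOfLe hle).toEquiv]
    exact hC.cop.coprime_dvd_right ⟨H.index, (Subgroup.relIndex_mul_index hle).symm⟩

theorem base_restrict (hb : Base D E) (hC : Hyp E C) {H : Subgroup D} (hle : C ≤ H) :
    Base H E where
  exp := hb.exp
  sp := spread_of fun e he => by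
    obtain ⟨S, hS⟩ := hb.exists_sylow he
    refine ⟨_, hb.sylow_subgroup H he hS ?_⟩
    rw [hC.card_orbit_sub le_rfl hle he fun a _ => hC.orb a e]
    exact (hC.odd hb).not_two_dvd_nat

end Hyp

end Cfsg.Agent.RealGraph
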