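import Cfsg.Agent.Lib.RealGraph.Torus

/-!
# The Sylow 2-subgroups under the cyclic subgroup
-/

set_option autoImplicit false
set_option linter.style.haveILetI false
set_option linter.unusedSectionVars false

namespace Cfsg.Agent.RealGraph

open Cfsg.Agent
open Cfsg.Agent.ThreePrimes (Spread fixS mem_fixS)
open scoped Pointwise

universe u v

variable {D : Type u} [Group D] [Finite D]
variable {E : Type v} [AddCommGroup E] [Finite E] [DistribMulAction D E]

theorem mem_smul_sylow {g d : D} {S : Sylow 2 D} :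
    d ∈ ((g • S : Sylow 2 D) : Subgroup D) ↔ g⁻¹ * d * g ∈ (S : Subgroup D) := by
  show d ∈ MulAut.conj g • (S : Subgroup D) ↔ _
  rw [Subgroup.mem_pointwise_smul_iff_inv_smul_mem]
  simp [MulAut.smul_def]

theorem smul_mem_fixS {g : D} {S : Sylow 2 D} {e : E} (he : e ∈ fixS E (S : Subgroup D)) :
    g • e ∈ fixS E ((g • S : Sylow 2 D) : Subgroup D) := fun d hd => by
  calc d • g • e = g • (g⁻¹ * d * g) • e := by
        simp only [← mul_smul]; congr 1; group
    _ = g • e := by rw [he _ (mem_smul_sylow.1 hd)]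

theorem exists_sylow_mem {g : D} (hg : g * g = 1) : ∃ S : Sylow 2 D, g ∈ (S : Subgroup D) := by
  obtain ⟨S, hS⟩ := (isPGroup_zpowers (g := g) (k := 1)
    (by rw [pow_one, pow_two, hg])).exists_le_sylow
  exact ⟨S, hS (Subgroup.mem_zpowers g)⟩

/-- A central involution of a Sylow 2-subgroup. -/
theorem exists_central {g : D} (hg : g * g = 1) (hg1 : g ≠ 1) :
    ∃ (S : Sylow 2 D) (h : D), h ∈ (S : Subgroup D) ∧ h * h = 1 ∧ h ≠ 1 ∧
      ∀ s ∈ (S : Subgroup D), s * h = h * s := by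
  haveI : Fact (Nat.Prime 2) := ⟨Nat.prime_two⟩
  obtain ⟨S, hS⟩ := exists_sylow_mem hg
  haveI : Nontrivial (S : Subgroup D) := ⟨⟨⟨g, hS⟩, 1, fun h => hg1 (congrArg Subtype.val h)⟩⟩
  haveI := S.isPGroup'.center_nontrivial
  obtain ⟨j, hj⟩ := IsPGroup.iff_card.1 (S.isPGroup'.to_subgroup (Subgroup.center (S : Subgroup D)))
  have h1 : 1 < Nat.card (Subgroup.center (S : Subgroup D)) := Finite.one_lt_card
  have hj0 : j ≠ 0 := fun h => by rw [hj, h, pow_zero] at h1; omega
  obtain ⟨z, hz⟩ := exists_prime_orderOf_dvd_card' (G := Subgroup.center (S : Subgroup D)) 2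
    (hj ▸ dvd_pow_self 2 hj0)
  refine ⟨S, ((z : (S : Subgroup D)) : D), (z : (S : Subgroup D)).2, ?_, ?_, fun s hs => ?_⟩
  · have h2 := pow_orderOf_eq_one z
    rw [hz, pow_two] at h2
    exact congrArg (fun y : Subgroup.center (S : Subgroup D) => ((y : (S : Subgroup D)) : D)) h2
  · intro h
    have h3 : z = 1 := Subtype.ext (Subtype.ext h)
    rw [h3, orderOf_one] at hz
    omega
  · exact congrArg Subtype.val (Subgroup.mem_center_iff.1 z.2 ⟨s, hs⟩)

/-- A Sylow 2-subgroup has an odd number of involutions. -/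
theorem odd_involutions {S : Sylow 2 D} {h : D} (hS : h ∈ (S : Subgroup D)) (hh : h * h = 1)
    (hh1 : h ≠ 1) (hcen : ∀ s ∈ (S : Subgroup D), s * h = h * s) :
    Odd (Nat.card {g : D // (g * g = 1 ∧ g ≠ 1) ∧ g ∈ (S : Subgroup D)}) := by
  classical
  let T := {g : D // g * g = 1 ∧ g ∈ (S : Subgroup D)}
  have hev : 2 ∣ Nat.card T := by
    refine two_dvd_of_involutive (f := fun g : T => ⟨(g : D) * h, ?_, mul_mem g.2.2 hS⟩)
      (fun g => Subtype.ext (by show (g : D) * h * h = g; rw [mul_assoc, hh, mul_one]))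
      (fun g hg => hh1 (mul_eq_left.1 (congrArg Subtype.val hg)))
    rw [show (g : D) * h * ((g : D) * h) = (g : D) * (h * g) * h by group, ← hcen g g.2.2,
      ← mul_assoc (g : D) g h, g.2.1, one_mul, hh]
  have hT : Nat.card T =
      Nat.card {g : D // (g * g = 1 ∧ g ≠ 1) ∧ g ∈ (S : Subgroup D)} + 1 := by
    rw [← Finite.card_option]
    refine (Nat.card_congr (Equiv.ofBijective (fun o => Option.elim o
      (⟨1, one_mul 1, one_mem _⟩ : T) (fun g => ⟨g.1, g.2.1.1, g.2.2⟩)) ⟨?_, ?_⟩)).symm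
    · intro a b hab
      have hab' := congrArg Subtype.val hab
      rcases a with _ | a <;> rcases b with _ | b <;> simp only [Option.elim] at hab'
      · rfl
      · exact absurd hab'.symm b.2.1.2
      · exact absurd hab' a.2.1.2
      · exact congrArg some (Subtype.ext hab')
    · rintro ⟨g, hg, hgS⟩
      by_cases h1 : g = 1
      · exact ⟨none, Subtype.ext h1.symm⟩
      · exact ⟨some ⟨g, ⟨hg, h1⟩, hgS⟩, rfl⟩
  rw [hT] at hev
  rw [Nat.odd_iff]
  omega

namespace Hyp

variable [Nontrivial E] [FaithfulSMul D E] {C : Subgroup D}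

/-- `C` is transitive on the Sylow 2-subgroups. -/
theorem trans_sylow (hb : Base D E) (hC : Hyp E C) (S T : Sylow 2 D) : ∃ u ∈ C, u • S = T := by
  haveI : Fact (Nat.Prime 2) := ⟨Nat.prime_two⟩
  obtain ⟨g, rfl⟩ := MulAction.exists_smul_eq D S T
  obtain ⟨e, he, hfix⟩ := exists_fix (E := E) hb.exp S.isPGroup'
  obtain ⟨u, hu, hue⟩ := hC.orb g e
  refine ⟨u, hu, hb.eq (e := u • e) ?_ (smul_mem_fixS hfix) ?_⟩
  · rwa [ne_eq, smul_eq_zero_iff_eq]
  · rw [← hue]
    exact smul_mem_fixS hfix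

/-- If `h` lies in two Sylow subgroups conjugate by `u ∈ C` then `u` commutes with `h`. -/
theorem move (hb : Base D E) (hC : Hyp E C) {h u : D} (hhN : h ∈ Subgroup.normalizer (C : Set D))
    (hu : u ∈ C) {S : Sylow 2 D} (hS : h ∈ (S : Subgroup D))
    (huS : h ∈ ((u • S : Sylow 2 D) : Subgroup D)) : u * h = h * u := by
  obtain ⟨e, he, hfix⟩ := exists_fix (E := E) hb.exp S.isPGroup'
  have h1 : h • u • e = u • e := smul_mem_fixS hfix h huS
  have h2 : u⁻¹ * (h * u * h⁻¹) = 1 := by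
    refine hC.semireg (mul_mem (inv_mem hu) (conj_mem hhN hu)) he ?_
    calc (u⁻¹ * (h * u * h⁻¹)) • e = u⁻¹ • h • u • h⁻¹ • e := by simp only [mul_smul]
      _ = u⁻¹ • h • u • e := by rw [hfix h⁻¹ (inv_mem hS)]
      _ = e := by rw [h1, inv_smul_smul]
  have h3 : u = h * u * h⁻¹ := inv_mul_eq_one.1 h2
  calc u * h = h * u * h⁻¹ * h := by rw [← h3]
    _ = h * u := by rw [inv_mul_cancel_right]

/-- An element of `C` fixing a Sylow subgroup commutes with its involutions in the normaliser. -/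
theorem comm_of_smul_eq (hb : Base D E) (hC : Hyp E C) {h u : D}
    (hhN : h ∈ Subgroup.normalizer (C : Set D)) (hu : u ∈ C) {S : Sylow 2 D}
    (hS : h ∈ (S : Subgroup D)) (huS : u • S = S) : u * h = h * u :=
  hC.move hb hhN hu hS (huS.symm ▸ hS)

theorem exists_not_comm (hb : Base D E) (hC : Hyp E C) {h : D} (hh : h * h = 1) (hh1 : h ≠ 1) :
    ∃ u ∈ C, u * h ≠ h * u := by
  by_contra hno
  push Not at hno
  exact hh1 (hC.eq_one_of_sq hb (hC.cent hno) hh)

end Hyp

end Cfsg.Agent.RealGraph
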