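import Cfsg.Agent.Lib.RealGraph.Spread
import Cfsg.Agent.Lib.Solvable.ClassGraph
import Mathlib.FieldTheory.Finite.Basic

/-!
# A cyclic subgroup, irreducible and regular on every orbit, of order prime to its index
-/

set_option autoImplicit false
set_option linter.style.haveILetI false
set_option linter.unusedSectionVars false

namespace Cfsg.Agent.RealGraph

open Cfsg.Agent

universe u v

variable {D : Type u} [Group D] [Finite D]
variable {E : Type v} [AddCommGroup E] [Finite E] [Nontrivial E] [DistribMulAction D E]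
  [FaithfulSMul D E]

/-- The conjugate of a subgroup. -/
def cj (g : D) (C : Subgroup D) : Subgroup D := C.map (MulAut.conj g).toMonoidHom

theorem mem_cj {g y : D} {C : Subgroup D} : y ∈ cj g C ↔ g⁻¹ * y * g ∈ C := by
  constructor
  · rintro ⟨c, hc, rfl⟩
    simpa [mul_assoc] using hc
  · exact fun h => ⟨_, h, by simp [mul_assoc]⟩

theorem card_cj (g : D) (C : Subgroup D) : Nat.card (cj g C) = Nat.card C :=
  (Nat.card_congr (C.equivMapOfInjective _ (MulAut.conj g).injective).toEquiv).symm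

theorem index_cj (g : D) (C : Subgroup D) : (cj g C).index = C.index :=
  Subgroup.index_map_equiv C (MulAut.conj g)

theorem mem_normalizer_cj {g : D} {C : Subgroup D} :
    g ∈ Subgroup.normalizer (C : Set D) ↔ cj g C = C :=
  Subgroup.mem_normalizer_iff_map_conj_eq

theorem conj_mem {g y : D} {C : Subgroup D} (hg : g ∈ Subgroup.normalizer (C : Set D)) (hy : y ∈ C) :
    g * y * g⁻¹ ∈ C :=
  (Subgroup.mem_normalizer_iff.1 hg y).1 hy

/-- All point stabilisers equal: the index divides the number of points. -/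
theorem index_dvd_card_of_stab {H : Type*} [Group H] [Finite H] {α : Type*} [MulAction H α]
    [Finite α] (A : Subgroup H) (h : ∀ a : α, MulAction.stabilizer H a = A) :
    A.index ∣ Nat.card α := by
  classical
  haveI : Fintype (MulAction.orbitRel.Quotient H α) := Fintype.ofFinite _
  rw [Nat.card_congr (MulAction.selfEquivSigmaOrbitsQuotientStabilizer H α), Nat.card_sigma]
  refine Finset.dvd_sum fun ω _ => ?_
  rw [h]
  exact dvd_rfl

/-- A fixed-point-free involution makes the number of points even. -/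
theorem two_dvd_of_involutive {α : Type*} [Finite α] {f : α → α} (hf : Function.Involutive f)
    (hne : ∀ a, f a ≠ a) : 2 ∣ Nat.card α := by
  classical
  haveI := Fintype.ofFinite α
  haveI : Fact (Nat.Prime 2) := ⟨Nat.prime_two⟩
  by_contra h
  have hs : hf.toPerm ^ 2 ^ 1 = 1 := by
    ext a
    simp [pow_two, hf a]
  obtain ⟨a, ha⟩ := Equiv.Perm.exists_fixed_point_of_prime (p := 2) (n := 1)
    (by rwa [← Nat.card_eq_fintype_card]) hs
  exact hne a ha

variable (E) in
/-- The cyclic subgroup `C` is irreducible, meets every orbit regularly and has order prime to its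
index. -/
structure Hyp (C : Subgroup D) : Prop where
  cyc : IsCyclic C
  irr : ∀ U : AddSubgroup E, (∀ u ∈ C, ∀ e ∈ U, u • e ∈ U) → U = ⊥ ∨ U = ⊤
  orb : ∀ (g : D) (e : E), ∃ u ∈ C, g • e = u • e
  cop : (Nat.card C).Coprime C.index

namespace Hyp

variable {C : Subgroup D}

theorem comm (hC : Hyp E C) {a b : D} (ha : a ∈ C) (hb : b ∈ C) : a * b = b * a := by
  haveI := hC.cyc
  letI : CommGroup C := IsCyclic.commGroup
  exact congrArg Subtype.val (mul_comm (⟨a, ha⟩ : C) ⟨b, hb⟩)

theorem fix_eq_bot (hC : Hyp E C) {g : D} (hg : ∀ u ∈ C, u * g = g * u) (hg1 : g ≠ 1) {e : E}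
    (he : g • e = e) : e = 0 := by
  rcases hC.irr (TransLinear.fixSub E g) (fun u hu e he => by
    rw [TransLinear.mem_fixSub] at he ⊢
    rw [← mul_smul, ← hg u hu, mul_smul, he]) with h | h
  · exact (AddSubgroup.eq_bot_iff_forall _).1 h e he
  · refine absurd (eq_one_of_fix (E := E) fun e' => ?_) hg1
    exact h.ge (AddSubgroup.mem_top e')

theorem semireg (hC : Hyp E C) {u : D} (hu : u ∈ C) {e : E} (he : e ≠ 0) (h : u • e = e) :
    u = 1 := by
  by_contra h1
  exact he (hC.fix_eq_bot (fun v hv => hC.comm hv hu) h1 h)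

theorem cent (hC : Hyp E C) {g : D} (hg : ∀ u ∈ C, u * g = g * u) : g ∈ C := by
  obtain ⟨e, he⟩ := exists_ne (0 : E)
  obtain ⟨u, hu, hue⟩ := hC.orb g e
  suffices h : u⁻¹ * g = 1 by rwa [← inv_mul_eq_one.1 h]
  by_contra h1
  refine he (hC.fix_eq_bot (fun v hv => ?_) h1 (by rw [mul_smul, hue, inv_smul_smul]))
  rw [← mul_assoc, hC.comm hv (inv_mem hu), mul_assoc, hg v hv, mul_assoc]

theorem card_orbit (hC : Hyp E C) {e : E} (he : e ≠ 0) :
    (MulAction.stabilizer D e).index = Nat.card C := by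
  rw [MulAction.index_stabilizer]
  refine (Nat.card_congr (Equiv.ofBijective
    (fun u : C => (⟨(u : D) • e, u, rfl⟩ : MulAction.orbit D e)) ⟨fun u v huv => ?_, ?_⟩)).symm
  · have h : (u : D) • e = (v : D) • e := congrArg Subtype.val huv
    refine Subtype.ext (inv_mul_eq_one.1 (hC.semireg (mul_mem (inv_mem u.2) v.2) he ?_))
    rw [mul_smul, ← h, inv_smul_smul]
  · rintro ⟨_, g, rfl⟩
    obtain ⟨u, hu, hue⟩ := hC.orb g e
    exact ⟨⟨u, hu⟩, Subtype.ext hue.symm⟩

theorem card_stab (hC : Hyp E C) {e : E} (he : e ≠ 0) :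
    Nat.card (MulAction.stabilizer D e) = C.index := by
  have h := (MulAction.stabilizer D e).index_mul_card
  rw [hC.card_orbit he, ← C.card_mul_index] at h
  exact Nat.eq_of_mul_eq_mul_left Nat.card_pos h

theorem eq_of_le_normalizer (hC : Hyp E C) {X : Subgroup D} (hX : Nat.card X = Nat.card C)
    (hle : X ≤ Subgroup.normalizer (C : Set D)) : X = C := by
  have h := SolvBasic.card_sup_mul_card_inf (N := C) (H := X) hle
  have h1 := C.card_mul_index
  obtain ⟨k, hk⟩ := Subgroup.card_dvd_of_le (le_sup_left : C ≤ C ⊔ X)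
  have hk1 : k ∣ C.index := by
    have h2 := (C ⊔ X).card_mul_index
    rw [hk, mul_assoc] at h2
    exact Dvd.intro _ (Nat.eq_of_mul_eq_mul_left Nat.card_pos (h2.trans h1.symm))
  have hk2 : k ∣ Nat.card C := by
    rw [hk, hX, mul_assoc] at h
    exact Dvd.intro _ (Nat.eq_of_mul_eq_mul_left Nat.card_pos h)
  rw [Nat.eq_one_of_dvd_coprimes hC.cop hk2 hk1, mul_one] at hk
  have he : C = C ⊔ X := Subgroup.eq_of_le_of_card_ge le_sup_left hk.le
  exact Subgroup.eq_of_le_of_card_ge (he ▸ le_sup_right) hX.ge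

theorem conj (hC : Hyp E C) (g : D) : Hyp E (cj g C) where
  cyc := by
    haveI := hC.cyc
    exact isCyclic_of_surjective (C.equivMapOfInjective _ (MulAut.conj g).injective).toMonoidHom
      (MulEquiv.surjective _)
  irr := fun U hU => by
    let U' : AddSubgroup E :=
      { carrier := {e | g • e ∈ U}
        zero_mem' := by simp [U.zero_mem]
        add_mem' := fun {a b} ha hb => by
          show g • (a + b) ∈ U
          rw [smul_add]; exact U.add_mem ha hb
        neg_mem' := fun {a} ha => by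
          show g • (-a) ∈ U
          rw [smul_neg]; exact U.neg_mem ha }
    have hmem : ∀ e : E, e ∈ U' ↔ g • e ∈ U := fun e => Iff.rfl
    rcases hC.irr U' (fun u hu e he => by
      rw [hmem] at he ⊢
      have h := hU (g * u * g⁻¹) (mem_cj.2 (by simpa [mul_assoc] using hu)) _ he
      rwa [← mul_smul, show g * u * g⁻¹ * g = g * u by group, mul_smul] at h) with h | h
    · refine Or.inl ((AddSubgroup.eq_bot_iff_forall _).2 fun e he => ?_)
      have h1 := (AddSubgroup.eq_bot_iff_forall _).1 h (g⁻¹ • e) (by rwa [hmem, smul_inv_smul])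
      rwa [smul_eq_zero_iff_eq] at h1
    · refine Or.inr ((AddSubgroup.eq_top_iff' _).2 fun e => ?_)
      have h1 := (hmem _).1 (h.ge (AddSubgroup.mem_top (g⁻¹ • e)))
      rwa [smul_inv_smul] at h1
  orb := fun k e => by
    obtain ⟨u, hu, hue⟩ := hC.orb (g⁻¹ * k * g) (g⁻¹ • e)
    refine ⟨g * u * g⁻¹, mem_cj.2 (by simpa [mul_assoc] using hu), ?_⟩
    rw [mul_smul (g * u), mul_smul g, ← hue, ← mul_smul, ← mul_smul]
    congr 1
    group
  cop := by rw [card_cj, index_cj]; exact hC.cop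

theorem odd (hb : Base D E) (hC : Hyp E C) : Odd (Nat.card C) := by
  haveI : Fact (Nat.Prime 2) := ⟨Nat.prime_two⟩
  rw [Nat.odd_iff, ← Nat.two_dvd_ne_zero]
  intro h
  obtain ⟨⟨u, hu⟩, huo⟩ := exists_prime_orderOf_dvd_card' 2 h
  rw [Subgroup.orderOf_mk] at huo
  obtain ⟨e, he, hfix⟩ := exists_fix (E := E) hb.exp
    (R := Subgroup.zpowers u) (IsPGroup.of_card (n := 1) (by rw [Nat.card_zpowers, huo, pow_one]))
  rw [hC.semireg hu he (hfix u (Subgroup.mem_zpowers u)), orderOf_one] at huo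
  omega

theorem eq_one_of_sq (hb : Base D E) (hC : Hyp E C) {u : D} (hu : u ∈ C) (h : u * u = 1) :
    u = 1 := by
  rw [← orderOf_eq_one_iff]
  exact Nat.eq_one_of_dvd_coprimes (Nat.coprime_two_left.2 (hC.odd hb))
    (orderOf_dvd_of_pow_eq_one (by rw [pow_two, h])) (Subgroup.orderOf_dvd_natCard _ hu)

/-- A real element of odd prime order lies in a conjugate of `C`. -/
theorem mem_conj (hb : Base D E) (hC : Hyp E C) {x t : D} {r : ℕ} (hr : r.Prime) (hr2 : r ≠ 2)
    (hx : orderOf x = r) (ht : t * x * t⁻¹ = x⁻¹) : ∃ g : D, x ∈ cj g C := by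
  have hrc : ¬ r ∣ C.index := by
    intro hd
    obtain ⟨e, he⟩ := exists_ne (0 : E)
    have h1 : ¬ r ∣ (MulAction.stabilizer D e).index := by
      rw [hC.card_orbit he]
      exact fun h => hr.one_lt.ne' (Nat.eq_one_of_dvd_coprimes hC.cop h hd)
    obtain ⟨g, hg⟩ := ClassGraph.exists_conj_mem hr h1 (y := x) (k := 1) (by rw [hx, pow_one])
    rw [MulAction.mem_stabilizer_iff] at hg
    have h2 : x • g⁻¹ • e = g⁻¹ • e := by
      calc x • g⁻¹ • e = g⁻¹ • (g * x * g⁻¹) • e := by
            rw [← mul_smul, ← mul_smul]; congr 1; group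
        _ = g⁻¹ • e := by rw [hg]
    have h3 := hb.fpf (hx ▸ hr.odd_of_ne_two hr2) ht
      (fun h => he (by rwa [smul_eq_zero_iff_eq] at h)) h2
    rw [h3, orderOf_one] at hx
    exact hr.one_lt.ne hx
  obtain ⟨g, hg⟩ := ClassGraph.exists_conj_mem hr hrc (y := x) (k := 1) (by rw [hx, pow_one])
  exact ⟨g⁻¹, mem_cj.2 (by rwa [inv_inv])⟩

/-- Two involutions normalising `C` differ by an element of `C`. -/
theorem inv_mul_mem (hb : Base D E) (hC : Hyp E C) {g h : D}
    (hgN : g ∈ Subgroup.normalizer (C : Set D)) (hhN : h ∈ Subgroup.normalizer (C : Set D))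
    (hg : g * g = 1) (hh : h * h = 1) (hg1 : g ≠ 1) (hh1 : h ≠ 1) : g * h ∈ C := by
  classical
  haveI : Finite (AddMonoid.End E) :=
    Finite.of_injective (fun f => (f : E → E)) DFunLike.coe_injective
  let ι := DistribMulAction.toAddMonoidEnd D E
  let R : Subring (AddMonoid.End E) := Subring.centralizer (ι '' (C : Set D))
  have hR : ∀ {r : AddMonoid.End E}, r ∈ R ↔ ∀ f ∈ C, ∀ e : E, f • r e = r (f • e) := by
    intro r
    rw [Subring.mem_centralizer_iff]
    constructor
    · intro h f hf e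
      exact DFunLike.congr_fun (h _ ⟨f, hf, rfl⟩) e
    · rintro h _ ⟨f, hf, rfl⟩
      exact AddMonoidHom.ext (h f hf)
  have hinj : ∀ r : R, r ≠ 0 → ∀ e : E, (r : AddMonoid.End E) e = 0 → e = 0 := by
    intro r hr e he
    let k : E →+ E := (r : AddMonoid.End E)
    rcases hC.irr k.ker (fun u hu w hw => by
      rw [AddMonoidHom.mem_ker] at hw ⊢
      show (r : AddMonoid.End E) (u • w) = 0
      rw [← hR.1 r.2 u hu]
      show u • k w = 0
      rw [hw, smul_zero]) with h0 | h0
    · exact (AddSubgroup.eq_bot_iff_forall _).1 h0 e (AddMonoidHom.mem_ker.2 he)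
    · refine absurd (Subtype.ext (AddMonoidHom.ext fun w => ?_)) hr
      exact AddMonoidHom.mem_ker.1 (h0.ge (AddSubgroup.mem_top w) : w ∈ k.ker)
  haveI : Nontrivial R := ⟨0, 1, fun h => by
    obtain ⟨e, he⟩ := exists_ne (0 : E)
    exact he (DFunLike.congr_fun (congrArg Subtype.val h) e).symm⟩
  haveI : NoZeroDivisors R := ⟨fun {s s'} h => by
    by_cases hs : s = 0
    · exact Or.inl hs
    refine Or.inr (Subtype.ext (AddMonoidHom.ext fun w => hinj s hs _ ?_))
    exact DFunLike.congr_fun (congrArg Subtype.val h) w⟩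
  haveI : IsDomain R := NoZeroDivisors.to_isDomain R
  letI : Field R := (Finite.isDomain_to_isField R).toField
  haveI : CharP R 2 := CharTwo.of_one_ne_zero_of_two_eq_zero one_ne_zero (by
    refine Subtype.ext (AddMonoidHom.ext fun e => ?_)
    rw [← one_add_one_eq_two]
    show e + e = 0
    rw [hb.exp])
  set N := Subgroup.normalizer (C : Set D)
  have hcinv : ∀ (v : N) (r : AddMonoid.End E), r ∈ R → ι v * r * ι (v : D)⁻¹ ∈ R := by
    intro v r hr
    refine hR.2 fun f hf e => ?_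
    show f • (v : D) • r ((v : D)⁻¹ • e) = (v : D) • r ((v : D)⁻¹ • f • e)
    have h1 : f • (v : D) • r ((v : D)⁻¹ • e) =
        (v : D) • ((v : D)⁻¹ * f * v) • r ((v : D)⁻¹ • e) := by
      rw [← mul_smul, ← mul_smul]
      congr 1
      group
    rw [h1, hR.1 hr _ (by simpa using conj_mem (inv_mem v.2) hf), ← mul_smul, ← mul_smul]
    congr 3
    group
  have hvv : ∀ v : D, ι v * ι v⁻¹ = 1 ∧ ι v⁻¹ * ι v = 1 := fun v =>
    ⟨by rw [← map_mul, mul_inv_cancel, map_one], by rw [← map_mul, inv_mul_cancel, map_one]⟩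
  let ψ : N →* (R ≃+* R) :=
    { toFun := fun v =>
        { toFun := fun r => ⟨ι v * (r : AddMonoid.End E) * ι (v : D)⁻¹, hcinv v r r.2⟩
          invFun := fun r => ⟨ι (v : D)⁻¹ * (r : AddMonoid.End E) * ι v, by
            have h := hcinv v⁻¹ r r.2
            rwa [InvMemClass.coe_inv, inv_inv] at h⟩
          left_inv := fun r => Subtype.ext (by
            show ι (v : D)⁻¹ * (ι v * (r : AddMonoid.End E) * ι (v : D)⁻¹) * ι v = r
            simp only [← mul_assoc, (hvv (v : D)).2, one_mul]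
            rw [mul_assoc, (hvv (v : D)).2, mul_one])
          right_inv := fun r => Subtype.ext (by
            show ι v * (ι (v : D)⁻¹ * (r : AddMonoid.End E) * ι v) * ι (v : D)⁻¹ = r
            simp only [← mul_assoc, (hvv (v : D)).1, one_mul]
            rw [mul_assoc, (hvv (v : D)).1, mul_one])
          map_mul' := fun r r' => Subtype.ext (by
            show ι v * ((r : AddMonoid.End E) * r') * ι (v : D)⁻¹ =
              ι v * (r : AddMonoid.End E) * ι (v : D)⁻¹ *
                (ι v * (r' : AddMonoid.End E) * ι (v : D)⁻¹)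
            rw [show ι v * (r : AddMonoid.End E) * ι (v : D)⁻¹ *
                (ι v * (r' : AddMonoid.End E) * ι (v : D)⁻¹) =
              ι v * (r : AddMonoid.End E) * (ι (v : D)⁻¹ * ι v) * r' * ι (v : D)⁻¹ by
                simp only [mul_assoc],
              (hvv (v : D)).2, mul_one]
            simp only [mul_assoc])
          map_add' := fun r r' => Subtype.ext (by
            show ι v * ((r : AddMonoid.End E) + r') * ι (v : D)⁻¹ = _
            rw [mul_add, add_mul]
            rfl) }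
      map_one' := RingEquiv.ext fun r => Subtype.ext (by
        show ι 1 * (r : AddMonoid.End E) * ι (1⁻¹ : D) = r
        rw [inv_one, map_one, one_mul, mul_one])
      map_mul' := fun v w => RingEquiv.ext fun r => Subtype.ext (by
        show ι ((v : D) * w) * (r : AddMonoid.End E) * ι ((v : D) * w)⁻¹ =
          ι v * (ι w * (r : AddMonoid.End E) * ι (w : D)⁻¹) * ι (v : D)⁻¹
        rw [mul_inv_rev, map_mul, map_mul]
        simp only [mul_assoc]) }
  have hker : ∀ v : N, ψ v = 1 → ∀ f ∈ C, f * (v : D) = (v : D) * f := by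
    intro v hv f hf
    have hfR : ι f ∈ R := hR.2 fun g hg e => by
      show g • f • e = f • g • e
      rw [← mul_smul, ← mul_smul, hC.comm hg hf]
    have h3 : ι v * ι f * ι (v : D)⁻¹ = ι f := congrArg Subtype.val (RingEquiv.congr_fun hv ⟨_, hfR⟩)
    have h4 : (v : D) * f * (v : D)⁻¹ = f := eq_of_smul_eq_smul (α := E) fun e => by
      rw [mul_smul, mul_smul]
      exact DFunLike.congr_fun h3 e
    exact (mul_inv_eq_iff_eq_mul.1 h4).symm
  letI : Algebra (ZMod 2) R := ZMod.algebra R 2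
  haveI : Fact (Nat.Prime 2) := ⟨Nat.prime_two⟩
  let e : Gal(R/ZMod 2) ≃* (R ≃+* R) :=
    { toFun := fun σ => σ.toRingEquiv
      invFun := fun σ => AlgEquiv.ofRingEquiv (f := σ) fun x =>
        RingHom.congr_fun (RingHom.ext_zmod (σ.toRingHom.comp (algebraMap (ZMod 2) R))
          (algebraMap (ZMod 2) R)) x
      left_inv := fun σ => AlgEquiv.ext fun _ => rfl
      right_inv := fun σ => RingEquiv.ext fun _ => rfl
      map_mul' := fun σ τ => rfl }
  let φ : N →* Gal(R/ZMod 2) := e.symm.toMonoidHom.comp ψ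
  have hφ2 : ∀ a : D, a ∈ N → a * a = 1 → a ≠ 1 →
      ∀ ha : a ∈ N, orderOf (φ ⟨a, ha⟩) = 2 := by
    intro a _ haa ha1 ha
    refine orderOf_eq_prime (by
      rw [← map_pow, show (⟨a, ha⟩ : N) ^ 2 = 1 from Subtype.ext (by
        rw [SubmonoidClass.coe_pow, pow_two]; exact haa), map_one]) fun h1 => ha1 ?_
    have h2 : ψ ⟨a, ha⟩ = 1 := e.symm.injective (h1.trans (map_one e.symm).symm)
    exact hC.eq_one_of_sq hb (hC.cent (hker _ h2)) haa
  have hog := hφ2 g hgN hg hg1 hgN
  have hoh := hφ2 h hhN hh hh1 hhN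
  have hsq : ∀ a : D, a * a = 1 → ∀ ha : a ∈ N, φ ⟨a, ha⟩ ^ 2 = 1 := fun a haa ha => by
    rw [← map_pow, show (⟨a, ha⟩ : N) ^ 2 = 1 from Subtype.ext (by
      rw [SubmonoidClass.coe_pow, pow_two]; exact haa), map_one]
  have heq : φ ⟨g, hgN⟩ = φ ⟨h, hhN⟩ := by
    have h1 := TransLinear.mem_zpowers_of_isCyclic (H := (⊤ : Subgroup Gal(R/ZMod 2)))
      (Subgroup.mem_top (φ ⟨g, hgN⟩)) (Subgroup.mem_top (φ ⟨h, hhN⟩)) two_pos hog
      (hsq h hh hhN)
    obtain ⟨i, hi⟩ := h1
    rcases Int.even_or_odd i with ⟨k, rfl⟩ | ⟨k, rfl⟩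
    · exfalso
      have h2 : φ ⟨h, hhN⟩ = 1 := by
        rw [← hi]
        show φ ⟨g, hgN⟩ ^ (k + k) = 1
        rw [← two_mul, zpow_mul, show φ ⟨g, hgN⟩ ^ (2 : ℤ) = 1 by
          rw [zpow_ofNat]; exact hsq g hg hgN, one_zpow]
      rw [h2, orderOf_one] at hoh
      omega
    · rw [← hi]
      show φ ⟨g, hgN⟩ = φ ⟨g, hgN⟩ ^ (2 * k + 1)
      rw [zpow_add, zpow_mul, show φ ⟨g, hgN⟩ ^ (2 : ℤ) = 1 by
          rw [zpow_ofNat]; exact hsq g hg hgN, one_zpow, one_mul, zpow_one]
  refine hC.cent (hker (⟨g, hgN⟩ * ⟨h, hhN⟩) (e.symm.injective ?_))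
  show φ (⟨g, hgN⟩ * ⟨h, hhN⟩) = e.symm 1
  rw [map_mul, heq, ← pow_two, map_one]
  exact hsq h hh hhN

/-- Involutions normalising `C` are conjugate under `C`. -/
theorem inv_conj (hb : Base D E) (hC : Hyp E C) {g h : D}
    (hgN : g ∈ Subgroup.normalizer (C : Set D)) (hhN : h ∈ Subgroup.normalizer (C : Set D))
    (hg : g * g = 1) (hh : h * h = 1) (hg1 : g ≠ 1) (hh1 : h ≠ 1) :
    ∃ v ∈ C, g = v * h * v⁻¹ := by
  set u := g * h with hu
  have huC : u ∈ C := hC.inv_mul_mem hb hgN hhN hg hh hg1 hh1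
  have hhi : h⁻¹ = h := inv_eq_of_mul_eq_one_right hh
  have hgi : g⁻¹ = g := inv_eq_of_mul_eq_one_right hg
  have h1 : h * u * h⁻¹ = u⁻¹ := by
    rw [hu, mul_inv_rev, hgi, hhi, mul_assoc h (g * h) h, mul_assoc g h h, hh, mul_one]
  obtain ⟨m, hm⟩ : Odd (orderOf u) :=
    (hC.odd hb).of_dvd_nat (Subgroup.orderOf_dvd_natCard _ huC)
  have h3 : u ^ (m + 1) * u ^ (m + 1) = u := by
    rw [← pow_add, show m + 1 + (m + 1) = orderOf u + 1 by omega, pow_succ, pow_orderOf_eq_one,
      one_mul]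
  have h2 : h * (u ^ (m + 1))⁻¹ = u ^ (m + 1) * h := by
    calc h * (u ^ (m + 1))⁻¹ = (h * (u ^ (m + 1))⁻¹ * h⁻¹) * h := by group
      _ = u ^ (m + 1) * h := by rw [← conj_inv, ← conj_pow, h1, inv_pow, inv_inv]
  refine ⟨u ^ (m + 1), pow_mem huC _, ?_⟩
  calc g = u * h := by rw [hu, mul_assoc, hh, mul_one]
    _ = u ^ (m + 1) * (h * (u ^ (m + 1))⁻¹) := by rw [h2, ← mul_assoc, h3]
    _ = u ^ (m + 1) * h * (u ^ (m + 1))⁻¹ := (mul_assoc _ _ _).symm

end Hyp

end Cfsg.Agent.RealGraph
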